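import Mathlib

/-!
# Embedding extension fields into commutative subalgebras, and module structures
-/

set_option autoImplicit false
set_option linter.unusedSectionVars false

namespace CfsgLib.Known.CoverTwo

open Polynomial

variable {F : Type*} [Field F] [Fintype F] {E : Type*} [Field E] [Finite E] [Algebra F E]

theorem aeval_mk_eq {A : Type*} [CommRing A] [Algebra F A] (I : Ideal A) (f : F[X]) (a : A) :
    aeval (Ideal.Quotient.mk I a) f = Ideal.Quotient.mk I (aeval a f) := by
  rw [← Ideal.Quotient.mkₐ_eq_mk F, aeval_algHom_apply]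

/-- A finite algebra whose residue degrees are all divisible by `[E : F]` contains a copy of `E`. -/
theorem nonempty_algHom_of_residue {A : Type*} [CommRing A] [Algebra F A] [Finite A]
    (h : ∀ P : Ideal A, P.IsMaximal → Module.finrank F E ∣ Module.finrank F (A ⧸ P)) :
    Nonempty (E →ₐ[F] A) := by
  classical
  obtain ⟨α, hα⟩ := Field.exists_primitive_element F E
  haveI : Module.Finite F E := Module.Finite.of_finite
  set f := minpoly F α with hf
  have hroot : ∀ P : MaximalSpectrum A, ∃ x : A ⧸ P.asIdeal, aeval x f = 0 := fun P => by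
    haveI := P.isMaximal
    letI := Ideal.Quotient.field P.asIdeal
    haveI : Finite (A ⧸ P.asIdeal) := Quotient.finite _
    obtain ⟨φ⟩ := (FiniteField.nonempty_algHom_iff_finrank_dvd (F := F) (K := E) (L := A ⧸ P.asIdeal)).2
      (h P.asIdeal P.isMaximal)
    exact ⟨φ α, by rw [aeval_algHom_apply, hf, minpoly.aeval, map_zero]⟩
  choose x hx using hroot
  obtain ⟨y, hy⟩ := (IsArtinianRing.quotNilradicalEquivPi A).surjective x
  obtain ⟨θ₀, rfl⟩ := Ideal.Quotient.mk_surjective y
  have hnil : IsNilpotent (aeval θ₀ f) := by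
    rw [← mem_nilradical, IsArtinianRing.nilradical_eq_iInf, Ideal.mem_iInf]
    intro P
    have h1 : Ideal.Quotient.mk P.asIdeal θ₀ = x P := by rw [← hy]; rfl
    rw [← Ideal.Quotient.eq_zero_iff_mem, ← aeval_mk_eq, h1, hx]
  obtain ⟨k, hk⟩ := hnil
  let Φ := FiniteField.frobeniusAlgHom F A ^ k
  have hΦ : ∀ a : A, Φ a = a ^ Fintype.card F ^ k := fun a => by
    simp [Φ, AlgHom.coe_pow, FiniteField.coe_frobeniusAlgHom, pow_iterate]
  have hθ : aeval (Φ θ₀) f = 0 := by
    rw [aeval_algHom_apply, hΦ]
    exact pow_eq_zero_of_le (Nat.lt_pow_self Fintype.one_lt_card).le hk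
  let pb := IntermediateField.adjoin.powerBasis (IsIntegral.of_finite F α)
  let e : IntermediateField.adjoin F {α} ≃ₐ[F] E :=
    (IntermediateField.equivOfEq hα).trans IntermediateField.topEquiv
  refine ⟨(pb.lift (Φ θ₀) ?_).comp e.symm.toAlgHom⟩
  rw [IntermediateField.adjoin.powerBasis_gen, IntermediateField.minpoly_gen]
  exact hθ

/-- Linear coordinates adapted to an embedding of a field into endomorphisms. -/
theorem exists_coords {V : Type*} [AddCommGroup V] [Module F V] [Module.Finite F V] (ι : E →ₐ[F] Module.End F V)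
    {r : ℕ} (hr : Module.finrank F V = r * Module.finrank F E) :
    ∃ Φ : (Fin r → E) ≃ₗ[F] V, ∀ (e : E) (z : Fin r → E), Φ (e • z) = ι e (Φ z) := by
  letI : Module E V := Module.compHom V ι.toRingHom
  haveI : IsScalarTower F E V := ⟨fun a e v => by
    show ι (a • e) v = a • ι e v
    rw [map_smul, LinearMap.smul_apply]⟩
  haveI : Module.Finite E V := Module.Finite.of_restrictScalars_finite F E V
  haveI : Module.Finite F E := Module.Finite.of_finite
  have h2 := Module.finrank_mul_finrank F E V
  have hr' : Module.finrank E V = r := by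
    have : 0 < Module.finrank F E := Module.finrank_pos
    rw [hr, mul_comm r] at h2
    exact Nat.eq_of_mul_eq_mul_left this h2
  let b := (Module.finBasisOfFinrankEq E V hr').equivFun.symm
  exact ⟨b.restrictScalars F, fun e z => b.map_smul e z⟩

/-- The scalar action as linear maps. -/
noncomputable def diagOne {r : ℕ} (e : Eˣ) : (Fin (r + 1) → E) ≃ₗ[F] (Fin (r + 1) → E) :=
  (LinearEquiv.piCongrRight (Function.update (fun _ => (1 : E ≃ₗ[E] E)) 0
    (LinearEquiv.smulOfUnit e))).restrictScalars F

theorem det_diagOne {r : ℕ} (e : Eˣ) :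
    LinearMap.det ((diagOne (F := F) (r := r) e : _ ≃ₗ[F] _) : (Fin (r + 1) → E) →ₗ[F] _) =
      Algebra.norm F (e : E) := by
  haveI : Module.Free F E := Module.Free.of_divisionRing F E
  by_cases hfin : Module.Finite F E
  swap
  · rw [Algebra.norm_eq_one_of_not_module_finite hfin, LinearMap.det_eq_one_of_not_module_finite]
    intro h
    exact hfin (Module.Finite.of_surjective (LinearMap.proj (0 : Fin (r + 1))) (fun x => ⟨fun _ => x, rfl⟩))
  have : ((diagOne (F := F) (r := r) e : _ ≃ₗ[F] _) : (Fin (r + 1) → E) →ₗ[F] _) =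
      LinearMap.pi (fun i => (if i = 0 then Algebra.lmul F E (e : E) else 1).comp (LinearMap.proj i)) := by
    refine LinearMap.ext fun z => funext fun i => ?_
    rcases eq_or_ne i 0 with rfl | hi
    · simp [diagOne]
      rfl
    · simp [diagOne, hi]
  rw [this, LinearMap.det_pi, Fin.prod_univ_succ]
  simp [Algebra.norm_apply]

theorem diagOne_smul {r : ℕ} (e : Eˣ) (c : E) (z : Fin (r + 1) → E) :
    diagOne (F := F) e (c • z) = c • diagOne (F := F) e z := by
  simp only [diagOne, LinearEquiv.restrictScalars_apply, map_smul]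

/-- Two embeddings of a field into endomorphisms are conjugate by an element of determinant one. -/
theorem exists_conj_det_one {V : Type*} [AddCommGroup V] [Module F V] [Module.Finite F V]
    (ι ι' : E →ₐ[F] Module.End F V) {r : ℕ} (hr : Module.finrank F V = (r + 1) * Module.finrank F E) :
    ∃ P : V ≃ₗ[F] V, LinearMap.det (P : V →ₗ[F] V) = 1 ∧ ∀ (e : E) (v : V), P (ι e v) = ι' e (P v) := by
  haveI : Module.Finite F E := Module.Finite.of_finite
  obtain ⟨Φ, hΦ⟩ := exists_coords ι hr
  obtain ⟨Φ', hΦ'⟩ := exists_coords ι' hr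
  set d := LinearMap.det ((Φ.symm.trans Φ' : V ≃ₗ[F] V) : V →ₗ[F] V)
  have hd : d ≠ 0 := (LinearEquiv.isUnit_det' _).ne_zero
  obtain ⟨e, he⟩ := FiniteField.norm_surjective F E d⁻¹
  have he0 : e ≠ 0 := fun h => by rw [h, Algebra.norm_zero] at he; exact inv_ne_zero hd he.symm
  let D : V ≃ₗ[F] V := Φ.symm.trans ((diagOne (F := F) (Units.mk0 e he0)).trans Φ)
  refine ⟨D.trans (Φ.symm.trans Φ'), ?_, fun c v => ?_⟩
  · rw [LinearEquiv.coe_trans, LinearMap.det_comp,
      show LinearMap.det (D : V →ₗ[F] V) = Algebra.norm F e by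
        have hD : (D : V →ₗ[F] V) = (Φ : (Fin (r + 1) → E) →ₗ[F] V) ∘ₗ
            ((diagOne (F := F) (r := r) (Units.mk0 e he0) : (Fin (r + 1) → E) ≃ₗ[F] _) :
              (Fin (r + 1) → E) →ₗ[F] _) ∘ₗ (Φ.symm : V →ₗ[F] (Fin (r + 1) → E)) := rfl
        rw [hD, LinearMap.det_conj, det_diagOne]
        rfl, he, mul_inv_cancel₀ hd]
  · obtain ⟨z, rfl⟩ := Φ.surjective v
    simp [D, ← hΦ, ← hΦ', diagOne_smul]

/-- The endomorphism algebra of an even-dimensional space contains an extension field. -/
theorem exists_embedding {V : Type*} [AddCommGroup V] [Module F V] [Module.Finite F V] {r : ℕ}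
    (hr : Module.finrank F V = r * Module.finrank F E) : Nonempty (E →ₐ[F] Module.End F V) := by
  haveI : Module.Finite F E := Module.Finite.of_finite
  have h : Module.finrank F (Fin r → E) = Module.finrank F V := by
    rw [hr, Module.finrank_pi_fintype]
    simp
  exact ⟨(LinearEquiv.conjAlgEquiv F (LinearEquiv.ofFinrankEq (R := F) _ _ h)).toAlgHom.comp
    (Algebra.lsmul F F (Fin r → E))⟩

end CfsgLib.Known.CoverTwo
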