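import Mathlib

/-!
# Covering a group by the conjugates of two proper subgroups: quotient transfer
-/

set_option autoImplicit false

namespace CfsgLib.Known.CoverTwo

variable {G : Type*} [Group G]

/-- The group is the union of the conjugates of two proper subgroups. -/
abbrev Covered (G : Type*) [Group G] : Prop :=
  ∃ H K : Subgroup G, H ≠ ⊤ ∧ K ≠ ⊤ ∧ ∀ g : G, ∃ x : G, x * g * x⁻¹ ∈ H ∨ x * g * x⁻¹ ∈ K

theorem map_mk_ne_top {N : Subgroup G} [N.Normal] {H : Subgroup G} (hN : N ≤ H) (hH : H ≠ ⊤) :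
    H.map (QuotientGroup.mk' N) ≠ ⊤ := by
  intro h
  apply hH
  have h1 := congrArg (Subgroup.comap (QuotientGroup.mk' N)) h
  rw [Subgroup.comap_map_eq, QuotientGroup.ker_mk', Subgroup.comap_top, sup_eq_left.2 hN] at h1
  exact h1

/-- A covering by subgroups containing a normal subgroup passes to the quotient. -/
theorem covered_quotient {N : Subgroup G} [N.Normal] (H K : Subgroup G) (hNH : N ≤ H) (hNK : N ≤ K)
    (hH : H ≠ ⊤) (hK : K ≠ ⊤) (hcov : ∀ g : G, ∃ x : G, x * g * x⁻¹ ∈ H ∨ x * g * x⁻¹ ∈ K) :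
    Covered (G ⧸ N) := by
  refine ⟨H.map (QuotientGroup.mk' N), K.map (QuotientGroup.mk' N), map_mk_ne_top hNH hH,
    map_mk_ne_top hNK hK, fun g => ?_⟩
  obtain ⟨g, rfl⟩ := QuotientGroup.mk'_surjective N g
  obtain ⟨x, hx⟩ := hcov g
  refine ⟨QuotientGroup.mk' N x, hx.imp (fun h => ?_) (fun h => ?_)⟩
  · simpa using Subgroup.mem_map_of_mem (QuotientGroup.mk' N) h
  · simpa using Subgroup.mem_map_of_mem (QuotientGroup.mk' N) h

/-- Point stabilisers: covering from invariant objects. -/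
theorem conj_mem_stabilizer {α : Type*} [MulAction G α] {g x : G} {a b : α} (hg : g • a = a) (hx : x • a = b) :
    x * g * x⁻¹ ∈ MulAction.stabilizer G b := by
  rw [MulAction.mem_stabilizer_iff, mul_smul, mul_smul, ← hx, inv_smul_smul, hg]

/-- Coverings transfer along isomorphisms. -/
theorem covered_of_equiv {G H : Type*} [Group G] [Group H] (e : G ≃* H) (h : Covered H) : Covered G := by
  obtain ⟨A, B, hA, hB, hcov⟩ := h
  have key : ∀ S : Subgroup H, S ≠ ⊤ → S.comap e.toMonoidHom ≠ ⊤ := fun S hS hc => hS (by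
    rw [← Subgroup.comap_top e.toMonoidHom] at hc
    exact Subgroup.comap_injective e.surjective hc)
  refine ⟨_, _, key A hA, key B hB, fun g => ?_⟩
  obtain ⟨y, hy⟩ := hcov (e g)
  refine ⟨e.symm y, ?_⟩
  simpa [Subgroup.mem_comap] using hy

end CfsgLib.Known.CoverTwo
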