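import Cfsg.Agent.Lib.Known.CoverTwo.Basic
import Cfsg.Agent.Lib.Known.G2Oct.Trace
import Cfsg.Agent.Lib.Known.QuadClassify

/-!
# `G₂(q)`, `q` even: every automorphism fixes a quadratic étale subalgebra
-/

set_option autoImplicit false
set_option linter.unusedSectionVars false
set_option linter.unusedSimpArgs false
set_option linter.style.haveILetI false

namespace CfsgLib.Known.CoverTwo

open Cfsg.Lie (G2 zornMul zA zB dot3 cross3)
open CfsgLib.Classical.SylowAb.Octonion CfsgLib.Known.G2Oct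
open scoped Matrix

variable {F : Type*} [Field F]

theorem act_inv_apply (g : G2 F) (x : Fin 8 → F) : act g⁻¹ (act g x) = x := by
  rw [← LinearEquiv.mul_apply, ← map_mul, inv_mul_cancel, map_one]; rfl

theorem act_mul_apply' (g h : G2 F) (x : Fin 8 → F) : act (g * h) x = act g (act h x) := by
  rw [map_mul, LinearEquiv.mul_apply]

/-- The stabiliser of the subalgebra generated by an element of trace one. -/
noncomputable def classStab (a : Fin 8 → F) : Subgroup (G2 F) where
  carrier := {g | ∃ k : F, act g a = a + k • oneO F}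
  mul_mem' := by
    rintro g h ⟨k, hk⟩ ⟨l, hl⟩
    exact ⟨k + l, by rw [act_mul_apply', hl, map_add, map_smul, act_oneO, hk, add_smul, add_assoc]⟩
  one_mem' := ⟨0, by rw [map_one, zero_smul, add_zero]; rfl⟩
  inv_mem' := by
    rintro g ⟨k, hk⟩
    refine ⟨-k, ?_⟩
    conv_lhs => rw [show a = act g a - k • oneO F by rw [hk, add_sub_cancel_right]]
    rw [map_sub, act_inv_apply, map_smul, act_oneO, neg_smul, sub_eq_add_neg]

/-- An automorphism fixes the class of some trace-one element modulo scalars. -/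
theorem exists_fixed_class [CharP F 2] (g : G2 F) :
    ∃ (a : Fin 8 → F) (k : F), tr a = 1 ∧ act g a = a + k • oneO F := by
  classical
  by_contra hcon
  push Not at hcon
  let T : (Fin 8 → F) →ₗ[F] (Fin 8 → F) := (act g : (Fin 8 → F) →ₗ[F] (Fin 8 → F)) - LinearMap.id
  let U : Submodule F (Fin 8 → F) := Submodule.comap T (Submodule.span F {oneO F})
  have hU : ∀ x ∈ U, tr x = 0 := fun x hx => by
    by_contra h0
    obtain ⟨k, hk⟩ := Submodule.mem_span_singleton.1 hx
    refine hcon ((tr x)⁻¹ • x) ((tr x)⁻¹ * k) (by rw [tr_smul, inv_mul_cancel₀ h0]) ?_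
    have h1 : act g x = x + k • oneO F := by rw [hk]; simp [T]
    rw [map_smul, h1, smul_add, smul_smul]
  let trL : (Fin 8 → F) →ₗ[F] F := { toFun := tr, map_add' := tr_add, map_smul' := tr_smul }
  obtain ⟨φ, hφ⟩ : ∃ φ : (Fin 8 → F) →ₗ[F] F, φ (oneO F) = 0 ∧ ∀ x, tr x = φ (T x) := by
    let N := Submodule.span F {oneO F}
    let π := N.mkQ.comp T
    obtain ⟨ψ, hψ⟩ : ∃ ψ : ((Fin 8 → F) ⧸ N) →ₗ[F] F, ∀ x, tr x = ψ (π x) := by
      obtain ⟨ψ, hψ⟩ := LinearMap.exists_extend
        ((Submodule.liftQ (LinearMap.ker π) trL (fun x hx => hU x (by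
          simpa [U, π, N, Submodule.Quotient.mk_eq_zero] using hx))).comp
          (π.quotKerEquivRange.symm : LinearMap.range π →ₗ[F] _))
      refine ⟨ψ, fun x => ?_⟩
      have h1 := LinearMap.congr_fun hψ ⟨π x, LinearMap.mem_range_self π x⟩
      simp only [LinearMap.comp_apply, Submodule.subtype_apply, LinearEquiv.coe_coe] at h1
      rw [h1, LinearMap.quotKerEquivRange_symm_apply_image]
      rfl
    exact ⟨ψ.comp N.mkQ, by simp [N, (Submodule.Quotient.mk_eq_zero _).2
      (Submodule.mem_span_singleton_self (oneO F))], hψ⟩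
  -- represent the functional by the trace form
  let β : (Fin 8 → F) →ₗ[F] Module.Dual F (Fin 8 → F) := LinearMap.mk₂ F (fun x y => tr (zornMul x y))
    (fun x x' y => by rw [zornMul_add_left, tr_add]) (fun r x y => by rw [zornMul_smul_left, tr_smul]; rfl)
    (fun x y y' => by rw [zornMul_add_right, tr_add]) (fun r x y => by rw [zornMul_smul_right, tr_smul]; rfl)
  have hinj : Function.Injective β := by
    rw [injective_iff_map_eq_zero]
    intro x hx
    by_contra h0
    obtain ⟨y, hy⟩ := exists_tr_mul_ne_zero h0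
    exact hy (LinearMap.congr_fun hx y)
  obtain ⟨c, hc⟩ := (LinearMap.injective_iff_surjective_of_finrank_eq_finrank
    (Subspace.dual_finrank_eq).symm).1 hinj φ
  have hc' : ∀ x, φ x = tr (zornMul c x) := fun x => by rw [← hc]; rfl
  have htc : tr c = 0 := by
    have h := hφ.1
    rw [hc', mul_oneO] at h
    exact h
  have hd : act g⁻¹ c = c + oneO F := by
    refine sub_eq_zero.1 (by_contra fun h0 => ?_)
    obtain ⟨y, hy⟩ := exists_tr_mul_ne_zero h0
    refine hy ?_
    have h1 := hφ.2 y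
    rw [hc'] at h1
    have h2 : tr (zornMul c (act g y)) = tr (zornMul (act g⁻¹ c) y) := by
      conv_rhs => rw [← tr_act g, act_mul_apply, ← act_mul_apply', mul_inv_cancel, map_one]
      rfl
    have e1 : T y = act g y + y := by
      rw [show T y = act g y - y from rfl]
      exact funext fun i => CharTwo.sub_eq_add _ _
    rw [e1, zornMul_add_right, tr_add, h2] at h1
    have e2 : act g⁻¹ c - (c + oneO F) = act g⁻¹ c + c + oneO F := by
      funext i
      simp only [Pi.sub_apply, Pi.add_apply, CharTwo.sub_eq_add]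
      ring
    rw [e2, zornMul_add_left, zornMul_add_left, tr_add, tr_add, one_mulO]
    linear_combination CharTwo.add_self_eq_zero (tr y) - h1
  have hn := nm_act g⁻¹ c
  rw [hd, polar, mul_oneO, htc] at hn
  have : nm (oneO F) = 1 := by simp [nm, oneO, zVec, zA, zB, dot3]
  rw [this] at hn
  simp [htc] at hn

theorem nm_shift [CharP F 2] {a : Fin 8 → F} (ha : tr a = 1) (t : F) :
    tr (a + t • oneO F) = 1 ∧ nm (a + t • oneO F) = t ^ 2 + t + nm a := by
  have h1 : nm (oneO F) = 1 := by simp [nm, oneO, zVec, zA, zB, dot3]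
  refine ⟨by rw [tr_add, tr_smul, tr_oneO, ha, CharTwo.two_eq_zero (R := F), mul_zero, add_zero], ?_⟩
  rw [polar, nm_smul, h1, tr_smul, tr_oneO, zornMul_smul_right, mul_oneO, tr_smul, ha]
  linear_combination (t - t + 0) * CharTwo.two_eq_zero (R := F)

/-- The standard element of trace one and norm `ζ`. -/
def stdEl (ζ : F) : Fin 8 → F := zVec 1 (Pi.single 0 1) (ζ • Pi.single 0 1) 0

/-- Trace one and fixed norm without roots: one orbit. -/
theorem exists_act_std [CharP F 2] {ζ : F} (hζ : ∀ t : F, t ^ 2 + t + ζ ≠ 0) {y : Fin 8 → F} (ht : tr y = 1)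
    (hn : nm y = ζ) : ∃ g : G2 F, act g y = stdEl ζ := by
  have ht' : y 0 + y 7 = 1 := ht
  have hn' : y 0 * y 7 - dot3 (zA F y) (zB F y) = ζ := hn
  have hab : zA F y ⬝ᵥ zB F y = y 0 * y 7 + ζ := by
    rw [← dot3_eq]
    linear_combination hn' - (y 0 * y 7) * CharTwo.two_eq_zero (R := F) +
      (dot3 (zA F y) (zB F y)) * CharTwo.two_eq_zero (R := F)
  have hne : zA F y ⬝ᵥ zB F y ≠ 0 := fun h => hζ (y 0) (by
    rw [hab, show y 7 = 1 - y 0 by linear_combination ht'] at h
    linear_combination h + (y 0 ^ 2) * CharTwo.two_eq_zero (R := F))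
  obtain ⟨A, h1, h2⟩ := exists_normalize _ _ hne
  let c : F := y 0 + 1
  let p : GL (Fin 2) F := Matrix.GeneralLinearGroup.mkOfDetNeZero !![1, 0; c, 1] (by simp [Matrix.det_fin_two_of])
  have hp' : ((p⁻¹ : GL (Fin 2) F) : Matrix (Fin 2) (Fin 2) F) = !![1, 0; c, 1] := by
    refine Units.inv_eq_of_mul_eq_one_right ?_
    show !![1, 0; c, 1] * !![1, 0; c, 1] = 1
    simp [Matrix.mul_fin_two, Matrix.one_fin_two, CharTwo.add_self_eq_zero]
  have hp : (p : Matrix (Fin 2) (Fin 2) F) = !![1, 0; c, 1] := rfl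
  refine ⟨pairHom ⟨(p, p), pair_mem⟩ * slHom A, ?_⟩
  rw [act_mul_apply', act_slHom, act_pairHom, pairFun, hp', hp]
  refine z_ext ?_ ?_
  · rw [zH_zMk]
    have e0 : zH (slFun A y) = !![y 0, 1; zA F y ⬝ᵥ zB F y, y 7] := by
      ext i j
      fin_cases i <;> fin_cases j <;> simp [zH, slFun, zVec, h1, h2]
    rw [e0, hab]
    ext i j
    fin_cases i <;> fin_cases j <;>
      simp [zH, stdEl, zVec, Matrix.mul_apply, Fin.sum_univ_two, c]
    · linear_combination (y 0) * CharTwo.two_eq_zero (R := F)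
    · linear_combination (2 * y 0 + 1) * ht' + (2 * y 0 + 1) * CharTwo.two_eq_zero (R := F)
    · linear_combination ht' + CharTwo.two_eq_zero (R := F)
  · rw [zN_zMk, show zN (slFun A y) = 0 by
      ext i j
      fin_cases i <;> fin_cases j <;> simp [slFun, zN, zVec, h1, h2], Matrix.mul_zero, Matrix.zero_mul]
    ext i j
    fin_cases i <;> fin_cases j <;> simp [zN, stdEl, zVec]

variable [Fintype F]

/-- `G₂(q)` is covered in characteristic two, `q ≥ 4`. -/
theorem covered_G2 [CharP F 2] (hq : 4 ≤ Fintype.card F) : Covered (G2 F) := by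
  classical
  let ζ : F := if h : ∃ z : F, ∀ t : F, t ^ 2 + t + z ≠ 0 then h.choose else 0
  obtain ⟨d, hd0, hd1⟩ : ∃ d : F, d ≠ 0 ∧ d ≠ 1 := by
    by_contra h
    push Not at h
    have : (Finset.univ : Finset F) ⊆ {0, 1} := fun x _ => by
      by_cases hx : x = 0
      · simp [hx]
      · simp [h x hx]
    have := Finset.card_le_card this
    rw [Finset.card_univ] at this
    have := Finset.card_le_two (a := (0 : F)) (b := 1)
    omega
  refine ⟨classStab (eO F), classStab (stdEl ζ), ?_, ?_, fun g => ?_⟩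
  · intro h
    let p : GL (Fin 2) F := Matrix.GeneralLinearGroup.mkOfDetNeZero !![1, 1; 0, 1] (by simp [Matrix.det_fin_two_of])
    have hp' : ((p⁻¹ : GL (Fin 2) F) : Matrix (Fin 2) (Fin 2) F) = !![1, -1; 0, 1] := by
      refine Units.inv_eq_of_mul_eq_one_right ?_
      show !![1, 1; 0, 1] * !![1, -1; 0, 1] = 1
      simp [Matrix.mul_fin_two, Matrix.one_fin_two]
    obtain ⟨k, hk⟩ := (h ▸ Subgroup.mem_top _ : pairHom ⟨(p, p), pair_mem⟩ ∈ classStab (eO F))
    have := congrArg (fun z => zH z 0 1) hk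
    rw [act_pairHom, pairFun, hp', show (p : Matrix (Fin 2) (Fin 2) F) = !![1, 1; 0, 1] from rfl] at this
    simp [zH_zMk, zH_add, zH_smul, Matrix.mul_apply, Fin.sum_univ_two] at this
    simp [zH, eO, oneO, zVec] at this
  · intro h
    let p : GL (Fin 2) F := Matrix.GeneralLinearGroup.mkOfDetNeZero !![d, 0; 0, 1] (by simp [Matrix.det_fin_two_of, hd0])
    have hp' : ((p⁻¹ : GL (Fin 2) F) : Matrix (Fin 2) (Fin 2) F) = !![d⁻¹, 0; 0, 1] := by
      refine Units.inv_eq_of_mul_eq_one_right ?_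
      show !![d, 0; 0, 1] * !![d⁻¹, 0; 0, 1] = 1
      simp [Matrix.mul_fin_two, Matrix.one_fin_two, hd0]
    obtain ⟨k, hk⟩ := (h ▸ Subgroup.mem_top _ : pairHom ⟨(p, p), pair_mem⟩ ∈ classStab (stdEl ζ))
    have := congrArg (fun z => zH z 0 1) hk
    rw [act_pairHom, pairFun, hp', show (p : Matrix (Fin 2) (Fin 2) F) = !![d, 0; 0, 1] from rfl] at this
    simp [zH_zMk, zH_add, zH_smul, Matrix.mul_apply, Fin.sum_univ_two] at this
    simp [zH, stdEl, oneO, zVec] at this
    exact hd1 this
  · obtain ⟨a, k, ha, hk⟩ := exists_fixed_class g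
    have key : ∀ (t : F) (x : G2 F) (b : Fin 8 → F), act x (a + t • oneO F) = b →
        x * g * x⁻¹ ∈ classStab b := fun t x b hx => ⟨k, by
      rw [act_mul_apply', act_mul_apply', ← hx, act_inv_apply, map_add (act g), map_smul (act g), act_oneO, hk,
        map_add (act x), map_add (act x), map_add (act x), map_smul (act x), map_smul (act x), act_oneO]
      abel⟩
    by_cases hsplit : ∃ t : F, t ^ 2 + t + nm a = 0
    · obtain ⟨t, ht⟩ := hsplit
      obtain ⟨hty, hny⟩ := nm_shift ha t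
      rw [ht] at hny
      obtain ⟨x, hx⟩ := exists_act_eO (x := a + t • oneO F) ⟨hty, sub_eq_zero.1 hny⟩
      exact ⟨x, Or.inl (key t x _ hx)⟩
    · push Not at hsplit
      have hex : ∃ z : F, ∀ t : F, t ^ 2 + t + z ≠ 0 := ⟨nm a, hsplit⟩
      have hζ : ∀ t : F, t ^ 2 + t + ζ ≠ 0 := by simp only [ζ, dif_pos hex]; exact hex.choose_spec
      obtain ⟨r, s, -, hsum, hval⟩ := QuadClassify.exists_shift hsplit hζ
      have hr : r = 1 := by rw [CharTwo.two_eq_zero, zero_mul, zero_add] at hsum; exact hsum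
      obtain ⟨hty, hny⟩ := nm_shift ha s
      obtain ⟨x, hx⟩ := exists_act_std hζ hty (by rw [hny, ← hval, hr]; ring)
      exact ⟨x, Or.inr (key s x _ hx)⟩

end CfsgLib.Known.CoverTwo
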