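import Cfsg.Agent.Lib.Known.CoverTwo.Basic
import Cfsg.Agent.Lib.Known.CoverTwo.Algebra

/-!
# `PSL₂`, `PSL₃`, `PSL₄`: line stabiliser and field-extension subgroup
-/

set_option autoImplicit false
set_option linter.unusedSectionVars false
set_option linter.style.haveILetI false
set_option linter.unusedSimpArgs false

namespace CfsgLib.Known.CoverTwo

open Polynomial Matrix

variable {F : Type*} [Field F] [Fintype F] {n : ℕ}

theorem mv_mul (a b : Matrix.SpecialLinearGroup (Fin n) F) (w : Fin n → F) :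
    (↑(a * b) : Matrix (Fin n) (Fin n) F) *ᵥ w = (a : Matrix (Fin n) (Fin n) F) *ᵥ ((b : Matrix (Fin n) (Fin n) F) *ᵥ w) := by
  rw [Matrix.SpecialLinearGroup.coe_mul, mulVec_mulVec]

theorem mv_inv (a : Matrix.SpecialLinearGroup (Fin n) F) (w : Fin n → F) :
    (↑(a⁻¹) : Matrix (Fin n) (Fin n) F) *ᵥ ((a : Matrix (Fin n) (Fin n) F) *ᵥ w) = w := by
  rw [← mv_mul, inv_mul_cancel, Matrix.SpecialLinearGroup.coe_one, one_mulVec]

theorem mv_inv' (a : Matrix.SpecialLinearGroup (Fin n) F) (w : Fin n → F) :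
    (a : Matrix (Fin n) (Fin n) F) *ᵥ ((↑(a⁻¹) : Matrix (Fin n) (Fin n) F) *ᵥ w) = w := by
  rw [← mv_mul, mul_inv_cancel, Matrix.SpecialLinearGroup.coe_one, one_mulVec]

/-- The stabiliser in `SL` of the line through a vector. -/
def lineStab (w : Fin n → F) : Subgroup (Matrix.SpecialLinearGroup (Fin n) F) where
  carrier := {g | ∃ c : Fˣ, (g : Matrix (Fin n) (Fin n) F) *ᵥ w = (c : F) • w}
  mul_mem' := by
    rintro a b ⟨c, hc⟩ ⟨d, hd⟩
    exact ⟨c * d, by rw [mv_mul, hd, mulVec_smul, hc, smul_smul, Units.val_mul, mul_comm]⟩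
  one_mem' := ⟨1, by simp⟩
  inv_mem' := by
    rintro a ⟨c, hc⟩
    refine ⟨c⁻¹, ?_⟩
    have h := mv_inv a w
    rw [hc, mulVec_smul] at h
    rw [Units.val_inv_eq_inv_val, eq_inv_smul_iff₀ c.ne_zero]
    exact h

/-- The centraliser in `SL` of a family of matrices. -/
def commSub {ι : Type*} (J : ι → Matrix (Fin n) (Fin n) F) : Subgroup (Matrix.SpecialLinearGroup (Fin n) F) where
  carrier := {g | ∀ i w, (g : Matrix (Fin n) (Fin n) F) *ᵥ (J i *ᵥ w) = J i *ᵥ ((g : Matrix (Fin n) (Fin n) F) *ᵥ w)}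
  mul_mem' {a b} ha hb i w := by rw [mv_mul, mv_mul, hb, ha]
  one_mem' i w := by simp
  inv_mem' {a} ha i w := by
    have h := ha i ((↑(a⁻¹) : Matrix (Fin n) (Fin n) F) *ᵥ w)
    rw [mv_inv'] at h
    rw [← h, mv_inv]

theorem exists_sl_of_det {P : (Fin n → F) ≃ₗ[F] (Fin n → F)}
    (hP : LinearMap.det (P : (Fin n → F) →ₗ[F] _) = 1) :
    ∃ x : Matrix.SpecialLinearGroup (Fin n) F, ∀ v, (x : Matrix (Fin n) (Fin n) F) *ᵥ v = P v :=
  ⟨⟨LinearMap.toMatrix' (P : (Fin n → F) →ₗ[F] _), by rw [LinearMap.det_toMatrix', hP]⟩,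
    fun v => LinearMap.toMatrix'_mulVec _ v⟩

/-- Any nonzero vector can be moved to any other by a linear automorphism. -/
theorem exists_linearEquiv_map {V : Type*} [AddCommGroup V] [Module F V] [Module.Finite F V] (v w : V) (hv : v ≠ 0)
    (hw : w ≠ 0) : ∃ Q : V ≃ₗ[F] V, Q v = w := by
  obtain ⟨S, hS⟩ := Submodule.exists_isCompl (Submodule.span F {v})
  obtain ⟨T, hT⟩ := Submodule.exists_isCompl (Submodule.span F {w})
  have hr : Module.finrank F S = Module.finrank F T := by
    have h1 := Submodule.finrank_add_eq_of_isCompl hS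
    have h2 := Submodule.finrank_add_eq_of_isCompl hT
    rw [finrank_span_singleton hv] at h1
    rw [finrank_span_singleton hw] at h2
    omega
  let L := (LinearEquiv.toSpanNonzeroSingleton F V v hv).symm.trans (LinearEquiv.toSpanNonzeroSingleton F V w hw)
  let Q := (Submodule.prodEquivOfIsCompl _ _ hS).symm.trans
    ((L.prodCongr (LinearEquiv.ofFinrankEq _ _ hr)).trans (Submodule.prodEquivOfIsCompl _ _ hT))
  refine ⟨Q, ?_⟩
  have h1 : (Submodule.prodEquivOfIsCompl _ _ hS).symm v =
      ((⟨v, Submodule.mem_span_singleton_self v⟩ : Submodule.span F {v}), 0) :=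
    Submodule.prodEquivOfIsCompl_symm_apply_left _ _ hS (⟨v, Submodule.mem_span_singleton_self v⟩ : Submodule.span F {v})
  have h2 : L ⟨v, Submodule.mem_span_singleton_self v⟩ = ⟨w, Submodule.mem_span_singleton_self w⟩ := by
    simp only [L, LinearEquiv.trans_apply]
    rw [← LinearEquiv.toSpanNonzeroSingleton_one F V v hv, LinearEquiv.symm_apply_apply,
      LinearEquiv.toSpanNonzeroSingleton_one]
  simp [Q, h1, h2]

/-- `SL` moves any nonzero vector onto the line of the first basis vector. -/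
theorem exists_to_first [NeZero n] {v : Fin n → F} (hv : v ≠ 0) :
    ∃ (x : Matrix.SpecialLinearGroup (Fin n) F) (c : F), c ≠ 0 ∧ (x : Matrix (Fin n) (Fin n) F) *ᵥ v = c • Pi.single 0 1 := by
  classical
  have hs : (Pi.single 0 1 : Fin n → F) ≠ 0 := by simp
  obtain ⟨Q, hQ⟩ : ∃ Q : (Fin n → F) ≃ₗ[F] (Fin n → F), Q v = Pi.single 0 1 := by
    obtain ⟨Q, hQ⟩ := exists_linearEquiv_map (F := F) v _ hv hs
    exact ⟨Q, hQ⟩
  set d := LinearMap.det (Q : (Fin n → F) →ₗ[F] _)
  have hd : d ≠ 0 := (LinearEquiv.isUnit_det' _).ne_zero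
  let D : (Fin n → F) ≃ₗ[F] (Fin n → F) :=
    LinearEquiv.piCongrRight fun i => LinearEquiv.smulOfUnit (if i = 0 then (Units.mk0 d hd)⁻¹ else 1)
  have hDdet : LinearMap.det (D : (Fin n → F) →ₗ[F] _) = d⁻¹ := by
    rw [show (D : (Fin n → F) →ₗ[F] _) =
      LinearMap.pi (fun i => ((if i = 0 then d⁻¹ else 1) • (1 : F →ₗ[F] F)).comp (LinearMap.proj i)) from
      LinearMap.ext fun z => funext fun i => by
        by_cases hi : i = 0 <;> simp [D, hi, LinearEquiv.smulOfUnit, Units.smul_def]]
    rw [LinearMap.det_pi]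
    simp only [LinearMap.det_smul, Module.finrank_self, pow_one, map_one, mul_one, Finset.prod_ite_eq',
      Finset.mem_univ, if_true]
  obtain ⟨x, hx⟩ := exists_sl_of_det (P := Q.trans D)
    (by rw [LinearEquiv.coe_trans, LinearMap.det_comp, hDdet]; exact inv_mul_cancel₀ hd)
  refine ⟨x, d⁻¹, inv_ne_zero hd, ?_⟩
  rw [hx, LinearEquiv.trans_apply, hQ]
  funext i
  by_cases hi : i = 0 <;> simp [D, hi, LinearEquiv.smulOfUnit, Units.smul_def]

/-- Residue degrees of the algebra generated by an endomorphism without eigenvalues. -/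
theorem exists_embedding_commute {V : Type*} [AddCommGroup V] [Module F V] [Module.Finite F V]
    {E : Type*} [Field E] [Finite E] [Algebra F E] (T : Module.End F V)
    (hT : ∀ c : F, ∀ v : V, T v = c • v → v = 0)
    (hd : ∀ k, 2 ≤ k → k ≤ Module.finrank F V → k + 1 ≠ Module.finrank F V → Module.finrank F E ∣ k) :
    ∃ ι : E →ₐ[F] Module.End F V, ∀ e, Commute T (ι e) := by
  classical
  have hm : (minpoly F T).Monic := minpoly.monic (IsIntegral.of_finite F T)
  haveI : Module.Finite F (AdjoinRoot (minpoly F T)) := hm.finite_adjoinRoot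
  haveI : Finite (AdjoinRoot (minpoly F T)) := Module.finite_of_finite F
  have hroot : ∀ c : F, ¬ T.charpoly.IsRoot c := fun c hc => by
    obtain ⟨v, hv⟩ := ((Module.End.hasEigenvalue_iff_isRoot_charpoly T c).2 hc).exists_hasEigenvector
    exact hv.2 (hT c v hv.apply_eq_smul)
  have key : ∀ P : Ideal (AdjoinRoot (minpoly F T)), P.IsMaximal →
      Module.finrank F E ∣ Module.finrank F (AdjoinRoot (minpoly F T) ⧸ P) := by
    intro P hP
    letI := Ideal.Quotient.field P
    set α : AdjoinRoot (minpoly F T) ⧸ P := Ideal.Quotient.mk P (AdjoinRoot.root _)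
    haveI : Module.Finite F (AdjoinRoot (minpoly F T) ⧸ P) := Module.Finite.quotient F P
    have hα : Algebra.adjoin F {α} = ⊤ := by
      rw [show ({α} : Set _) = (Ideal.Quotient.mkₐ F P) '' {AdjoinRoot.root _} from Set.image_singleton.symm,
        ← AlgHom.map_adjoin, AdjoinRoot.adjoinRoot_eq_top, Algebra.map_top,
        (AlgHom.range_eq_top (Ideal.Quotient.mkₐ F P)).2 (Ideal.Quotient.mkₐ_surjective F P)]
    have hαi : IsIntegral F α := IsIntegral.of_finite F α
    have hdeg : Module.finrank F (AdjoinRoot (minpoly F T) ⧸ P) = (minpoly F α).natDegree := by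
      rw [← Subalgebra.topEquiv.toLinearEquiv.finrank_eq, ← hα]
      exact (Algebra.adjoin.powerBasis hαi).finrank
    have hdvd : minpoly F α ∣ T.charpoly := by
      refine (minpoly.dvd F α ?_).trans (LinearMap.minpoly_dvd_charpoly T)
      rw [show α = Ideal.Quotient.mkₐ F P (AdjoinRoot.root _) from rfl, aeval_algHom_apply,
        AdjoinRoot.aeval_eq, AdjoinRoot.mk_self, map_zero]
    obtain ⟨g, hg⟩ := hdvd
    have hirr := minpoly.irreducible hαi
    have hg0 : g ≠ 0 := fun h => (LinearMap.charpoly_monic T).ne_zero (by rw [hg, h, mul_zero])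
    have hsum : (minpoly F α).natDegree + g.natDegree = Module.finrank F V := by
      rw [← natDegree_mul hirr.ne_zero hg0, ← hg, LinearMap.charpoly_natDegree]
    rw [hdeg]
    refine hd _ ?_ (by omega) fun h => ?_
    · by_contra h
      obtain ⟨c, hc⟩ := exists_root_of_degree_eq_one (p := minpoly F α) (by
        have := hirr.natDegree_pos
        rw [degree_eq_natDegree hirr.ne_zero, show (minpoly F α).natDegree = 1 by omega]; rfl)
      exact hroot c (by rw [hg, IsRoot, eval_mul, hc, zero_mul])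
    · obtain ⟨c, hc⟩ := exists_root_of_degree_eq_one (p := g) (by
        rw [degree_eq_natDegree hg0, show g.natDegree = 1 by omega]; rfl)
      exact hroot c (by rw [hg, IsRoot, eval_mul, hc, mul_zero])
  obtain ⟨φ⟩ := nonempty_algHom_of_residue key
  let L : AdjoinRoot (minpoly F T) →ₐ[F] Module.End F V :=
    Ideal.Quotient.liftₐ (Ideal.span {minpoly F T}) (aeval T) fun a ha => by
      obtain ⟨b, rfl⟩ := Ideal.mem_span_singleton'.1 ha
      rw [map_mul, minpoly.aeval, mul_zero]
  refine ⟨L.comp φ, fun e => ?_⟩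
  obtain ⟨p, hp⟩ := AdjoinRoot.mk_surjective (φ e)
  rw [AlgHom.comp_apply, ← hp]
  show Commute T (aeval T p)
  exact Algebra.commute_of_mem_adjoin_singleton_of_commute (aeval_mem_adjoin_singleton F T) (Commute.refl T)

/-- `PSL_n` is covered when the degree condition holds. -/
theorem covered_PSL (p : ℕ) [Fact p.Prime] [CharP F p] (n d : ℕ) [NeZero d] [NeZero n] (hn : 2 ≤ n) (h2 : 2 ≤ d)
    (hdn : d ∣ n) (hd : ∀ k, 2 ≤ k → k ≤ n → k + 1 ≠ n → d ∣ k) :
    Covered (Matrix.ProjectiveSpecialLinearGroup (Fin n) F) := by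
  classical
  set E := FiniteField.Extension F p d
  have hE : Module.finrank F E = d := FiniteField.finrank_extension F p d
  obtain ⟨r, hr⟩ := hdn
  obtain ⟨r, rfl⟩ : ∃ r', r = r' + 1 := ⟨r - 1, by
    have : r ≠ 0 := fun h => by subst h; simp at hr; omega
    omega⟩
  have hV : Module.finrank F (Fin n → F) = (r + 1) * Module.finrank F E := by
    rw [Module.finrank_fin_fun, hE, mul_comm]; exact hr
  obtain ⟨ι₀⟩ := exists_embedding (E := E) hV
  let J : E → Matrix (Fin n) (Fin n) F := fun e => LinearMap.toMatrix' (ι₀ e)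
  let one : Fin n := ⟨1, by omega⟩
  have h10 : one ≠ 0 := fun h => by simpa [one] using congrArg Fin.val h
  let t : Matrix.SpecialLinearGroup (Fin n) F := ⟨transvection one 0 1, det_transvection_of_ne _ _ h10 _⟩
  refine covered_quotient (lineStab (Pi.single 0 1)) (commSub J) ?_ ?_ ?_ ?_ fun g => ?_
  · intro z hz
    obtain ⟨c, -, hc⟩ := Matrix.SpecialLinearGroup.mem_center_iff.1 hz
    refine ⟨Units.mk0 c ?_, ?_⟩
    · intro h
      have := z.2
      rw [← hc, h] at this
      simp [NeZero.ne n] at this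
    · funext i
      simp [← hc, Matrix.scalar_apply, mulVec_diagonal]
  · intro z hz i
    obtain ⟨c, -, hc⟩ := Matrix.SpecialLinearGroup.mem_center_iff.1 hz
    intro w
    rw [← hc]
    funext j
    simp [Matrix.scalar_apply, mulVec_diagonal, mulVec, dotProduct, Finset.mul_sum, mul_left_comm, diagonal_apply]
  · intro h
    obtain ⟨c, hc⟩ := (h ▸ Subgroup.mem_top t : t ∈ lineStab (Pi.single 0 1))
    have := congrFun hc one
    simp [t, transvection, add_mulVec, h10] at this
  · intro h
    have ht : t ∈ commSub J := h ▸ Subgroup.mem_top t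
    let φ : E →ₗ[F] F := (LinearMap.proj one).comp ((LinearMap.applyₗ (Pi.single one 1)).comp ι₀.toLinearMap)
    have key : ∀ e : E, ι₀ e (Pi.single one 1) = (J e 0 0) • Pi.single one 1 := fun e => by
      have h1 : ∀ w : Fin n → F, (t : Matrix (Fin n) (Fin n) F) *ᵥ w = w + (w 0) • Pi.single one 1 := fun w => by
        funext i
        simp [t, transvection, add_mulVec, single_mulVec, Function.update_apply, Pi.single_apply]
      have h3 := ht e (Pi.single 0 1)
      rw [h1, h1, mulVec_add, add_right_inj] at h3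
      simp only [Pi.single_eq_same, one_smul, J, LinearMap.toMatrix'_mulVec] at h3
      rw [← h3]
      simp [J]
    have hinj : Function.Injective φ := by
      rw [injective_iff_map_eq_zero]
      intro e he
      by_contra he0
      have h4 : ι₀ e (Pi.single one 1) = 0 := by
        have : φ e = 0 := he
        simp only [φ, LinearMap.comp_apply, LinearMap.applyₗ_apply_apply, LinearMap.proj_apply,
          AlgHom.toLinearMap_apply] at this
        rw [key] at this ⊢
        simp at this
        rw [this, zero_smul]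
      have h5 : ι₀ (e⁻¹ * e) (Pi.single one 1) = 0 := by
        rw [map_mul, Module.End.mul_apply, h4, map_zero]
      rw [inv_mul_cancel₀ he0, map_one] at h5
      simpa using congrFun h5 one
    have := LinearMap.finrank_le_finrank_of_injective hinj
    rw [Module.finrank_self, hE] at this
    omega
  · by_cases heig : ∃ c : F, ∃ v : Fin n → F, v ≠ 0 ∧ (g : Matrix (Fin n) (Fin n) F) *ᵥ v = c • v
    · obtain ⟨c, v, hv, hgv⟩ := heig
      obtain ⟨x, a, ha, hx⟩ := exists_to_first hv
      have hc : c ≠ 0 := fun h => hv (by rw [← mv_inv g v, hgv, h, zero_smul, mulVec_zero])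
      refine ⟨x, Or.inl ⟨Units.mk0 c hc, ?_⟩⟩
      have hx' : (Pi.single 0 1 : Fin n → F) = (x : Matrix (Fin n) (Fin n) F) *ᵥ (a⁻¹ • v) := by
        rw [mulVec_smul, hx, inv_smul_smul₀ ha]
      rw [mv_mul, mv_mul, hx', mv_inv, mulVec_smul, hgv, smul_comm, mulVec_smul, Units.val_mk0]
    · push Not at heig
      obtain ⟨ι, hι⟩ := exists_embedding_commute (E := E) (Matrix.toLin' (g : Matrix (Fin n) (Fin n) F))
        (fun c v h => by_contra fun hv => heig c v hv (by simpa using h))
        (fun k h1 h2 h3 => by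
          rw [Module.finrank_fin_fun] at h2 h3
          exact hE.symm ▸ hd k h1 h2 h3)
      obtain ⟨P, hP, hPι⟩ := exists_conj_det_one ι ι₀ hV
      obtain ⟨x, hx⟩ := exists_sl_of_det hP
      refine ⟨x, Or.inr fun e w => ?_⟩
      obtain ⟨v, rfl⟩ := P.surjective w
      have hc := LinearMap.congr_fun (hι e).eq v
      simp only [Module.End.mul_apply, toLin'_apply] at hc
      simp only [J, LinearMap.toMatrix'_mulVec, mv_mul]
      rw [← hPι, ← hx v, ← hx (ι e v), mv_inv, mv_inv, hc, hx, hPι, hx]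

end CfsgLib.Known.CoverTwo
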