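import Cfsg.Agent.Lib.Known.CoverTwo.Basic
import Mathlib

/-!
# Semilinear groups over a cubic extension, Gram matrices and Cayley transforms
-/

set_option autoImplicit false
set_option linter.unusedSectionVars false
set_option linter.style.haveILetI false

namespace CfsgLib.Known.CoverTwo

section SemiLinear

variable {F L : Type*} [Field F] [Field L] [Algebra F L] {W : Type*} [AddCommGroup W] [Module F W] [Module L W]
  [IsScalarTower F L W] {V : Type*} [AddCommGroup V] [Module F V]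

/-- `T` becomes `L`-semilinear in the coordinates `Φ`. -/
def SemiLin (L : Type*) [Field L] [Algebra F L] [Module L W] (Φ : W ≃ₗ[F] V) (T : Module.End F V) : Prop :=
  ∃ ψ : L ≃ₐ[F] L, ∀ (z : L) (w : W), Φ.symm (T (Φ (z • w))) = ψ z • Φ.symm (T (Φ w))

/-- The elements acting semilinearly in given coordinates. -/
def semiStab (L : Type*) [Field L] [Algebra F L] [Module L W] (Φ : W ≃ₗ[F] V) {G : Type*} [Group G]
    (ρ : G →* Module.End F V) : Subgroup G where
  carrier := {g | SemiLin L Φ (ρ g)}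
  mul_mem' := by
    rintro a b ⟨ψ, ha⟩ ⟨χ, hb⟩
    refine ⟨χ.trans ψ, fun z w => ?_⟩
    have h := ha (χ z) (Φ.symm (ρ b (Φ w)))
    rw [← hb, Φ.apply_symm_apply, Φ.apply_symm_apply] at h
    rw [map_mul, Module.End.mul_apply, Module.End.mul_apply, h]
    rfl
  one_mem' := ⟨AlgEquiv.refl, fun z w => by simp⟩
  inv_mem' := by
    rintro a ⟨ψ, ha⟩
    have hinv : ∀ v, ρ a (ρ a⁻¹ v) = v := fun v => by
      rw [← Module.End.mul_apply, ← map_mul, mul_inv_cancel, map_one, Module.End.one_apply]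
    have hinv' : ∀ v, ρ a⁻¹ (ρ a v) = v := fun v => by
      rw [← Module.End.mul_apply, ← map_mul, inv_mul_cancel, map_one, Module.End.one_apply]
    refine ⟨ψ.symm, fun z w => ?_⟩
    have h := ha (ψ.symm z) (Φ.symm (ρ a⁻¹ (Φ w)))
    rw [Φ.apply_symm_apply, hinv, Φ.symm_apply_apply, ψ.apply_symm_apply] at h
    rw [← h, Φ.apply_symm_apply, hinv', Φ.symm_apply_apply]

theorem semiLin_smul (Φ : W ≃ₗ[F] V) {T : Module.End F V} {c : F} (hT : ∀ v, T v = c • v) : SemiLin L Φ T :=
  ⟨AlgEquiv.refl, fun z w => by simp [hT, smul_comm c z]⟩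

theorem semiLin_of_coords (Φ : W ≃ₗ[F] V) {T : Module.End F V} (S : W → W) (ψ : L ≃ₐ[F] L)
    (hS : ∀ (z : L) (w : W), S (z • w) = ψ z • S w) (hT : ∀ w, T (Φ w) = Φ (S w)) : SemiLin L Φ T :=
  ⟨ψ, fun z w => by simp [hT, hS]⟩

/-- An element that is semilinear in some coordinates is conjugate into the stabiliser of others. -/
theorem conj_mem_semiStab {G : Type*} [Group G] (ρ : G →* Module.End F V) (Φ Φ₀ : W ≃ₗ[F] V) {g x : G}
    (hg : SemiLin L Φ (ρ g)) (hx : ∀ w, ρ x (Φ w) = Φ₀ w) : x * g * x⁻¹ ∈ semiStab L Φ₀ ρ := by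
  obtain ⟨ψ, hψ⟩ := hg
  have key : ∀ w, Φ₀.symm (ρ (x * g * x⁻¹) (Φ₀ w)) = Φ.symm (ρ g (Φ w)) := fun w => by
    rw [Φ₀.symm_apply_eq, ← hx, ← hx, Φ.apply_symm_apply, ← Module.End.mul_apply, ← map_mul,
      inv_mul_cancel_right, map_mul, Module.End.mul_apply]
  exact ⟨ψ, fun z w => by rw [key, key, hψ]⟩

variable [Finite L]

/-- In rank one, a semilinear map with an eigenvalue in the ground field has scalar cube. -/
theorem cube_scalar_of_eigen (hL : Module.finrank F L = 3) (hW : ∀ w₀ : W, w₀ ≠ 0 → ∀ w, ∃ z : L, z • w₀ = w)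
    (Φ : W ≃ₗ[F] V) {T : Module.End F V} (hT : SemiLin L Φ T) {v : V} (hv : v ≠ 0) {c : F} (hc : T v = c • v)
    (w : V) : T (T (T w)) = c ^ 3 • w := by
  obtain ⟨ψ, hψ⟩ := hT
  haveI : Finite F := Finite.of_injective (algebraMap F L) (algebraMap F L).injective
  haveI : FiniteDimensional F L := Module.Finite.of_finite
  have h3 : ψ ^ 3 = 1 := by
    have h := pow_card_eq_one' (G := L ≃ₐ[F] L) (x := ψ)
    rwa [IsGalois.card_aut_eq_finrank, hL] at h
  obtain ⟨x, rfl⟩ := Φ.surjective w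
  obtain ⟨z, rfl⟩ := hW (Φ.symm v) (by simpa using hv) x
  set u := Φ.symm v with hu
  have hu' : Φ u = v := Φ.apply_symm_apply v
  have step : ∀ y : L, T (Φ (y • u)) = c • Φ (ψ y • u) := fun y => by
    rw [← Φ.apply_symm_apply (T (Φ (y • u))), hψ, hu', hc, LinearEquiv.map_smul Φ.symm c v, ← hu, smul_comm (ψ y) c, LinearEquiv.map_smul Φ c]
  rw [step, LinearMap.map_smul T c, step, LinearMap.map_smul T c, LinearMap.map_smul T c, step, show ψ (ψ (ψ z)) = z from congrFun (congrArg DFunLike.coe h3) z,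
    smul_smul, smul_smul, pow_three, mul_assoc]

/-- A rank one perturbation of the identity is not semilinear. -/
theorem not_semiLin_transvection (hL : Module.finrank F L = 3) [FiniteDimensional F W]
    (hW : 2 ≤ Module.finrank F W) (Φ : W ≃ₗ[F] V) {T : Module.End F V} (φ : Module.Dual F V) (hφ : φ ≠ 0)
    {v : V} (hv : v ≠ 0) (hT : ∀ x, T x = x + φ x • v) : ¬ SemiLin L Φ T := by
  rintro ⟨ψ, hψ⟩
  haveI : Finite F := Finite.of_injective (algebraMap F L) (algebraMap F L).injective
  haveI : FiniteDimensional F L := Module.Finite.of_finite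
  set v' := Φ.symm v
  have hv' : v' ≠ 0 := by simpa [v'] using hv
  let φ' : Module.Dual F W := φ.comp (Φ : W →ₗ[F] V)
  have hS : ∀ (z : L) (w : W), z • w + φ' (z • w) • v' = ψ z • (w + φ' w • v') := fun z w => by
    have h := hψ z w
    simpa [hT, φ', v'] using h
  obtain ⟨w, hw, hw0⟩ : ∃ w, φ' w = 0 ∧ w ≠ 0 := by
    have h := LinearMap.finrank_range_add_finrank_ker φ'
    have h1 := (LinearMap.range φ').finrank_le
    rw [Module.finrank_self] at h1
    obtain ⟨w, hw, h0⟩ := Submodule.exists_mem_ne_zero_of_ne_bot (p := LinearMap.ker φ') (fun hb => by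
      rw [hb, finrank_bot] at h; omega)
    exact ⟨w, hw, h0⟩
  obtain ⟨z, hz, hzF⟩ : ∃ z : L, φ' (z • w) = 0 ∧ z ∉ (⊥ : IntermediateField F L) := by
    let M := LinearMap.ker (φ'.comp ((LinearMap.toSpanSingleton L W w).restrictScalars F))
    by_contra hc
    push Not at hc
    have hle : M ≤ Submodule.span F {(1 : L)} := fun y hy => by
      obtain ⟨a, rfl⟩ := IntermediateField.mem_bot.1 (hc y hy)
      exact Submodule.mem_span_singleton.2 ⟨a, (Algebra.algebraMap_eq_smul_one a).symm⟩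
    have h := LinearMap.finrank_range_add_finrank_ker
      (φ'.comp ((LinearMap.toSpanSingleton L W w).restrictScalars F))
    have h1 := (LinearMap.range (φ'.comp ((LinearMap.toSpanSingleton L W w).restrictScalars F))).finrank_le
    have h2 := Submodule.finrank_mono hle
    rw [finrank_span_singleton one_ne_zero] at h2
    rw [Module.finrank_self] at h1
    rw [hL] at h
    change _ + Module.finrank F M = 3 at h
    omega
  have hψz : ψ z = z := by
    have h := hS z w
    rw [hz, hw] at h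
    simp only [zero_smul, add_zero] at h
    exact (smul_left_injective L hw0 h).symm
  haveI := IntermediateField.isSimpleOrder_of_finrank_prime F L (by rw [hL]; exact Nat.prime_three)
  have hψ1 : ∀ y, ψ y = y := by
    let K := IntermediateField.fixedField (Subgroup.zpowers ψ)
    have hzK : z ∈ K := by
      rw [IntermediateField.mem_fixedField_iff]
      intro f hf
      have : Subgroup.zpowers ψ ≤ MulAction.stabilizer (L ≃ₐ[F] L) z := by
        rw [Subgroup.zpowers_le]; exact hψz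
      exact this hf
    have hK : K = ⊤ := (IsSimpleOrder.eq_bot_or_eq_top K).resolve_left fun h => hzF (h ▸ hzK)
    intro y
    exact (IntermediateField.mem_fixedField_iff _ _).1 (hK ▸ IntermediateField.mem_top : y ∈ K) ψ
      (Subgroup.mem_zpowers ψ)
  obtain ⟨w₁, hw₁⟩ : ∃ w₁, φ' w₁ = 1 := by
    obtain ⟨x, hx⟩ : ∃ x, φ x ≠ 0 := by
      by_contra h
      push Not at h
      exact hφ (LinearMap.ext h)
    exact ⟨Φ.symm ((φ x)⁻¹ • x), by simp [φ', hx]⟩
  have h := hS z w₁
  rw [hψ1, hw₁, one_smul, smul_add, add_right_inj] at h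
  refine hzF (IntermediateField.mem_bot.2 ⟨φ' (z • w₁), smul_left_injective L hv' ?_⟩)
  simpa [algebraMap_smul] using h

end SemiLinear

section Gram

variable {F : Type*} [Field F] {σ : F →+* F} {V V' : Type*} [AddCommGroup V] [Module F V] [AddCommGroup V']
  [Module F V'] {ι : Type*} [Fintype ι]

theorem li_of_gram (B : V →ₛₗ[σ] V →ₗ[F] F) (w : ι → V) (f : ι → ι) (h1 : ∀ i, B (w (f i)) (w i) ≠ 0)
    (h0 : ∀ i j, j ≠ i → B (w (f i)) (w j) = 0) : LinearIndependent F w := by
  rw [Fintype.linearIndependent_iff]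
  intro c hc i
  have h := congrArg (B (w (f i))) hc
  rw [map_sum, map_zero, Finset.sum_eq_single i (fun j _ hj => by rw [map_smul, h0 i j hj, smul_zero])
    (by simp), map_smul, smul_eq_mul] at h
  exact (mul_eq_zero.1 h).resolve_right (h1 i)

/-- Families with the same monomial Gram matrix differ by an isometry. -/
theorem exists_isometry_of_gram (B : V →ₛₗ[σ] V →ₗ[F] F) (B' : V' →ₛₗ[σ] V' →ₗ[F] F) (w : ι → V) (w' : ι → V')
    (f : ι → ι) (h1 : ∀ i, B (w (f i)) (w i) ≠ 0) (h0 : ∀ i j, j ≠ i → B (w (f i)) (w j) = 0)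
    (hgram : ∀ i j, B' (w' i) (w' j) = B (w i) (w j)) [FiniteDimensional F V] [FiniteDimensional F V']
    (hV : Fintype.card ι = Module.finrank F V) (hV' : Fintype.card ι = Module.finrank F V') :
    ∃ Φ : V ≃ₗ[F] V', (∀ x y, B' (Φ x) (Φ y) = B x y) ∧ (∀ i, Φ (w i) = w' i) ∧
      ∀ (T : Module.End F V) (T' : Module.End F V'), (∀ i, Φ (T (w i)) = T' (w' i)) → ∀ x, Φ (T x) = T' (Φ x) := by
  classical
  rcases isEmpty_or_nonempty ι with h | h
  · rw [Fintype.card_eq_zero] at hV hV'
    haveI := Module.finrank_zero_iff.1 hV.symm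
    haveI := Module.finrank_zero_iff.1 hV'.symm
    exact ⟨LinearEquiv.ofSubsingleton V V', fun x y => by simp [Subsingleton.elim x 0,
      Subsingleton.elim (LinearEquiv.ofSubsingleton (R := F) V V' x) 0],
      fun i => Subsingleton.elim _ _, fun _ _ _ _ => Subsingleton.elim _ _⟩
  let b := basisOfLinearIndependentOfCardEqFinrank (li_of_gram B w f h1 h0) hV
  let b' := basisOfLinearIndependentOfCardEqFinrank
    (li_of_gram B' w' f (fun i => by rw [hgram]; exact h1 i) (fun i j hj => by rw [hgram]; exact h0 i j hj)) hV'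
  have hb : ∀ i, b i = w i := fun i => by simp [b]
  have hΦ : ∀ i, b.equiv b' (Equiv.refl ι) (w i) = w' i := fun i => by
    rw [← hb, Module.Basis.equiv_apply]; simp [b']
  refine ⟨b.equiv b' (Equiv.refl ι), fun x y => ?_, hΦ, fun T T' hT x => ?_⟩
  · conv_rhs => rw [← b.sum_repr x, ← b.sum_repr y]
    conv_lhs => rw [← b.sum_repr x, ← b.sum_repr y]
    simp only [map_sum, LinearEquiv.map_smul, LinearMap.map_smulₛₗ, LinearMap.smul_apply, LinearMap.sum_apply,
      map_smul, hb, hΦ, hgram]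
  · refine LinearMap.congr_fun (b.ext (f₁ := (b.equiv b' (Equiv.refl ι) : V →ₗ[F] V') ∘ₗ T)
      (f₂ := T' ∘ₗ (b.equiv b' (Equiv.refl ι) : V →ₗ[F] V')) fun i => ?_) x
    simp only [LinearMap.comp_apply, LinearEquiv.coe_coe, hb, hΦ]
    exact hT i

end Gram

section Cayley

variable {F : Type*} [Field F] {V : Type*} [AddCommGroup V] [Module F V] {N : Module.End F V}

/-- `N / (N - 1)` for `N ^ 6 = 0`. -/
@[irreducible] def cay (N : Module.End F V) : Module.End F V := -(N + N ^ 2 + N ^ 3 + N ^ 4 + N ^ 5)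

theorem cay_mul (h : N ^ 6 = 0) : cay N * (1 - N) = -N := by
  have : cay N * (1 - N) = -N + N ^ 6 := by unfold cay; noncomm_ring
  rw [this, h, add_zero]

theorem one_sub_mul_cay (h : N ^ 6 = 0) : (1 - N) * cay N = -N := by
  have : (1 - N) * cay N = -N + N ^ 6 := by unfold cay; noncomm_ring
  rw [this, h, add_zero]

theorem cay_pow_eq (N : Module.End F V) (k : ℕ) :
    cay N ^ k = N ^ k * (-(1 + N + N ^ 2 + N ^ 3 + N ^ 4)) ^ k := by
  rw [← Commute.mul_pow]
  · congr 1; unfold cay; noncomm_ring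
  · exact ((((((Commute.one_right N).add_right (Commute.refl N)).add_right (Commute.self_pow N 2)).add_right
      (Commute.self_pow N 3)).add_right (Commute.self_pow N 4))).neg_right

theorem cay_pow_six (h : N ^ 6 = 0) : cay N ^ 6 = 0 := by rw [cay_pow_eq, h, zero_mul]

theorem one_sub_cay_mul (h : N ^ 6 = 0) : (1 - cay N) * (1 - N) = 1 := by
  rw [sub_mul, cay_mul h, one_mul, sub_neg_eq_add, sub_add_cancel]

theorem cay_cay (h : N ^ 6 = 0) : cay (cay N) = N := by
  have h1 := cay_mul (cay_pow_six h)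
  have h2 := congrArg (· * (1 - N)) h1
  simp only [mul_assoc, one_sub_cay_mul h, mul_one, neg_mul, cay_mul h, neg_neg] at h2
  exact h2

theorem cay_cube (h : N ^ 3 = 0) : cay N = -(N + N ^ 2) ∧ cay N ^ 2 = N ^ 2 := by
  have h4 : N ^ 4 = 0 := by rw [pow_succ, h, zero_mul]
  have h5 : N ^ 5 = 0 := by rw [pow_succ, h4, zero_mul]
  have e : cay N = -(N + N ^ 2) := by simp [cay, h, h4, h5]
  refine ⟨e, ?_⟩
  rw [e]
  calc (-(N + N ^ 2)) ^ 2 = N ^ 2 + 2 • N ^ 3 + N ^ 4 := by noncomm_ring
    _ = N ^ 2 := by simp [h, h4]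

theorem cay_pow_five (h : N ^ 6 = 0) : cay N ^ 5 = -N ^ 5 := by
  rw [cay_pow_eq]
  have hd : ∀ x : Module.End F V, N ^ 5 * (N * x) = 0 := fun x => by
    rw [← mul_assoc, ← pow_succ, h, zero_mul]
  have step : ∀ Y : Module.End F V, Commute N Y → N ^ 5 * (-(1 + N * Y)) ^ 5 = -N ^ 5 := fun Y hY => by
    have e : N ^ 5 * -(1 + N * Y) = -N ^ 5 := by rw [mul_neg, mul_add, mul_one, hd, add_zero]
    generalize -(1 + N * Y) = Z at e ⊢
    simp only [pow_succ Z, pow_zero, one_mul, ← mul_assoc, e, neg_mul, neg_neg]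
  have h' : (-(1 + N + N ^ 2 + N ^ 3 + N ^ 4) : Module.End F V) = -(1 + N * (1 + N + N ^ 2 + N ^ 3)) := by
    noncomm_ring
  rw [h', step _ ((((Commute.one_right N).add_right (Commute.refl N)).add_right (Commute.self_pow N 2)).add_right
    (Commute.self_pow N 3))]

/-- The Cayley transform of a unipotent isometry is skew in characteristic three. -/
theorem cay_skew {σ : F →+* F} (B : V →ₛₗ[σ] V →ₗ[F] F) (h3 : (3 : F) = 0) (h : N ^ 6 = 0)
    (hiso : ∀ a b, B (a + N a) (b + N b) = B a b) (a b : V) : B (cay N a) b = -B a (cay N b) := by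
  have e1 : ∀ x : V, x = (1 - N) ((1 - cay N) x) := fun x => by
    rw [← Module.End.mul_apply, show (1 - N) * (1 - cay N) = 1 by
      rw [mul_sub, one_sub_mul_cay h, mul_one, sub_neg_eq_add, sub_add_cancel]]
    rfl
  have e2 : ∀ x : V, cay N ((1 - N) x) = -N x := fun x => by
    rw [← Module.End.mul_apply, cay_mul h]; rfl
  rw [e1 a, e1 b, e2, e2]
  generalize (1 - cay N) a = x
  generalize (1 - cay N) b = y
  have h1 := hiso x y
  simp only [map_add, LinearMap.add_apply] at h1
  simp only [LinearMap.sub_apply, Module.End.one_apply, map_sub, map_neg, LinearMap.neg_apply]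
  linear_combination -h1 + (B (N x) (N y)) * h3

theorem cay_intertwine {V' : Type*} [AddCommGroup V'] [Module F V'] (Φ : V →ₗ[F] V') {X : Module.End F V}
    {X' : Module.End F V'} (h : ∀ x, Φ (X x) = X' (Φ x)) (x : V) : Φ (cay X x) = cay X' (Φ x) := by
  have hp : ∀ (k : ℕ) (x : V), Φ ((X ^ k) x) = (X' ^ k) (Φ x) := fun k => by
    induction k with
    | zero => intro x; rfl
    | succ k ih => intro x; rw [pow_succ, pow_succ, Module.End.mul_apply, Module.End.mul_apply, ih, h]
  simp only [cay, LinearMap.neg_apply, LinearMap.add_apply, map_neg, map_add, hp, h]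

theorem skew_pow {σ : F →+* F} {B : V →ₛₗ[σ] V →ₗ[F] F} {X : Module.End F V}
    (h : ∀ a b, B (X a) b = -B a (X b)) (i j : ℕ) (a b : V) :
    B ((X ^ i) a) ((X ^ j) b) = (-1) ^ i * B a ((X ^ (i + j)) b) := by
  induction i generalizing a j with
  | zero => simp
  | succ i ih =>
    rw [pow_succ', Module.End.mul_apply, h, ← Module.End.mul_apply, ← pow_succ', ih]
    rw [show i + (j + 1) = i + 1 + j by omega]
    ring

end Cayley

end CfsgLib.Known.CoverTwo
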