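import Cfsg.Agent.Lib.Known.CoverTwo.Basic
import Cfsg.Agent.Lib.Known.QuadClassify
import Cfsg.Agent.Lib.Classical.Symplectic.MatrixStructure
import Cfsg.Agent.Lib.Classical.Quad.StandardForms

/-!
# `Sp₂ₘ(q)`, `q` even: every element fixes a quadratic form polarising to the symplectic form
-/

set_option autoImplicit false
set_option linter.unusedSectionVars false
set_option linter.unusedSimpArgs false
set_option linter.style.haveILetI false

namespace CfsgLib.Known.CoverTwo

open CfsgLib.Classical CfsgLib.Classical.Symp CfsgLib.Known.QuadClassify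
open QuadraticMap (polar polarBilin)
open LinearMap (BilinForm)

variable {F : Type*} [Field F] {V : Type*} [AddCommGroup V] [Module F V] [FiniteDimensional F V]
  {B : BilinForm F V}

theorem bil_comm [CharP F 2] (hA : B.IsAlt) (x y : V) : B x y = B y x := by
  rw [Symp.swap hA x y, CharTwo.neg_eq]

/-- A symplectic map in characteristic two fixes some quadratic form polarising to the symplectic form. -/
theorem exists_fixed_form [Finite F] [CharP F 2] (hA : B.IsAlt) (hB : B.Nondegenerate)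
    (Q₀ : QuadraticForm F V) (h₀ : ∀ x y, polar Q₀ x y = B x y) (g : Sp B) :
    ∃ Q : QuadraticForm F V, (∀ x y, polar Q x y = B x y) ∧ ∀ x, Q ((g : V ≃ₗ[F] V) x) = Q x := by
  classical
  haveI : Fintype F := Fintype.ofFinite F
  haveI : ExpChar F 2 := ExpChar.prime Nat.prime_two
  let r : F ≃+* F := frobeniusEquiv F 2
  have hr : ∀ t, r.symm t * r.symm t = t := fun t => by
    have := r.apply_symm_apply t
    rwa [show r (r.symm t) = (r.symm t) ^ 2 from frobeniusEquiv_apply F 2 _, sq] at this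
  set d : V → F := fun x => Q₀ ((g : V ≃ₗ[F] V) x) + Q₀ x
  have hg : ∀ x y, B ((g : V ≃ₗ[F] V) x) ((g : V ≃ₗ[F] V) y) = B x y := fun x y => g.2 x y
  have hQadd : ∀ x y, Q₀ (x + y) = Q₀ x + Q₀ y + B x y := fun x y => by
    rw [← h₀ x y, QuadraticMap.polar]; ring
  have hadd : ∀ x y, d (x + y) = d x + d y := fun x y => by
    simp only [d]
    rw [map_add, hQadd, hQadd, hg]
    linear_combination CharTwo.add_self_eq_zero (B x y)
  let ψ : V →ₗ[F] F :=
    { toFun := fun x => r.symm (d x)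
      map_add' := fun x y => by rw [hadd, map_add]
      map_smul' := fun a x => by
        have h1 : d (a • x) = (a * a) * d x := by
          simp only [d, map_smul, QuadraticMap.map_smul, smul_eq_mul]; ring
        have h2 : r.symm (a * a) = a := r.injective (by
          rw [r.apply_symm_apply, show r a = a ^ 2 from frobeniusEquiv_apply F 2 a, sq])
        simp only [h1, map_mul, RingHom.id_apply, smul_eq_mul]
        rw [← map_mul, h2] }
  have hψ : ∀ x, ψ x * ψ x = d x := fun x => hr _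
  obtain ⟨c, hc⟩ : ∃ c, ∀ x, B x c = ψ x := ⟨(B.toDual hB).symm ψ, fun x => by
    rw [bil_comm hA, LinearMap.BilinForm.apply_toDual_symm_apply]⟩
  let T : V →ₗ[F] V := (((g⁻¹ : Sp B) : V ≃ₗ[F] V) : V →ₗ[F] V) + LinearMap.id
  obtain ⟨a, ha⟩ : c ∈ LinearMap.range T := by
    by_contra hcr
    obtain ⟨φ, hφc, hφ⟩ := Submodule.exists_dual_map_eq_bot_of_notMem hcr inferInstance
    obtain ⟨w, hw⟩ : ∃ w, ∀ x, B w x = φ x :=
      ⟨(B.toDual hB).symm φ, fun x => LinearMap.BilinForm.apply_toDual_symm_apply (hB := hB) φ x⟩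
    have hzero : ∀ v, φ (T v) = 0 := fun v => by
      rw [← Submodule.mem_bot (R := F), ← hφ]
      exact Submodule.mem_map_of_mem (LinearMap.mem_range_self T v)
    have hgw : (g : V ≃ₗ[F] V) w = w := by
      refine sub_eq_zero.1 (hB.1 _ fun v => ?_)
      have h1 := hzero v
      have e : B w (((g⁻¹ : Sp B) : V ≃ₗ[F] V) v) = B ((g : V ≃ₗ[F] V) w) v := by
        conv_lhs => rw [← hg]
        simp
      simp only [T, LinearMap.add_apply, LinearMap.id_apply, map_add, ← hw, LinearEquiv.coe_coe, e] at h1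
      rw [LinearMap.BilinForm.sub_left, CharTwo.sub_eq_add]
      exact h1
    refine hφc ?_
    rw [← hw, hc]
    have h1 : d w = 0 := by
      simp only [d]; rw [hgw]; exact CharTwo.add_self_eq_zero _
    show r.symm (d w) = 0
    rw [h1, map_zero]
  refine ⟨Q₀ + QuadraticMap.linMulLin (B.flip a) (B.flip a), fun x y => ?_, fun x => ?_⟩
  · simp only [QuadraticMap.polar, QuadraticMap.add_apply, QuadraticMap.linMulLin_apply,
      LinearMap.BilinForm.flip_apply, map_add, LinearMap.add_apply]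
    rw [hQadd]
    linear_combination CharTwo.add_self_eq_zero (B x a * B y a)
  · simp only [QuadraticMap.add_apply, QuadraticMap.linMulLin_apply, LinearMap.BilinForm.flip_apply]
    have e : B ((g : V ≃ₗ[F] V) x) a = B x (((g⁻¹ : Sp B) : V ≃ₗ[F] V) a) := by
      conv_rhs => rw [← hg]
      simp
    have h1 : B x c = B ((g : V ≃ₗ[F] V) x) a + B x a := by
      rw [← ha, e]; simp [T, LinearMap.BilinForm.add_right]
    have h2 := hψ x
    rw [← hc, h1] at h2
    simp only [d] at h2
    linear_combination h2 + (Q₀ ((g : V ≃ₗ[F] V) x) - B x a * B x a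
      - B ((g : V ≃ₗ[F] V) x) a * B x a) * CharTwo.two_eq_zero (R := F)

/-- The isometries of a quadratic form inside the symplectic group. -/
def formStab (B : BilinForm F V) (Q : QuadraticForm F V) : Subgroup (Sp B) where
  carrier := {g | ∀ x, Q ((g : V ≃ₗ[F] V) x) = Q x}
  mul_mem' {a b} ha hb x := by
    show Q ((a : V ≃ₗ[F] V) ((b : V ≃ₗ[F] V) x)) = Q x
    rw [ha, hb]
  one_mem' x := rfl
  inv_mem' {a} ha x := by
    have h := ha (((a⁻¹ : Sp B) : V ≃ₗ[F] V) x)
    simp at h
    exact h.symm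

theorem formStab_ne_top [Finite F] [CharP F 2] (hA : B.IsAlt) (hB : B.Nondegenerate)
    {v w : V} (hv : v ≠ 0) (hw : w ≠ 0) (hvw0 : v + w ≠ 0) (hvw : B v w = 0)
    (Q : QuadraticForm F V) (hQ : ∀ x y, polar Q x y = B x y) : formStab B Q ≠ ⊤ := by
  intro htop
  have key : ∀ v x : V, B x v * B x v * (Q v + 1) = 0 := fun v x => by
    have h := (htop ▸ Subgroup.mem_top (tr hA v 1) : tr hA v 1 ∈ formStab B Q) x
    rw [tr_apply] at h
    have e : Q (x + (1 * B x v) • v) = Q x + (B x v * B x v) * Q v + B x v * B x v := by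
      have := hQ x ((1 * B x v) • v)
      rw [QuadraticMap.polar, QuadraticMap.map_smul, LinearMap.BilinForm.smul_right, smul_eq_mul] at this
      linear_combination this
    rw [e] at h
    linear_combination h
  have h1 : ∀ v : V, v ≠ 0 → Q v = 1 := fun v hv => by
    obtain ⟨x, hx⟩ : ∃ x, B x v ≠ 0 := by
      by_contra hc
      push Not at hc
      exact hv (hB.2 v hc)
    exact CharTwo.add_eq_zero.1 ((mul_eq_zero.1 (key v x)).resolve_left (mul_ne_zero hx hx))
  have := hQ v w
  rw [QuadraticMap.polar, h1 v hv, h1 w hw, h1 _ hvw0, hvw] at this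
  exact one_ne_zero (show (1 : F) = 0 by linear_combination -this)

/-- Two forms with the same standard shape are conjugate. -/
theorem exists_conj {ι : Type*} {Q Q' : QuadraticForm F V} (hQ : ∀ x y, polar Q x y = B x y)
    (hQ' : ∀ x y, polar Q' x y = B x y) (R : (ι → F) → F) (e e' : (ι → F) ≃ₗ[F] V)
    (he : ∀ z, Q (e z) = R z) (he' : ∀ z, Q' (e' z) = R z) :
    ∃ x : Sp B, ∀ v, Q' ((x : V ≃ₗ[F] V) v) = Q v := by
  have h : ∀ v, Q' ((e.symm.trans e') v) = Q v := fun v => by
    rw [LinearEquiv.trans_apply, he', ← he, e.apply_symm_apply]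
  refine ⟨⟨e.symm.trans e', fun u v => ?_⟩, h⟩
  show B ((e.symm.trans e') u) ((e.symm.trans e') v) = B u v
  rw [← hQ', ← hQ, QuadraticMap.polar, QuadraticMap.polar, ← map_add, h, h, h]

theorem conj_mem_formStab {Q Q' : QuadraticForm F V} {g x : Sp B} (hg : ∀ v, Q ((g : V ≃ₗ[F] V) v) = Q v)
    (hx : ∀ v, Q' ((x : V ≃ₗ[F] V) v) = Q v) : x * g * x⁻¹ ∈ formStab B Q' := fun v => by
  show Q' ((x : V ≃ₗ[F] V) ((g : V ≃ₗ[F] V) (((x⁻¹ : Sp B) : V ≃ₗ[F] V) v))) = Q' v
  rw [hx, hg, ← hx]
  simp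

variable (m : ℕ)

/-- `PSp₂ₘ` in characteristic two is covered. -/
theorem covered_PSp_even [Fintype F] [CharP F 2] (hm : 2 ≤ m) : Covered (Cfsg.PSp m F) := by
  classical
  refine covered_of_equiv (pspEquiv m F) ?_
  have hA := sympBil_isAlt m F
  have hB := sympBil_nondegenerate m F
  haveI := nontrivial_sympSpace (F := F) (m := m) (by omega)
  set B := sympBil m F
  have h₀ : ∀ x y, polar (Quad.qPlus m F) x y = B x y := fun x y => by
    rw [Quad.polar_qPlus, sympBil_apply, sympForm_expand]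
    refine Finset.sum_congr rfl fun i _ => ?_
    rw [CharTwo.sub_eq_add]; ring
  have hnd : ∀ Q : QuadraticForm F (Fin m ⊕ Fin m → F), (∀ x y, polar Q x y = B x y) →
      (polarBilin Q).Nondegenerate := fun Q hQ => Quad.nondegenerate_of_left fun v hv =>
    hB.1 v fun w => by rw [← hQ, hv]
  let P := fun Q : QuadraticForm F (Fin m ⊕ Fin m → F) => (∀ x y, polar Q x y = B x y) ∧
    ∃ (ζ : F) (e : ((Fin (m - 1) ⊕ Fin (m - 1)) ⊕ Fin 2 → F) ≃ₗ[F] (Fin m ⊕ Fin m → F)),
      (∀ t : F, t ^ 2 + t + ζ ≠ 0) ∧ ∀ v, Q (e v) = Cfsg.quadFormMinus (m - 1) F 1 ζ v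
  let Q₁ : QuadraticForm F (Fin m ⊕ Fin m → F) := if hP : ∃ Q, P Q then hP.choose else Quad.qPlus m F
  have hQ₁ : ∀ x y, polar Q₁ x y = B x y := by
    by_cases hP : ∃ Q, P Q
    · simp only [Q₁, dif_pos hP]; exact hP.choose_spec.1
    · simp only [Q₁, dif_neg hP]; exact h₀
  have hZ : ∀ Q : QuadraticForm F (Fin m ⊕ Fin m → F), Subgroup.center (Sp B) ≤ formStab B Q :=
    fun Q z hz v => by
      obtain ⟨a, ha⟩ := (mem_center_iff_smul hA hB).1 hz
      obtain ⟨u, hu⟩ := exists_ne (0 : Fin m ⊕ Fin m → F)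
      obtain ⟨y, hy⟩ : ∃ y, B u y ≠ 0 := by
        by_contra hc
        push Not at hc
        exact hu (hB.1 u hc)
      have h1 : B ((z : _ ≃ₗ[F] _) u) ((z : _ ≃ₗ[F] _) y) = B u y := z.2 u y
      rw [ha, ha, LinearMap.BilinForm.smul_left, LinearMap.BilinForm.smul_right, ← mul_assoc] at h1
      have h2 : a * a = 1 := (mul_eq_right₀ hy).1 h1
      have h3 : a = 1 := by
        rcases mul_self_eq_one_iff.1 h2 with h3 | h3
        · exact h3
        · rw [h3, CharTwo.neg_eq]
      rw [ha, h3, one_smul]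
  have he0 : (Pi.single (Sum.inl ⟨0, by omega⟩) 1 : Fin m ⊕ Fin m → F) ≠ 0 := by simp
  have he1 : (Pi.single (Sum.inl ⟨1, by omega⟩) 1 : Fin m ⊕ Fin m → F) ≠ 0 := by simp
  have he01 : (Pi.single (Sum.inl ⟨0, by omega⟩) 1 : Fin m ⊕ Fin m → F) +
      Pi.single (Sum.inl ⟨1, by omega⟩) 1 ≠ 0 := fun h => by
    have := congrFun h (Sum.inl ⟨0, by omega⟩)
    simp at this
  have heB : B (Pi.single (Sum.inl ⟨0, by omega⟩) 1) (Pi.single (Sum.inl ⟨1, by omega⟩) 1) = 0 := by
    rw [sympBil_apply, sympForm_expand]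
    exact Finset.sum_eq_zero fun i _ => by simp
  refine covered_quotient (formStab B (Quad.qPlus m F)) (formStab B Q₁) (hZ _) (hZ _)
    (formStab_ne_top hA hB he0 he1 he01 heB _ h₀) (formStab_ne_top hA hB he0 he1 he01 heB _ hQ₁) fun g => ?_
  obtain ⟨Q, hQ, hgQ⟩ := exists_fixed_form hA hB _ h₀ g
  rcases classify_even (m := m) (finrank_sympSpace m F) Q (hnd Q hQ) with ⟨e, he⟩ | ⟨-, ζ, e, hζ, he⟩
  · obtain ⟨x, hx⟩ := exists_conj hQ h₀ (Cfsg.quadFormPlus m F) e (LinearEquiv.refl F _) he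
      (fun z => by rw [Quad.coe_qPlus]; rfl)
    exact ⟨x, Or.inl (conj_mem_formStab hgQ hx)⟩
  · have hP : ∃ Q, P Q := ⟨Q, hQ, ζ, e, hζ, he⟩
    obtain ⟨η, e', hη, he'⟩ := hP.choose_spec.2
    obtain ⟨r, s, hr, hsum, hval⟩ := exists_shift hζ hη
    let S : ((Fin (m - 1) ⊕ Fin (m - 1)) ⊕ Fin 2 → F) →ₗ[F] ((Fin (m - 1) ⊕ Fin (m - 1)) ⊕ Fin 2 → F) :=
      LinearMap.pi (Sum.elim (fun i => LinearMap.proj (Sum.inl i))
        ![LinearMap.proj (Sum.inr 0) + s • LinearMap.proj (Sum.inr 1), r • LinearMap.proj (Sum.inr 1)])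
    have hS : Function.Injective S := by
      rw [injective_iff_map_eq_zero]
      intro z hz
      have h1 : z (Sum.inr 1) = 0 := by
        have := congrFun hz (Sum.inr 1)
        simp [S, hr] at this; exact this
      have h2 : z (Sum.inr 0) = 0 := by
        have := congrFun hz (Sum.inr 0)
        simp [S, h1] at this; exact this
      funext i
      rcases i with i | i
      · have := congrFun hz (Sum.inl i)
        simpa [S] using this
      · fin_cases i <;> simp [h1, h2]
    let Se := LinearEquiv.ofInjectiveEndo S hS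
    obtain ⟨x, hx⟩ := exists_conj hQ hP.choose_spec.1 (Cfsg.quadFormMinus (m - 1) F 1 η) (Se.trans e) e'
      (fun z => by
        rw [LinearEquiv.trans_apply, he, show (Se z : _ → F) = S z from rfl]
        simp only [Cfsg.quadFormMinus, S, LinearMap.pi_apply, Sum.elim_inl, Sum.elim_inr, Matrix.cons_val_zero,
          Matrix.cons_val_one, LinearMap.add_apply, LinearMap.smul_apply, LinearMap.proj_apply, smul_eq_mul]
        linear_combination (z (Sum.inr 0) * z (Sum.inr 1)) * hsum + z (Sum.inr 1) ^ 2 * hval)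
      he'
    refine ⟨x, Or.inr ?_⟩
    simp only [Q₁, dif_pos hP]
    exact conj_mem_formStab hgQ hx

end CfsgLib.Known.CoverTwo
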