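import Cfsg.Agent.Lib.Known.CoverTwo.SympNormal

/-!
# The semilinear model `L²` of a six dimensional symplectic space
-/

set_option autoImplicit false
set_option linter.unusedSectionVars false
set_option linter.unusedSimpArgs false
set_option linter.style.haveILetI false

namespace CfsgLib.Known.CoverTwo

open LinearMap (BilinForm)

variable (F L : Type*) [Field F] [Field L] [Algebra F L]

/-- The trace of the alternating `L`-form on `L²`. -/
noncomputable def trPair : BilinForm F (Fin 2 → L) :=
  LinearMap.mk₂ F (fun w w' => Algebra.trace F L (w 0 * w' 1 - w 1 * w' 0))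
    (fun a b c => by simp only [Pi.add_apply, ← map_add]; congr 1; ring)
    (fun r a b => by
      simp only [Pi.smul_apply, ← map_smul]; congr 1
      rw [smul_sub, smul_mul_assoc, smul_mul_assoc])
    (fun a b c => by simp only [Pi.add_apply, ← map_add]; congr 1; ring)
    (fun r a b => by
      simp only [Pi.smul_apply, ← map_smul]; congr 1
      rw [smul_sub, mul_smul_comm, mul_smul_comm])

variable {F L}

theorem trPair_apply (w w' : Fin 2 → L) : trPair F L w w' = Algebra.trace F L (w 0 * w' 1 - w 1 * w' 0) := rfl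

theorem trPair_isAlt : (trPair F L).IsAlt := fun w => by rw [trPair_apply, mul_comm, sub_self, map_zero]

theorem trPair_smul (z : L) (w w' : Fin 2 → L) : trPair F L (z • w) w' = trPair F L w (z • w') := by
  simp only [trPair_apply, Pi.smul_apply, smul_eq_mul]; congr 1; ring

theorem finrank_pair [Module.Finite F L] (hL : Module.finrank F L = 3) : Module.finrank F (Fin 2 → L) = 6 := by
  rw [Module.finrank_pi_fintype]; simp [hL]

variable [Fintype F] [Finite L]

theorem exists_trace_eq_one : ∃ ρ : L, Algebra.trace F L ρ = 1 := by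
  haveI : FiniteDimensional F L := Module.Finite.of_finite
  obtain ⟨x, hx⟩ : ∃ x, Algebra.trace F L x ≠ 0 := by
    by_contra h
    push Not at h
    exact one_ne_zero ((traceForm_nondegenerate F L).1 1 fun y => by
      rw [Algebra.traceForm_apply, one_mul]; exact h y)
  exact ⟨(Algebra.trace F L x)⁻¹ • x, by rw [map_smul, smul_eq_mul, inv_mul_cancel₀ hx]⟩

theorem trPair_nondegenerate : (trPair F L).Nondegenerate := by
  haveI : FiniteDimensional F L := Module.Finite.of_finite
  have key : ∀ w : Fin 2 → L, (∀ w', trPair F L w w' = 0) → w = 0 := fun w h => by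
    funext i
    have h0 : w 0 = 0 := (traceForm_nondegenerate F L).1 _ fun y => by
      simpa [trPair_apply, Algebra.traceForm_apply] using h ![0, y]
    have h1 : w 1 = 0 := (traceForm_nondegenerate F L).1 _ fun y => by
      simpa [trPair_apply, Algebra.traceForm_apply] using h ![-y, 0]
    fin_cases i
    · exact h0
    · exact h1
  refine ⟨key, fun w h => key w fun w' => ?_⟩
  rw [← LinearMap.BilinForm.IsAlt.neg_eq trPair_isAlt, h, neg_zero]

variable (F L) in
/-- The generator of the Galois group. -/
noncomputable def galGen : L ≃ₐ[F] L := FiniteField.frobeniusAlgEquivOfAlgebraic F L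

theorem galGen_cube (hL : Module.finrank F L = 3) (z : L) : galGen F L (galGen F L (galGen F L z)) = z := by
  have h := pow_orderOf_eq_one (FiniteField.frobeniusAlgEquivOfAlgebraic F L)
  rw [FiniteField.orderOf_frobeniusAlgEquivOfAlgebraic, hL] at h
  exact congrFun (congrArg DFunLike.coe h) z

theorem trace_galGen (hL : Module.finrank F L = 3) (z : L) :
    algebraMap F L (Algebra.trace F L z) = z + galGen F L z + galGen F L (galGen F L z) := by
  rw [FiniteField.algebraMap_trace_eq_sum_pow, hL, Finset.sum_range_succ, Finset.sum_range_succ, Finset.sum_range_one]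
  simp [galGen, FiniteField.coe_frobeniusAlgEquivOfAlgebraic, Nat.card_eq_fintype_card, ← pow_mul, sq]

variable (F) in
/-- The semilinear unipotent `(x, y) ↦ (σx + aσy, σy)`. -/
noncomputable def uTwist (a : L) : Module.End F (Fin 2 → L) where
  toFun w := ![galGen F L (w 0) + a * galGen F L (w 1), galGen F L (w 1)]
  map_add' u v := by funext i; fin_cases i <;> simp [mul_add]; ring
  map_smul' r u := by funext i; fin_cases i <;> simp [smul_add, mul_smul_comm]

theorem uTwist_apply (a : L) (w : Fin 2 → L) :
    uTwist F a w = ![galGen F L (w 0) + a * galGen F L (w 1), galGen F L (w 1)] := rfl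

theorem uTwist_semi (a : L) (z : L) (w : Fin 2 → L) : uTwist F a (z • w) = galGen F L z • uTwist F a w := by
  funext i; fin_cases i <;> simp [uTwist_apply]; ring

theorem uTwist_iso (a : L) (w w' : Fin 2 → L) : trPair F L (uTwist F a w) (uTwist F a w') = trPair F L w w' := by
  rw [trPair_apply, trPair_apply]
  simp only [uTwist_apply, Matrix.cons_val_zero, Matrix.cons_val_one]
  rw [show (galGen F L (w 0) + a * galGen F L (w 1)) * galGen F L (w' 1) -
      galGen F L (w 1) * (galGen F L (w' 0) + a * galGen F L (w' 1)) = galGen F L (w 0 * w' 1 - w 1 * w' 0) by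
    simp only [map_sub, map_mul]; ring]
  exact Algebra.trace_eq_of_algEquiv _ _

section
variable (h3 : (3 : F) = 0) (hL : Module.finrank F L = 3)
include h3 hL

theorem uTwist_sub_one_sq (a : L) (w : Fin 2 → L) :
    (((uTwist F a - 1) ^ 2 : Module.End F (Fin 2 → L))) w 1 = algebraMap F L (Algebra.trace F L (w 1)) := by
  have h3' : (3 : L) = 0 := by rw [← map_ofNat (algebraMap F L) 3, h3, map_zero]
  rw [trace_galGen hL, pow_two, Module.End.mul_apply]
  simp [uTwist_apply, Matrix.vecHead, Matrix.vecTail]
  linear_combination (-(galGen F L (w 1))) * h3'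

theorem uTwist_sub_one_cube (a : L) (w : Fin 2 → L) :
    (((uTwist F a - 1) ^ 3 : Module.End F (Fin 2 → L))) w = ![algebraMap F L (Algebra.trace F L a) * w 1, 0] := by
  have h3' : (3 : L) = 0 := by rw [← map_ofNat (algebraMap F L) 3, h3, map_zero]
  rw [trace_galGen hL, pow_succ', pow_two, Module.End.mul_apply, Module.End.mul_apply]
  funext i
  fin_cases i <;> simp [uTwist_apply, galGen_cube hL, Matrix.vecHead, Matrix.vecTail]
  · linear_combination (galGen F L (w 0) - galGen F L (galGen F L (w 0)) + a * galGen F L (w 1)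
      - galGen F L a * galGen F L (galGen F L (w 1)) - a * galGen F L (galGen F L (w 1))) * h3'
  · linear_combination (galGen F L (w 1) - galGen F L (galGen F L (w 1))) * h3'

theorem uTwist_sub_one_six (a : L) : (uTwist F a - 1) ^ 6 = 0 := by
  refine LinearMap.ext fun w => ?_
  rw [show 6 = 3 + 3 from rfl, pow_add, Module.End.mul_apply, uTwist_sub_one_cube h3 hL,
    uTwist_sub_one_cube h3 hL]
  funext i; fin_cases i <;> simp

/-- The model regular unipotent with a prescribed invariant. -/
theorem model_six (t : F) : ∃ (a : L) (x : Fin 2 → L),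
    trPair F L x ((cay (uTwist F a - 1) ^ 5) x) = t := by
  obtain ⟨ρ, hρ⟩ := exists_trace_eq_one (F := F) (L := L)
  refine ⟨t • ρ, ![0, ρ], ?_⟩
  rw [cay_pow_five (uTwist_sub_one_six h3 hL _), show 5 = 3 + 2 from rfl, pow_add, LinearMap.neg_apply,
    Module.End.mul_apply, uTwist_sub_one_cube h3 hL, uTwist_sub_one_sq h3 hL, map_smul, hρ, trPair_apply]
  simp [hρ, ← Algebra.smul_def]
  rw [mul_comm, ← Algebra.smul_def, map_smul, hρ, smul_eq_mul, mul_one]

theorem uTwist_zero_cube : (uTwist F (0 : L) - 1) ^ 3 = 0 := by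
  refine LinearMap.ext fun w => ?_
  rw [uTwist_sub_one_cube h3 hL, map_zero, map_zero, zero_mul]
  funext i; fin_cases i <;> simp

theorem uTwist_zero_sq (ρ : L) :
    (cay (uTwist F (0 : L) - 1) ^ 2) ![ρ, 0] = ![algebraMap F L (Algebra.trace F L ρ), 0] := by
  have h3' : (3 : L) = 0 := by rw [← map_ofNat (algebraMap F L) 3, h3, map_zero]
  rw [(cay_cube (uTwist_zero_cube h3 hL)).2, trace_galGen hL, pow_two, Module.End.mul_apply]
  funext i
  fin_cases i <;> simp [uTwist_apply]
  linear_combination (-(galGen F L ρ)) * h3'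

/-- The model of type `(3, 3)`. -/
theorem model_three : ∃ x y : Fin 2 → L,
    trPair F L x ((cay (uTwist F (0 : L) - 1) ^ 2) y) ≠ 0 := by
  obtain ⟨ρ, hρ⟩ := exists_trace_eq_one (F := F) (L := L)
  refine ⟨![0, ρ], ![ρ, 0], ?_⟩
  rw [uTwist_zero_sq h3 hL, hρ, trPair_apply]
  simp [hρ]

variable (L) in
/-- The model semisimple part. -/
noncomputable def sModel (c β : F) : Module.End F (Fin 2 → L) where
  toFun w := ![(-β⁻¹) • w 1, β • w 0 + c • w 1]
  map_add' u v := by funext i; fin_cases i <;> simp [smul_add] <;> abel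
  map_smul' r u := by funext i; fin_cases i <;> simp [smul_add, smul_comm r]

omit h3 hL in
theorem sModel_apply (c β : F) (w : Fin 2 → L) :
    sModel L c β w = ![(-β⁻¹) • w 1, β • w 0 + c • w 1] := rfl

omit h3 hL in
theorem sModel_sq {c β : F} (hβ : β ≠ 0) (w : Fin 2 → L) :
    sModel L c β (sModel L c β w) = c • sModel L c β w - w := by
  funext i
  fin_cases i
  · simp [sModel_apply, smul_smul, smul_add, hβ, mul_comm c]; abel
  · simp [sModel_apply, smul_smul, smul_add, hβ]; abel

omit h3 hL in
theorem sModel_semi (c β : F) (z : L) (w : Fin 2 → L) : sModel L c β (z • w) = z • sModel L c β w := by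
  funext i; fin_cases i <;> simp [sModel_apply, mul_add, mul_smul_comm]

omit h3 hL in
theorem sModel_iso {c β : F} (hβ : β ≠ 0) (w w' : Fin 2 → L) :
    trPair F L (sModel L c β w) (sModel L c β w') = trPair F L w w' := by
  rw [trPair_apply, trPair_apply]
  congr 1
  have hb : algebraMap F L β ≠ 0 := by simpa using hβ
  simp only [sModel_apply, Matrix.cons_val_zero, Matrix.cons_val_one, Algebra.smul_def, map_neg, map_inv₀]
  field_simp
  ring

omit h3 hL in
theorem sModel_comm (c β : F) (w : Fin 2 → L) :
    sModel L c β (uTwist F (0 : L) w) = uTwist F (0 : L) (sModel L c β w) := by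
  funext i; fin_cases i <;> simp [sModel_apply, uTwist_apply]

/-- The model with a semisimple part. -/
theorem model_ext (c β : F) : ∃ x : Fin 2 → L,
    trPair F L x (sModel L c β ((cay (uTwist F (0 : L) - 1) ^ 2) x)) = β := by
  obtain ⟨ρ, hρ⟩ := exists_trace_eq_one (F := F) (L := L)
  refine ⟨![ρ, 0], ?_⟩
  rw [uTwist_zero_sq h3 hL, hρ, trPair_apply]
  simp [sModel_apply, hρ, ← Algebra.algebraMap_eq_smul_one]
  rw [Algebra.algebraMap_eq_smul_one, mul_smul_comm, mul_one, map_smul, hρ, smul_eq_mul, mul_one]

end

end CfsgLib.Known.CoverTwo
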