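import Cfsg.Agent.Lib.Known.CoverTwo.Semi
import Cfsg.Agent.Lib.Classical.Symplectic.Basic

/-!
# Normal forms of nilpotent skew maps of a six dimensional symplectic space, characteristic three
-/

set_option autoImplicit false
set_option linter.unusedSectionVars false
set_option linter.unusedSimpArgs false
set_option linter.style.haveILetI false

namespace CfsgLib.Known.CoverTwo

open LinearMap (BilinForm)
open CfsgLib.Classical

variable {F : Type*} [Field F] {V V' : Type*} [AddCommGroup V] [Module F V] [AddCommGroup V'] [Module F V']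
  {B : BilinForm F V} {B' : BilinForm F V'} {X : Module.End F V} {X' : Module.End F V'}

theorem two_ne_zero_of_three (h3 : (3 : F) = 0) : (2 : F) ≠ 0 := fun h =>
  one_ne_zero (α := F) (by linear_combination h3 - h)

theorem pow_succ_apply (T : Module.End F V) (i : ℕ) (v : V) : T ((T ^ i) v) = (T ^ (i + 1)) v := by
  rw [pow_succ', Module.End.mul_apply]

theorem skew_pow' (hX : ∀ a b, B (X a) b = -B a (X b)) (i j : ℕ) (a b : V) :
    B ((X ^ i) a) ((X ^ j) b) = (-1) ^ i * B a ((X ^ (i + j)) b) :=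
  skew_pow (σ := RingHom.id F) (B := B) hX i j a b

theorem skew_pow_swap (hA : B.IsAlt) (hX : ∀ a b, B (X a) b = -B a (X b)) (k : ℕ) (a b : V) :
    B a ((X ^ k) b) = -((-1) ^ k * B b ((X ^ k) a)) := by
  rw [Symp.swap hA ((X ^ k) b) a]
  have h := skew_pow' hX k 0 b a
  simp only [pow_zero, Module.End.one_apply, add_zero] at h
  rw [h]

theorem apply_pow_even (h2 : (2 : F) ≠ 0) (hA : B.IsAlt) (hX : ∀ a b, B (X a) b = -B a (X b)) {k : ℕ}
    (hk : Even k) (a : V) : B a ((X ^ k) a) = 0 := by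
  have h := skew_pow_swap hA hX k a a
  rw [hk.neg_one_pow, one_mul, eq_neg_iff_add_eq_zero, ← two_mul] at h
  exact (mul_eq_zero.1 h).resolve_left h2

theorem pow_zero_of_le {T : Module.End F V} {n k : ℕ} (hT : T ^ n = 0) (hk : n ≤ k) (v : V) : (T ^ k) v = 0 := by
  rw [pow_eq_zero_of_le hk hT]; rfl

/-- A generator of a regular nilpotent with all odd invariants but the top one equal to zero. -/
theorem exists_gen_six (h3 : (3 : F) = 0) (hX : ∀ a b, B (X a) b = -B a (X b))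
    (h6 : X ^ 6 = 0) {x : V} (hx : B x ((X ^ 5) x) ≠ 0) :
    ∃ y, B y (X y) = 0 ∧ B y ((X ^ 3) y) = 0 ∧ B y ((X ^ 5) y) = B x ((X ^ 5) x) := by
  have key : ∀ (p : F) (y : V) (j k : ℕ), B (y + p • (X ^ (2 * j)) y) ((X ^ k) (y + p • (X ^ (2 * j)) y)) =
      B y ((X ^ k) y) + 2 * p * B y ((X ^ (k + 2 * j)) y) + p ^ 2 * B y ((X ^ (k + 4 * j)) y) := by
    intro p y j k
    have e : ∀ m n, (X ^ m) ((X ^ n) y) = (X ^ (m + n)) y := fun m n => by rw [pow_add, Module.End.mul_apply]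
    simp only [map_add, map_smul, LinearMap.add_apply, LinearMap.smul_apply, smul_eq_mul, e, skew_pow' hX]
    rw [(even_two_mul j).neg_one_pow, show 2 * j + (k + 2 * j) = k + 4 * j by omega, add_comm (2 * j) k]
    ring
  have hz : ∀ (y : V) (m : ℕ), 6 ≤ m → B y ((X ^ m) y) = 0 := fun y m hm => by
    rw [pow_zero_of_le h6 hm, map_zero]
  set t := B x ((X ^ 5) x) with ht
  set y₁ := x + (B x ((X ^ 3) x) / t) • (X ^ (2 * 1)) x with hy₁
  have h15 : B y₁ ((X ^ 5) y₁) = t := by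
    rw [hy₁, key, hz x (5 + 2 * 1) (by omega), hz x (5 + 4 * 1) (by omega), ← ht]; ring
  have h13 : B y₁ ((X ^ 3) y₁) = 0 := by
    rw [hy₁, key, hz x (3 + 4 * 1) (by omega), show 3 + 2 * 1 = 5 from rfl, ← ht, mul_assoc, div_mul_cancel₀ _ hx]
    linear_combination (B x ((X ^ 3) x)) * h3
  refine ⟨y₁ + (B y₁ (X y₁) / t) • (X ^ (2 * 2)) y₁, ?_, ?_, ?_⟩
  · have h := key (B y₁ (X y₁) / t) y₁ 2 1
    rw [pow_one] at h
    rw [h, hz y₁ (1 + 4 * 2) (by omega), show 1 + 2 * 2 = 5 from rfl, h15, mul_assoc, div_mul_cancel₀ _ hx]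
    linear_combination (B y₁ (X y₁)) * h3
  · rw [key, h13, hz y₁ (3 + 2 * 2) (by omega), hz y₁ (3 + 4 * 2) (by omega)]; ring
  · rw [key, h15, hz y₁ (5 + 2 * 2) (by omega), hz y₁ (5 + 4 * 2) (by omega)]; ring

variable [FiniteDimensional F V] [FiniteDimensional F V']

/-- Regular nilpotent skew maps with the same invariant are conjugate by an isometry. -/
theorem conj_six (h3 : (3 : F) = 0) (hA : B.IsAlt) (hA' : B'.IsAlt) (hd : Module.finrank F V = 6)
    (hd' : Module.finrank F V' = 6) (hX : ∀ a b, B (X a) b = -B a (X b))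
    (hX' : ∀ a b, B' (X' a) b = -B' a (X' b)) (h6 : X ^ 6 = 0) (h6' : X' ^ 6 = 0) {x : V} {x' : V'}
    (hx : B x ((X ^ 5) x) ≠ 0) (hxx : B' x' ((X' ^ 5) x') = B x ((X ^ 5) x)) :
    ∃ Φ : V ≃ₗ[F] V', (∀ u v, B' (Φ u) (Φ v) = B u v) ∧ ∀ v, Φ (X v) = X' (Φ v) := by
  have h2 := two_ne_zero_of_three h3
  obtain ⟨y, e1, e3, e5⟩ := exists_gen_six h3 hX h6 hx
  obtain ⟨y', e1', e3', e5'⟩ := exists_gen_six h3 hX' h6' (x := x') (by rw [hxx]; exact hx)
  set t := B x ((X ^ 5) x) with ht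
  have val : ∀ k, B y ((X ^ k) y) = if k = 5 then t else 0 := fun k => by
    rcases Nat.even_or_odd k with he | ho
    · rw [apply_pow_even h2 hA hX he, if_neg (by rintro rfl; exact absurd he (by decide))]
    · rcases lt_or_ge k 6 with hlt | hge
      · interval_cases k <;> simp_all [Nat.odd_iff]
      · rw [pow_zero_of_le h6 hge, map_zero, if_neg (by omega)]
  have val' : ∀ k, B' y' ((X' ^ k) y') = if k = 5 then t else 0 := fun k => by
    rcases Nat.even_or_odd k with he | ho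
    · rw [apply_pow_even h2 hA' hX' he, if_neg (by rintro rfl; exact absurd he (by decide))]
    · rcases lt_or_ge k 6 with hlt | hge
      · interval_cases k <;> simp_all [Nat.odd_iff]
      · rw [pow_zero_of_le h6' hge, map_zero, if_neg (by omega)]
  obtain ⟨Φ, hΦ, hw, hT⟩ := exists_isometry_of_gram (σ := RingHom.id F) B B' (fun i : Fin 6 => (X ^ (i : ℕ)) y)
    (fun i : Fin 6 => (X' ^ (i : ℕ)) y') Fin.rev
    (fun i => by
      rw [skew_pow' hX, val, if_pos (by rw [Fin.val_rev]; omega)]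
      exact mul_ne_zero (pow_ne_zero _ (neg_ne_zero.2 one_ne_zero)) hx)
    (fun i j hj => by
      rw [skew_pow' hX, val, if_neg (by rw [Fin.val_rev]; have := Fin.val_ne_of_ne hj; omega), mul_zero])
    (fun i j => by rw [skew_pow' hX, skew_pow' hX', val, val']) (by simp [hd]) (by simp [hd'])
  refine ⟨Φ, hΦ, hT X X' fun i => ?_⟩
  rw [pow_succ_apply, pow_succ_apply]
  rcases lt_or_ge ((i : ℕ) + 1) 6 with hi | hi
  · exact hw ⟨(i : ℕ) + 1, hi⟩
  · rw [pow_zero_of_le h6 hi, pow_zero_of_le h6' hi, map_zero]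

/-- A hyperbolic pair of generators for a nilpotent of type `(3, 3)`. -/
theorem exists_pair_three (h3 : (3 : F) = 0) (hA : B.IsAlt) (hX : ∀ a b, B (X a) b = -B a (X b))
    (hX3 : X ^ 3 = 0) {x y : V} (hxy : B x ((X ^ 2) y) ≠ 0) :
    ∃ a b, B a (X a) = 0 ∧ B b (X b) = 0 ∧ B a b = 0 ∧ B a (X b) = 0 ∧ B a ((X ^ 2) b) = 1 := by
  have h2 := two_ne_zero_of_three h3
  have e3 : ∀ v, X (X (X v)) = 0 := fun v => by
    rw [← Module.End.mul_apply, ← Module.End.mul_apply, show X * X * X = X ^ 3 by noncomm_ring, hX3]; rfl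
  have p2 : ∀ v, (X ^ 2) v = X (X v) := fun v => by rw [pow_two, Module.End.mul_apply]
  have hev : ∀ v, B v (X (X v)) = 0 := fun v => by rw [← p2]; exact apply_pow_even h2 hA hX even_two v
  simp only [p2] at hxy ⊢
  obtain ⟨y, hxy⟩ : ∃ y, B x (X (X y)) = 1 := ⟨(B x (X (X y)))⁻¹ • y, by simp [hxy]⟩
  have hyx : B y (X (X x)) = -1 := by
    have h := skew_pow_swap hA hX 2 y x
    rw [p2, p2, hxy] at h
    rw [h]; ring
  set a := x + B x (X x) • X y with ha
  have haa : B a (X a) = 0 := by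
    simp only [ha, map_add, map_smul, LinearMap.add_apply, LinearMap.smul_apply, smul_eq_mul, hX, e3, map_zero,
      hxy, hyx]
    linear_combination (B x (X x)) * h3
  have hay : B a (X (X y)) = 1 := by
    simp only [ha, map_add, map_smul, LinearMap.add_apply, LinearMap.smul_apply, smul_eq_mul, hX, e3, map_zero,
      hxy, mul_zero, neg_zero, add_zero]
  set p := -B a (X y) with hp
  set b₁ := y + p • X y + (-(B a y + p * B a (X y))) • X (X y) with hb₁
  have k1 : B a b₁ = 0 := by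
    simp only [hb₁, map_add, map_smul, smul_eq_mul, hay]; ring
  have k2 : B a (X b₁) = 0 := by
    simp only [hb₁, map_add, map_smul, smul_eq_mul, e3, map_zero, hay, hp]; ring
  have k3 : B a (X (X b₁)) = 1 := by
    simp only [hb₁, map_add, map_smul, smul_eq_mul, e3, map_zero, hay]; ring
  have k4 : B b₁ (X (X a)) = -1 := by
    have h := skew_pow_swap hA hX 2 b₁ a
    rw [p2, p2, k3] at h
    rw [h]; ring
  refine ⟨a, b₁ + (-B b₁ (X b₁)) • X a, haa, ?_, ?_, ?_, ?_⟩
  · simp only [map_add, map_smul, LinearMap.add_apply, LinearMap.smul_apply, smul_eq_mul, hX, e3, map_zero,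
      k3, k4]
    linear_combination (B b₁ (X b₁)) * h3
  · simp only [map_add, map_smul, smul_eq_mul, k1, haa]; ring
  · simp only [map_add, map_smul, smul_eq_mul, k2, hev]; ring
  · simp only [map_add, map_smul, smul_eq_mul, k3, e3, map_zero]; ring

theorem gram_three (h2 : (2 : F) ≠ 0) (hA : B.IsAlt) (hX : ∀ a b, B (X a) b = -B a (X b)) (hX3 : X ^ 3 = 0) {a b : V}
    (haa : B a (X a) = 0) (hbb : B b (X b) = 0) (hab : B a b = 0) (haxb : B a (X b) = 0)
    (habb : B a ((X ^ 2) b) = 1) (s s' : Fin 2) (k : ℕ) :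
    B (![a, b] s) ((X ^ k) (![a, b] s')) = if k = 2 then (!![0, 1; -1, 0] : Matrix _ _ F) s s' else 0 := by
  have hk : ∀ u v : V, 3 ≤ k → B u ((X ^ k) v) = 0 := fun u v hk => by
    rw [pow_zero_of_le hX3 hk, map_zero]
  rcases lt_or_ge k 3 with hlt | hge
  · have hba : B b a = 0 := by rw [Symp.swap hA a b, hab, neg_zero]
    have hba1 : B b (X a) = 0 := by
      have := skew_pow_swap hA hX 1 b a
      simp only [pow_one] at this
      rw [this, haxb]; ring
    have hba2 : B b ((X ^ 2) a) = -1 := by rw [skew_pow_swap hA hX 2 b a, habb]; ring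
    interval_cases k <;> fin_cases s <;> fin_cases s' <;>
      simp [haa, hbb, hab, haxb, habb, hba, hba1, hba2, hA a, hA b, apply_pow_even h2 hA hX even_two]
  · rw [if_neg (by omega), hk _ _ hge]

/-- Nilpotent skew maps of type `(3, 3)` are conjugate by an isometry. -/
theorem conj_three (h3 : (3 : F) = 0) (hA : B.IsAlt) (hA' : B'.IsAlt) (hd : Module.finrank F V = 6)
    (hd' : Module.finrank F V' = 6) (hX : ∀ a b, B (X a) b = -B a (X b))
    (hX' : ∀ a b, B' (X' a) b = -B' a (X' b)) (hX3 : X ^ 3 = 0) (hX3' : X' ^ 3 = 0) {x y : V} {x' y' : V'}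
    (hxy : B x ((X ^ 2) y) ≠ 0) (hxy' : B' x' ((X' ^ 2) y') ≠ 0) :
    ∃ Φ : V ≃ₗ[F] V', (∀ u v, B' (Φ u) (Φ v) = B u v) ∧ ∀ v, Φ (X v) = X' (Φ v) := by
  have h2 := two_ne_zero_of_three h3
  obtain ⟨a, b, c1, c2, c3, c4, c5⟩ := exists_pair_three h3 hA hX hX3 hxy
  obtain ⟨a', b', d1, d2, d3, d4, d5⟩ := exists_pair_three h3 hA' hX' hX3' hxy'
  have val := gram_three h2 hA hX hX3 c1 c2 c3 c4 c5
  have val' := gram_three h2 hA' hX' hX3' d1 d2 d3 d4 d5
  obtain ⟨Φ, hΦ, hw, hT⟩ := exists_isometry_of_gram (σ := RingHom.id F) B B'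
    (fun p : Fin 2 × Fin 3 => (X ^ (p.2 : ℕ)) (![a, b] p.1))
    (fun p : Fin 2 × Fin 3 => (X' ^ (p.2 : ℕ)) (![a', b'] p.1)) (fun p => (p.1.rev, p.2.rev))
    (fun p => by
      rw [skew_pow' hX, val, if_pos (by rw [Fin.val_rev]; omega)]
      refine mul_ne_zero (pow_ne_zero _ (neg_ne_zero.2 one_ne_zero)) ?_
      rcases p with ⟨s, i⟩
      fin_cases s <;> simp [Fin.rev])
    (fun p q hne => by
      rw [skew_pow' hX, val]
      split_ifs with h
      · have hs : q.1 ≠ p.1 := fun hs => hne (Prod.ext hs (Fin.ext (by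
          rw [Fin.val_rev] at h; omega)))
        rcases p with ⟨s, i⟩
        rcases q with ⟨s', j⟩
        fin_cases s <;> fin_cases s' <;> simp_all [Fin.rev]
      · rw [mul_zero])
    (fun p q => by rw [skew_pow' hX, skew_pow' hX', val, val']) (by simp [hd]) (by simp [hd'])
  refine ⟨Φ, hΦ, hT X X' fun p => ?_⟩
  rw [pow_succ_apply, pow_succ_apply]
  rcases lt_or_ge ((p.2 : ℕ) + 1) 3 with hi | hi
  · exact hw (p.1, ⟨(p.2 : ℕ) + 1, hi⟩)
  · rw [pow_zero_of_le hX3 hi, pow_zero_of_le hX3' hi, map_zero]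

/-- A generator over a quadratic algebra `F[s]` with the lower invariants zero. -/
theorem exists_gen_ext (h3 : (3 : F) = 0) (hA : B.IsAlt) (hX : ∀ a b, B (X a) b = -B a (X b)) (hX3 : X ^ 3 = 0)
    {s : Module.End F V} {c : F} (hs : ∀ a b, B (s a) (s b) = B a b) (hss : ∀ v, s (s v) = c • s v - v)
    (hsX : ∀ v, s (X v) = X (s v)) {x : V} (hx : B x (s (X (X x))) ≠ 0) :
    ∃ y, B y (X y) = 0 ∧ B y (s (X y)) = 0 ∧ B y (s y) = 0 ∧ B y (s (X (X y))) = B x (s (X (X x))) := by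
  have h2 := two_ne_zero_of_three h3
  have e3 : ∀ v, X (X (X v)) = 0 := fun v => by
    rw [← Module.End.mul_apply, ← Module.End.mul_apply, show X * X * X = X ^ 3 by noncomm_ring, hX3]; rfl
  have hev : ∀ v, B v (X (X v)) = 0 := fun v => by
    have := apply_pow_even h2 hA hX even_two v
    rwa [pow_two, Module.End.mul_apply] at this
  have hadj : ∀ a b, B (s a) b = B a (c • b - s b) := fun a b => by
    conv_rhs => rw [← hs, map_sub, map_smul, hss, sub_sub_cancel]
  set t := B x (s (X (X x))) with ht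
  set β := B x (X x) / t with hβ
  set y₁ := x + β • s (X x) with hy₁
  have a1 : B (s (X x)) (X x) = t := by
    rw [Symp.swap hA (X x) (s (X x)), hX, neg_neg, ht, hsX (X x)]
  have k1 : B y₁ (X y₁) = 0 := by
    simp only [hy₁, map_add, map_smul, LinearMap.add_apply, LinearMap.smul_apply, smul_eq_mul, ← hsX, hs, a1,
      hX, e3, map_zero, ← ht]
    have hβt : β * t = B x (X x) := div_mul_cancel₀ _ hx
    linear_combination (B x (X x)) * h3 + 2 * hβt
  have k2 : B y₁ (s (X (X y₁))) = t := by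
    simp only [hy₁, map_add, map_smul, LinearMap.add_apply, LinearMap.smul_apply, smul_eq_mul, ← hsX, hs,
      hX (x), e3, map_zero, ← ht]
    ring
  set γ := B y₁ (s y₁) / t with hγ
  set y := y₁ + γ • X (X y₁) with hy
  have m1 : B y (X y) = 0 := by
    simp only [hy, map_add, map_smul, LinearMap.add_apply, LinearMap.smul_apply, smul_eq_mul, k1, e3, map_zero,
      hX, neg_zero]
    ring
  refine ⟨y, m1, ?_, ?_, ?_⟩
  · have e : B y (s (X y)) = c * B y (X y) - B y (s (X y)) := by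
      conv_lhs => rw [Symp.swap hA (s (X y)) y, hadj, hX, map_sub X, map_smul X, ← hsX, map_sub, map_smul, smul_eq_mul, neg_neg]
    rw [m1, mul_zero, zero_sub, eq_neg_iff_add_eq_zero, ← two_mul] at e
    exact (mul_eq_zero.1 e).resolve_left h2
  · simp only [hy, map_add, map_smul, LinearMap.add_apply, LinearMap.smul_apply, smul_eq_mul, k2, hX, ← hsX, e3,
      map_zero, neg_zero]
    have hγt : γ * t = B y₁ (s y₁) := div_mul_cancel₀ _ hx
    linear_combination (B y₁ (s y₁)) * h3 + 2 * hγt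
  · simp only [hy, map_add, map_smul, LinearMap.add_apply, LinearMap.smul_apply, smul_eq_mul, k2, e3, hX,
      ← hsX, map_zero, neg_zero]
    ring

theorem gram_ext (h2 : (2 : F) ≠ 0) (hA : B.IsAlt) (hX : ∀ a b, B (X a) b = -B a (X b)) (hX3 : X ^ 3 = 0)
    {s : Module.End F V} (hs : ∀ a b, B (s a) (s b) = B a b) (hsX : ∀ v, s (X v) = X (s v)) {y : V}
    (h1 : B y (X y) = 0) (h1' : B y (s (X y)) = 0) (h0 : B y (s y) = 0) {t : F} (ht : B y (s (X (X y))) = t)
    (i i' : Fin 2) (k : ℕ) :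
    B (![y, s y] i) ((X ^ k) (![y, s y] i')) = if k = 2 then (!![0, t; -t, 0] : Matrix _ _ F) i i' else 0 := by
  rcases lt_or_ge k 3 with hlt | hge
  · have hy2 : B y (X (X y)) = 0 := by
      have := apply_pow_even h2 hA hX even_two y
      rwa [pow_two, Module.End.mul_apply] at this
    have g0 : B (s y) y = 0 := by rw [Symp.swap hA y (s y), h0, neg_zero]
    have g1 : B (s y) (X y) = 0 := by rw [Symp.swap hA (X y) (s y), hX, neg_neg, ← hsX, h1']
    have g2 : B (s y) (X (X y)) = -t := by rw [Symp.swap hA (X (X y)) (s y), hX, hX, neg_neg, ← hsX, ← hsX, ht]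
    interval_cases k <;> fin_cases i <;> fin_cases i' <;>
      simp [pow_two, ← hsX, h1, h1', h0, ht, g0, g1, g2, hA y, hA (s y), hs, hy2]
  · rw [if_neg (by omega), pow_zero_of_le hX3 hge, map_zero]

/-- Pairs `(s, X)` with the same invariant are conjugate by an isometry. -/
theorem conj_ext (h3 : (3 : F) = 0) (hA : B.IsAlt) (hA' : B'.IsAlt) (hd : Module.finrank F V = 6)
    (hd' : Module.finrank F V' = 6) (hX : ∀ a b, B (X a) b = -B a (X b))
    (hX' : ∀ a b, B' (X' a) b = -B' a (X' b)) (hX3 : X ^ 3 = 0) (hX3' : X' ^ 3 = 0)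
    {s : Module.End F V} {s' : Module.End F V'} {c : F} (hs : ∀ a b, B (s a) (s b) = B a b)
    (hs' : ∀ a b, B' (s' a) (s' b) = B' a b) (hss : ∀ v, s (s v) = c • s v - v)
    (hss' : ∀ v, s' (s' v) = c • s' v - v) (hsX : ∀ v, s (X v) = X (s v)) (hsX' : ∀ v, s' (X' v) = X' (s' v))
    {x : V} {x' : V'} (hx : B x (s (X (X x))) ≠ 0) (hxx : B' x' (s' (X' (X' x'))) = B x (s (X (X x)))) :
    ∃ Φ : V ≃ₗ[F] V', (∀ u v, B' (Φ u) (Φ v) = B u v) ∧ (∀ v, Φ (X v) = X' (Φ v)) ∧
      ∀ v, Φ (s v) = s' (Φ v) := by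
  have h2 := two_ne_zero_of_three h3
  obtain ⟨y, a1, a2, a3, a4⟩ := exists_gen_ext h3 hA hX hX3 hs hss hsX hx
  obtain ⟨y', b1, b2, b3, b4⟩ := exists_gen_ext h3 hA' hX' hX3' hs' hss' hsX' (x := x') (by rw [hxx]; exact hx)
  rw [hxx] at b4
  have val := gram_ext h2 hA hX hX3 hs hsX a1 a2 a3 a4
  have val' := gram_ext h2 hA' hX' hX3' hs' hsX' b1 b2 b3 b4
  obtain ⟨Φ, hΦ, hw, hT⟩ := exists_isometry_of_gram (σ := RingHom.id F) B B'
    (fun p : Fin 2 × Fin 3 => (X ^ (p.2 : ℕ)) (![y, s y] p.1))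
    (fun p : Fin 2 × Fin 3 => (X' ^ (p.2 : ℕ)) (![y', s' y'] p.1)) (fun p => (p.1.rev, p.2.rev))
    (fun p => by
      rw [skew_pow' hX, val, if_pos (by rw [Fin.val_rev]; omega)]
      refine mul_ne_zero (pow_ne_zero _ (neg_ne_zero.2 one_ne_zero)) ?_
      rcases p with ⟨j, i⟩
      fin_cases j <;> simp [Fin.rev, hx])
    (fun p q hne => by
      rw [skew_pow' hX, val]
      split_ifs with h
      · have hj : q.1 ≠ p.1 := fun hj => hne (Prod.ext hj (Fin.ext (by
          rw [Fin.val_rev] at h; omega)))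
        rcases p with ⟨j, i⟩
        rcases q with ⟨j', i'⟩
        fin_cases j <;> fin_cases j' <;> simp_all [Fin.rev]
      · rw [mul_zero])
    (fun p q => by rw [skew_pow' hX, skew_pow' hX', val, val']) (by simp [hd]) (by simp [hd'])
  refine ⟨Φ, hΦ, hT X X' fun p => ?_, hT s s' fun p => ?_⟩
  · rw [pow_succ_apply, pow_succ_apply]
    rcases lt_or_ge ((p.2 : ℕ) + 1) 3 with hi | hi
    · exact hw (p.1, ⟨(p.2 : ℕ) + 1, hi⟩)
    · rw [pow_zero_of_le hX3 hi, pow_zero_of_le hX3' hi, map_zero]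
  · have hc : ∀ (k : ℕ) v, s ((X ^ k) v) = (X ^ k) (s v) := fun k => by
      induction k with
      | zero => intro v; rfl
      | succ k ih => intro v; rw [← pow_succ_apply, hsX, ih, pow_succ_apply]
    have hc' : ∀ (k : ℕ) v, s' ((X' ^ k) v) = (X' ^ k) (s' v) := fun k => by
      induction k with
      | zero => intro v; rfl
      | succ k ih => intro v; rw [← pow_succ_apply, hsX', ih, pow_succ_apply]
    have w0 : Φ ((X ^ (p.2 : ℕ)) y) = (X' ^ (p.2 : ℕ)) y' := hw (0, p.2)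
    have w1 : Φ ((X ^ (p.2 : ℕ)) (s y)) = (X' ^ (p.2 : ℕ)) (s' y') := hw (1, p.2)
    rcases p with ⟨j, i⟩
    rw [hc, hc']
    fin_cases j
    · exact w1
    · show Φ ((X ^ (i : ℕ)) (s (s y))) = (X' ^ (i : ℕ)) (s' (s' y'))
      rw [hss, hss', map_sub, map_smul, map_sub, map_smul, map_sub, map_smul, w0, w1]

end CfsgLib.Known.CoverTwo
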