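import Cfsg.Agent.Lib.Known.CoverTwo.SympSixCases
import Cfsg.Agent.Lib.Classical.Symplectic.MatrixStructure

/-!
# `PSp₆`, `q` a power of three: stabilisers of a plane and of a cubic field structure
-/

set_option autoImplicit false
set_option linter.unusedSectionVars false
set_option linter.unusedSimpArgs false
set_option linter.style.haveILetI false

namespace CfsgLib.Known.CoverTwo

open LinearMap (BilinForm)
open CfsgLib.Classical Polynomial

variable {F : Type*} [Field F] {V : Type*} [AddCommGroup V] [Module F V] [FiniteDimensional F V]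
  {B : BilinForm F V}

theorem rank_step (X : Module.End F V) (h5 : X ^ 5 = 0) {i : ℕ} (hi : i ≤ 4) :
    Module.finrank F (LinearMap.range (X ^ (i + 1))) + Module.finrank F (LinearMap.range (X ^ 4)) ≤
      Module.finrank F (LinearMap.range (X ^ i)) := by
  have h := LinearMap.finrank_range_add_finrank_ker (X.domRestrict (LinearMap.range (X ^ i)))
  have e1 : LinearMap.range (X.domRestrict (LinearMap.range (X ^ i))) = LinearMap.range (X ^ (i + 1)) := by
    rw [LinearMap.range_domRestrict, pow_succ', Module.End.mul_eq_comp, LinearMap.range_comp]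
  rw [e1] at h
  have hle : LinearMap.range (X ^ 4) ≤ LinearMap.range (X ^ i) := by
    rintro _ ⟨z, rfl⟩
    exact ⟨(X ^ (4 - i)) z, by rw [← Module.End.mul_apply, ← pow_add, show i + (4 - i) = 4 by omega]⟩
  have e2 : Module.finrank F (LinearMap.range (X ^ 4)) ≤
      Module.finrank F (LinearMap.ker (X.domRestrict (LinearMap.range (X ^ i)))) := by
    refine LinearMap.finrank_le_finrank_of_injective (f := LinearMap.codRestrict _ (Submodule.inclusion hle)
      (fun c => ?_)) fun a b hab => Submodule.inclusion_injective hle (congrArg Subtype.val hab)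
    obtain ⟨z, hz⟩ := c.2
    rw [LinearMap.mem_ker]
    show X (c : V) = 0
    rw [← hz, pow_succ_apply, h5]; rfl
  omega

/-- The span of a Krylov sequence. -/
theorem krylov_invariant {X : Module.End F V} {k : ℕ} (hX : X ^ k = 0) (x : V) :
    ∀ w ∈ Submodule.span F (Set.range fun i : Fin k => (X ^ (i : ℕ)) x),
      X w ∈ Submodule.span F (Set.range fun i : Fin k => (X ^ (i : ℕ)) x) := by
  intro w hw
  induction hw using Submodule.span_induction with
  | mem y hy =>
    obtain ⟨i, rfl⟩ := hy
    rw [pow_succ_apply]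
    rcases lt_or_ge ((i : ℕ) + 1) k with h | h
    · exact Submodule.subset_span ⟨⟨_, h⟩, rfl⟩
    · rw [pow_zero_of_le hX h]; exact Submodule.zero_mem _
  | zero => simp
  | add y z _ _ h1 h2 => rw [map_add]; exact Submodule.add_mem _ h1 h2
  | smul a y _ h1 => rw [map_smul]; exact Submodule.smul_mem _ _ h1

theorem cay_invariant {X : Module.End F V} {W : Submodule F V} (h : ∀ w ∈ W, X w ∈ W) :
    ∀ w ∈ W, cay X w ∈ W := by
  have hp : ∀ (k : ℕ), ∀ w ∈ W, (X ^ k) w ∈ W := fun k => by
    induction k with
    | zero => intro w hw; exact hw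
    | succ k ih => intro w hw; rw [pow_succ', Module.End.mul_apply]; exact h _ (ih w hw)
  intro w hw
  simp only [cay, LinearMap.neg_apply, LinearMap.add_apply]
  exact W.neg_mem (W.add_mem (W.add_mem (W.add_mem (W.add_mem (h w hw) (hp 2 w hw)) (hp 3 w hw)) (hp 4 w hw))
    (hp 5 w hw))

variable [Fintype F] (L : Type*) [Field L] [Finite L] [Algebra F L]

section
variable (h3 : (3 : F) = 0) (hL : Module.finrank F L = 3) (hA : B.IsAlt) (hB : B.Nondegenerate)
  (hV : Module.finrank F V = 6)
include h3 hL hA hB hV

/-- A scalar times a unipotent. -/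
theorem scalar_unipotent {g N : Module.End F V} {e : F} (hN : N ^ 6 = 0)
    (hiso : ∀ a b, B (a + N a) (b + N b) = B a b) (hg : ∀ v, g v = e • (v + N v))
    (hgi : ∀ a b, B (g a) (g b) = B a b) : Plane B g ∨ FieldType L B g := by
  classical
  have h2 := two_ne_zero_of_three h3
  have hX := cay_skew (σ := RingHom.id F) B h3 hN hiso
  have hX6 := cay_pow_six hN
  by_cases h5 : ∃ x, B x ((cay N ^ 5) x) ≠ 0
  · exact Or.inr (field_of_unipotent L h3 hL hA hB hV hN hiso hg (Or.inl h5))
  push Not at h5
  have hsym : ∀ a b, B a ((cay N ^ 5) b) = B b ((cay N ^ 5) a) := fun a b => by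
    rw [skew_pow_swap hA hX 5 a b]; ring
  have hX5 : cay N ^ 5 = 0 := LinearMap.ext fun v => hB.2 _ fun a => by
    have h := h5 (a + v)
    simp only [map_add, LinearMap.add_apply, h5, zero_add, add_zero, hsym v a, ← two_mul] at h
    exact (mul_eq_zero.1 h).resolve_left h2
  have hX4 : cay N ^ 4 = 0 := by
    by_contra hne
    have hev := ClassTheory.even_finrank_range_of_alt hB (cay N ^ 4) fun u =>
      apply_pow_even h2 hA hX (by decide) u
    have hpos : Module.finrank F (LinearMap.range (cay N ^ 4)) ≠ 0 := fun h =>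
      hne (LinearMap.range_eq_bot.1 (Submodule.finrank_eq_zero.1 h))
    have r0 := rank_step (cay N) hX5 (i := 0) (by norm_num)
    have r1 := rank_step (cay N) hX5 (i := 1) (by norm_num)
    have r2 := rank_step (cay N) hX5 (i := 2) (by norm_num)
    have r3 := rank_step (cay N) hX5 (i := 3) (by norm_num)
    have r4 := (LinearMap.range (cay N ^ 0)).finrank_le
    rw [hV] at r4
    simp only [Nat.reduceAdd] at r0 r1 r2 r3
    obtain ⟨k, hk⟩ := hev
    omega
  have hinv : ∀ W : Submodule F V, (∀ w ∈ W, cay N w ∈ W) → ∀ w ∈ W, g w ∈ W := fun W hW w hw => by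
    have h := cay_invariant hW w hw
    rw [cay_cay hN] at h
    rw [hg]; exact W.smul_mem _ (W.add_mem hw h)
  have krylov : ∀ k : ℕ, k < 6 → 0 < k → cay N ^ k = 0 → ∀ x : V, x ≠ 0 →
      (∀ c : Fin k → F, (∀ j : Fin k, ∑ i, c i * B ((cay N ^ (j : ℕ)) x) ((cay N ^ (i : ℕ)) x) = 0) → c = 0) →
      Plane B g := by
    intro k hk hk0 hXk x hx0 hgram
    refine plane_of_invariant hA hB hV hgi (W := Submodule.span F (Set.range fun i : Fin k => (cay N ^ (i : ℕ)) x))
      (hinv _ (krylov_invariant hXk x)) (fun v hv horth => ?_) ?_ ?_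
    · obtain ⟨c, rfl⟩ := (Submodule.mem_span_range_iff_exists_fun F).1 hv
      rw [hgram c fun j => ?_]
      · simp
      · have h := horth _ (Submodule.subset_span ⟨j, rfl⟩)
        rw [Symp.swap hA ((cay N ^ (j : ℕ)) x), neg_eq_zero] at h
        simpa [map_sum] using h
    · intro h
      have h0 : x ∈ Submodule.span F (Set.range fun i : Fin k => (cay N ^ (i : ℕ)) x) :=
        Submodule.subset_span ⟨⟨0, hk0⟩, rfl⟩
      rw [h, Submodule.mem_bot] at h0
      exact hx0 h0
    · intro h
      have hle := finrank_range_le_card (R := F) fun i : Fin k => (cay N ^ (i : ℕ)) x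
      unfold Set.finrank at hle
      rw [h, finrank_top, hV, Fintype.card_fin] at hle
      omega
  by_cases hX3 : cay N ^ 3 = 0
  swap
  · obtain ⟨x, hx⟩ : ∃ x, B x ((cay N ^ 3) x) ≠ 0 := by
      by_contra hc
      push Not at hc
      refine hX3 (LinearMap.ext fun v => hB.2 _ fun a => ?_)
      have h := hc (a + v)
      simp only [map_add, LinearMap.add_apply, hc, zero_add, add_zero] at h
      rw [skew_pow_swap hA hX 3 v a, show -((-1 : F) ^ 3 * B a ((cay N ^ 3) v)) = B a ((cay N ^ 3) v) by ring,
        ← two_mul] at h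
      exact (mul_eq_zero.1 h).resolve_left h2
    refine Or.inl (krylov 4 (by norm_num) (by norm_num) hX4 x (fun h0 => hx (by simp [h0])) fun c hc => ?_)
    have h6 : B x ((cay N ^ 6) x) = 0 := by rw [hX6]; simp
    have z5 : B x ((cay N ^ 5) x) = 0 := h5 x
    have z4 : B x ((cay N ^ 4) x) = 0 := by rw [hX4]; simp
    have z2 := apply_pow_even h2 hA hX (k := 2) (by decide) x
    have c3 := hc 3
    have c2 := hc 2
    have c1 := hc 1
    have c0 := hc 0
    simp only [Fin.sum_univ_four, skew_pow' hX] at c3
    norm_num [h6, z5, z4, hA x, z2] at c3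
    simp only [Fin.sum_univ_four, skew_pow' hX] at c2
    norm_num [h6, z5, z4, hA x, z2] at c2
    simp only [Fin.sum_univ_four, skew_pow' hX] at c1
    norm_num [h6, z5, z4, hA x, z2] at c1
    simp only [Fin.sum_univ_four, skew_pow' hX] at c0
    norm_num [h6, z5, z4, hA x, z2] at c0
    have e0 : c 0 = 0 := c3.resolve_right hx
    have e1 : c 1 = 0 := c2.resolve_right hx
    rw [e0] at c1
    rw [e1] at c0
    have e2 : c 2 = 0 := by simpa [hx] using c1
    have e3 : c 3 = 0 := by simpa [hx] using c0
    funext i; fin_cases i <;> assumption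
  by_cases h2X : ∃ x y, B x ((cay N ^ 2) y) ≠ 0
  · exact Or.inr (field_of_unipotent L h3 hL hA hB hV hN hiso hg (Or.inr ⟨hX3, h2X⟩))
  push Not at h2X
  have hX2 : cay N ^ 2 = 0 := LinearMap.ext fun v => hB.2 _ fun a => h2X a v
  by_cases hX1 : ∃ x, B x (cay N x) ≠ 0
  · obtain ⟨x, hx⟩ := hX1
    refine Or.inl (krylov 2 (by norm_num) (by norm_num) hX2 x (fun h0 => hx (by simp [h0])) fun c hc => ?_)
    have c1 := hc 1
    have c0 := hc 0
    simp only [Fin.sum_univ_two, skew_pow' hX] at c1 c0
    norm_num [hX2, hA x] at c1 c0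
    have e0 : c 0 = 0 := c1.resolve_right hx
    have e1 : c 1 = 0 := c0.resolve_right hx
    funext i; fin_cases i <;> assumption
  push Not at hX1
  have hX0 : cay N = 0 := LinearMap.ext fun v => hB.2 _ fun a => by
    have h := hX1 (a + v)
    simp only [map_add, LinearMap.add_apply, hX1, zero_add, add_zero] at h
    rw [show B v (cay N a) = B a (cay N v) by rw [← neg_neg (B v _), ← hX, ← Symp.swap hA], ← two_mul] at h
    exact (mul_eq_zero.1 h).resolve_left h2
  have hN0 : N = 0 := by rw [← cay_cay hN, hX0]; simp [cay]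
  haveI : Nontrivial V := Module.nontrivial_of_finrank_pos (R := F) (by omega)
  obtain ⟨p, hp⟩ := exists_ne (0 : V)
  obtain ⟨q, -, hq⟩ := Symp.exists_partner (Symp.nondeg_top hB) (Submodule.mem_top : p ∈ ⊤) hp
  refine Or.inl ⟨p, q, hq, ?_, ?_⟩ <;> rw [hg, hN0, LinearMap.zero_apply, add_zero] <;>
    exact Submodule.smul_mem _ _ (Submodule.subset_span (by simp))

/-- `g + g⁻¹ = c + n`. -/
theorem linear_case {g gi : Module.End F V} (h12 : g * gi = 1) (h21 : gi * g = 1)
    (hgi : ∀ a b, B (g a) (g b) = B a b) {c : F} (hn6 : (g + gi - c • 1) ^ 6 = 0) :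
    Plane B g ∨ FieldType L B g := by
  have h2 := two_ne_zero_of_three h3
  have h3' : (3 : Module.End F V) = 0 := by
    rw [← map_ofNat (algebraMap F (Module.End F V)) 3, h3, map_zero]
  have hadj : ∀ a b, B (g a) b = B a (gi b) := fun a b => by
    conv_lhs => rw [← Module.End.one_apply (R := F) b, ← h12, Module.End.mul_apply, hgi]
  have hadj' : ∀ a b, B (gi a) b = B a (g b) := fun a b => by
    rw [Symp.swap hA b (gi a), ← hadj, ← Symp.swap hA (g b) a]
  set n := g + gi - c • 1 with hn
  have hgn : Commute g n := by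
    show g * (g + gi - c • 1) = (g + gi - c • 1) * g
    rw [mul_sub, mul_add, h12, sub_mul, add_mul, h21, mul_smul_comm, smul_mul_assoc, mul_one, one_mul]
  have hnsa : ∀ a b, B (n a) b = B a (n b) := fun a b => by
    simp only [hn, LinearMap.sub_apply, LinearMap.add_apply, LinearMap.smul_apply, Module.End.one_apply, map_sub,
      map_add, map_smul, hadj, hadj']
    abel
  have hn3 : n ^ 3 = 0 := by
    by_contra hne
    obtain ⟨y, h3y, h4y⟩ : ∃ y, (n ^ 3) y ≠ 0 ∧ (n ^ 4) y = 0 := by
      obtain ⟨x, hx⟩ : ∃ x, (n ^ 3) x ≠ 0 := by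
        by_contra hc; push Not at hc; exact hne (LinearMap.ext hc)
      by_cases h4 : (n ^ 4) x = 0
      · exact ⟨x, hx, h4⟩
      by_cases h5 : (n ^ 5) x = 0
      · exact ⟨n x, by rwa [← Module.End.mul_apply, ← pow_succ],
          by rwa [← Module.End.mul_apply, ← pow_succ]⟩
      · exact ⟨(n ^ 2) x, by rwa [← Module.End.mul_apply, ← pow_add],
          by rw [← Module.End.mul_apply, ← pow_add, show 4 + 2 = 6 from rfl, hn6, LinearMap.zero_apply]⟩
    let f : (Fin 4 → F) →ₗ[F] V := Fintype.linearCombination F fun i : Fin 4 => (n ^ (i : ℕ)) y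
    have hf : ∀ v, f v = v 0 • y + v 1 • n y + v 2 • n (n y) + v 3 • n (n (n y)) := fun v => by
      simp [f, Fintype.linearCombination_apply, Fin.sum_univ_four, pow_succ', pow_zero, Module.End.mul_apply]
    have e3 : n (n (n y)) ≠ 0 := by simpa [pow_succ', pow_zero, Module.End.mul_apply] using h3y
    have e4 : n (n (n (n y))) = 0 := by simpa [pow_succ', pow_zero, Module.End.mul_apply] using h4y
    have hfi : Function.Injective f := by
      rw [injective_iff_map_eq_zero]
      intro v hv
      rw [hf] at hv
      have r3 := congrArg (fun z => n (n (n z))) hv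
      simp [map_add, e4] at r3
      have v0 : v 0 = 0 := r3.resolve_right e3
      rw [v0, zero_smul, zero_add] at hv
      have r2 := congrArg (fun z => n (n z)) hv
      simp [map_add, e4] at r2
      have v1 : v 1 = 0 := r2.resolve_right e3
      rw [v1, zero_smul, zero_add] at hv
      have r1 := congrArg (fun z => n z) hv
      simp [map_add, e4] at r1
      have v2 : v 2 = 0 := r1.resolve_right e3
      rw [v2, zero_smul, zero_add] at hv
      have v3 : v 3 = 0 := (smul_eq_zero.1 hv).resolve_right e3
      funext i; fin_cases i <;> assumption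
    have hiso : ∀ x ∈ LinearMap.range f, ∀ z ∈ LinearMap.range f, B x z = 0 := by
      rintro _ ⟨v, rfl⟩ _ ⟨w, rfl⟩
      have hz : ∀ (k : ℕ), B y ((n ^ k) y) = 0 := fun k => by
        refine selfAdj_zero h2 hA (fun a b => ?_) y
        have := selfAdj_aeval hnsa (X ^ k) a b
        simpa using this
      have hij : ∀ i j : ℕ, B ((n ^ i) y) ((n ^ j) y) = 0 := fun i j => by
        have := selfAdj_aeval hnsa (X ^ i) y ((n ^ j) y)
        simp only [map_pow, aeval_X] at this
        rw [this, ← Module.End.mul_apply, ← pow_add, hz]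
      simp [f, Fintype.linearCombination_apply, map_sum, hij]
    have h := finrank_isotropic_le hB hV hiso
    rw [LinearMap.finrank_range_of_inj hfi, Module.finrank_fin_fun] at h
    omega
  by_cases hD : c * c - 4 = 0
  · obtain ⟨e, rfl, he⟩ : ∃ e : F, c = 2 * e ∧ e * e = 1 :=
      ⟨-c, by linear_combination c * h3, by linear_combination hD + h3⟩
    let N : Module.End F V := e • g - 1
    have hsq : N ^ 2 = g * n := by
      simp only [N, hn, pow_two, sub_mul, mul_sub, mul_add, mul_smul_comm, smul_mul_assoc, h12, one_mul, mul_one,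
        smul_smul, he, one_smul]
      match_scalars <;> grind
    have hN : N ^ 6 = 0 := by
      rw [show 6 = 2 * 3 from rfl, pow_mul, hsq, hgn.mul_pow, hn3, mul_zero]
    have hNv : ∀ v, v + N v = e • g v := fun v => by simp [N]
    refine scalar_unipotent L h3 hL hA hB hV hN (fun a b => ?_) (fun v => ?_) hgi (e := e)
    · rw [hNv, hNv, map_smul B, LinearMap.smul_apply, map_smul, hgi, smul_smul, he, one_smul]
    · rw [hNv, smul_smul, he, one_smul]
  · set D := c * c - 4 with hDdef
    set d := g - gi with hd
    have hgg : Commute g gi := by rw [Commute, SemiconjBy, h12, h21]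
    have hdn : Commute d n := by
      refine Commute.sub_left hgn ?_
      rw [hn]
      exact ((hgg.symm.add_right (Commute.refl _))).sub_right ((Commute.one_right gi).smul_right c)
    have hdd : d * d = D • 1 + (2 * c) • n + n ^ 2 := by
      have e1 : d * d = g * g + gi * gi - (2 : F) • 1 := by
        rw [hd, sub_mul, mul_sub, mul_sub, h12, h21]; module
      have e2 : n ^ 2 = g * g + gi * gi + (2 : F) • 1 - (2 * c) • g - (2 * c) • gi + (c * c) • 1 := by
        simp only [hn, pow_two, sub_mul, mul_sub, add_mul, mul_add, h12, h21, mul_smul_comm, smul_mul_assoc, one_mul,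
          mul_one, smul_sub, smul_smul]
        module
      rw [e1, e2, hn, hDdef]
      module
    set m := D⁻¹ • ((2 * c) • n + n ^ 2) with hm
    obtain ⟨k, hk, hmk⟩ : ∃ k : Module.End F V, Commute n k ∧ m = n * k :=
      ⟨D⁻¹ • ((2 * c) • 1 + n), ((((Commute.one_right n).smul_right _).add_right (Commute.refl n))).smul_right _, by
        rw [hm, mul_smul_comm, mul_add, mul_smul_comm, mul_one, pow_two]⟩
    have hm3 : m ^ 3 = 0 := by rw [hmk, hk.mul_pow, hn3, zero_mul]
    have hdm : Commute d m := by
      rw [hm]; exact ((hdn.smul_right _).add_right (hdn.pow_right 2)).smul_right _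
    have hdd' : d * d = D • (1 + m) := by
      rw [hdd, hm, smul_add, smul_smul, mul_inv_cancel₀ hD, one_smul]; module
    set E := d * (1 + m) with hE
    have hcom : Commute d (1 + m) := (Commute.one_right d).add_right hdm
    have hEE : E * E = D • 1 := by
      calc E * E = d * d * ((1 + m) * (1 + m)) := hcom.symm.mul_mul_mul_comm _ _
        _ = D • (1 + 3 * m + 3 * m ^ 2 + m ^ 3) := by rw [hdd', smul_mul_assoc]; congr 1; noncomm_ring
        _ = D • 1 := by simp [h3', hm3]
    by_cases hn2 : n ^ 2 = 0
    · have hdinj : ∀ v, n v = 0 → d v = 0 → v = 0 := fun v hnv hdv => by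
        have h := congrArg (fun z : Module.End F V => z v) hdd
        simp [hdv, hnv, pow_two] at h
        exact (smul_eq_zero.1 h.symm).resolve_left hD
      by_cases hx : ∃ x, n x = 0 ∧ B x (g x) ≠ 0
      · obtain ⟨x, hnx, hx⟩ := hx
        refine Or.inl ⟨x, (B x (g x))⁻¹ • g x, by simp [hx], ?_, ?_⟩
        · exact Submodule.mem_span_pair.2 ⟨0, B x (g x), by simp [smul_smul, hx]⟩
        · have e : g (g x) = c • g x - x := by
            have h := congrArg g hnx
            simp only [hn, LinearMap.sub_apply, LinearMap.add_apply, LinearMap.smul_apply, Module.End.one_apply,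
              map_sub, map_add, map_smul, map_zero] at h
            rw [← Module.End.mul_apply g gi, h12, Module.End.one_apply] at h
            linear_combination (norm := module) h
          rw [map_smul, e, smul_sub, smul_comm]
          exact Submodule.sub_mem _ (Submodule.smul_mem _ _ (Submodule.subset_span (by simp)))
            (Submodule.smul_mem _ _ (Submodule.subset_span (by simp)))
      push Not at hx
      exfalso
      let K := LinearMap.ker n
      have hKd : ∀ x ∈ K, d x ∈ K := fun x hx' => by
        rw [LinearMap.mem_ker] at hx' ⊢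
        rw [← Module.End.mul_apply, ← hdn.eq, Module.End.mul_apply, hx', map_zero]
      have hperp : ∀ x ∈ K, ∀ y ∈ K, B x (d y) = 0 := fun x hx' y hy => by
        have h := hx (x + y) (by rw [map_add, LinearMap.mem_ker.1 hx', LinearMap.mem_ker.1 hy, add_zero])
        simp only [map_add, LinearMap.add_apply, hx x hx', hx y hy, zero_add, add_zero] at h
        rw [Symp.swap hA (g x) y, hadj] at h
        rw [hd, LinearMap.sub_apply, map_sub]
        linear_combination h
      have hKiso : ∀ x ∈ K, ∀ y ∈ K, B x y = 0 := fun x hx' y hy => by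
        have hs : Function.Surjective (d.restrict hKd) := LinearMap.injective_iff_surjective.1 fun a b hab =>
          Subtype.ext (sub_eq_zero.1 (hdinj _ (LinearMap.mem_ker.1 (K.sub_mem a.2 b.2)) (by
            rw [map_sub, sub_eq_zero]; exact congrArg Subtype.val hab)))
        obtain ⟨⟨z, hz⟩, e⟩ := hs ⟨y, hy⟩
        rw [← show d z = y from congrArg Subtype.val e]
        exact hperp x hx' z hz
      have h1 := finrank_isotropic_le hB hV hKiso
      have hrk : LinearMap.range n ≤ K := by
        rintro _ ⟨z, rfl⟩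
        show n (n z) = 0
        rw [← Module.End.mul_apply, ← pow_two, hn2, LinearMap.zero_apply]
      have h4 := Submodule.finrank_mono hrk
      have h5 := LinearMap.finrank_range_add_finrank_ker n
      obtain ⟨j, hj⟩ := ClassTheory.even_finrank_range_of_alt hB n fun u => selfAdj_zero h2 hA hnsa u
      rw [hV] at h5
      change _ + Module.finrank F K = 6 at h5
      omega
    · set s := -(c • (1 : Module.End F V) + E) with hs
      have hss : s * s = c • s - 1 := by
        simp only [hs, neg_mul_neg, add_mul, mul_add, smul_mul_assoc, mul_smul_comm, one_mul, mul_one, hEE,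
          smul_neg, smul_smul, smul_add]
        rw [hDdef]
        match_scalars <;> grind
      set si := c • 1 - s with hsi
      have hssi : s * si = 1 := by rw [hsi, mul_sub, mul_smul_comm, mul_one, hss, sub_sub_cancel]
      have hsis : si * s = 1 := by rw [hsi, sub_mul, smul_mul_assoc, one_mul, hss, sub_sub_cancel]
      have hgd : Commute g d := (Commute.refl g).sub_right hgg
      have hgm : Commute g m := by
        rw [hm]; exact ((hgn.smul_right _).add_right (hgn.pow_right 2)).smul_right _
      have hgE : Commute g E := hgd.mul_right ((Commute.one_right g).add_right hgm)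
      have hgs : Commute g s := (((Commute.one_right g).smul_right c).add_right hgE).neg_right
      have hgsi : Commute g si := ((Commute.one_right g).smul_right c).sub_right hgs
      have hsadj : ∀ a b, B (s a) b = B a (si b) := by
        have hmsa : ∀ a b, B (m a) b = B a (m b) := fun a b => by
          simp only [hm, pow_two, LinearMap.smul_apply, LinearMap.add_apply, Module.End.mul_apply, map_smul,
            map_add, hnsa]
        have hEs : ∀ a b, B (E a) b = -B a (E b) := fun a b => by
          have hdsk : ∀ a b, B (d a) b = -B a (d b) := fun a b => by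
            simp only [hd, LinearMap.sub_apply, map_sub, hadj, hadj']; ring
          have e : E b = (1 + m) (d b) := by rw [hE, hcom.eq, Module.End.mul_apply]
          rw [e, hE, Module.End.mul_apply, hdsk, LinearMap.add_apply, LinearMap.add_apply, Module.End.one_apply,
            Module.End.one_apply, map_add B, LinearMap.add_apply, hmsa, map_add]
        intro a b
        simp only [hsi, hs, LinearMap.sub_apply, LinearMap.neg_apply, LinearMap.add_apply, LinearMap.smul_apply,
          Module.End.one_apply, map_sub, map_neg, map_add, map_smul, hEs, smul_eq_mul]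
        linear_combination -(c * B a b) * h3
      have hsiso : ∀ a b, B (s a) (s b) = B a b := fun a b => by
        rw [hsadj, ← Module.End.mul_apply, hsis, Module.End.one_apply]
      have hgs_sub : g - s = m * d - n := by
        have e : (2 : F) • g = n + c • 1 + d := by rw [hn, hd]; module
        rw [hs, hE, mul_add, mul_one, hdm.eq]
        rw [hn, hd] at e ⊢
        clear e
        match_scalars <;> grind
      set N := si * (g - s) with hN
      have hnd : Commute n (m * d - n) := by
        have : Commute n m := by rw [hmk]; exact (Commute.refl n).mul_right hk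
        exact (this.mul_right hdn.symm).sub_right (Commute.refl n)
      have hN3 : N ^ 3 = 0 := by
        have hc1 : Commute si (g - s) := hgsi.symm.sub_right (by rw [Commute, SemiconjBy, hsis, hssi])
        have hpow : (m * d - n) ^ 3 = 0 := by
          rw [hmk, show n * k * d - n = n * (k * d - 1) by noncomm_ring,
            Commute.mul_pow, hn3, zero_mul]
          exact ((hk.mul_right hdn.symm)).sub_right (Commute.one_right n)
        rw [hN, hc1.mul_pow, hgs_sub, hpow, mul_zero]
      have hgN : ∀ v, g v = s (v + N v) := fun v => by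
        rw [map_add, ← Module.End.mul_apply s N, hN, ← mul_assoc, hssi, one_mul, LinearMap.sub_apply,
          add_sub_cancel]
      have hsN : Commute s N := by
        rw [hN]
        exact (show Commute s si by rw [Commute, SemiconjBy, hsis, hssi]).mul_right
          (hgs.symm.sub_right (Commute.refl s))
      have hN2 : N ^ 2 ≠ 0 := fun h0 => hn2 (by
        have hNN : N * N = 0 := by rw [← pow_two, h0]
        have hgmul : g = s * (1 + N) := LinearMap.ext fun v => by
          rw [hgN]; rfl
        have hgiv : gi = si * (1 - N) := by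
          have e1 : g * (si * (1 - N)) = 1 := by
            have hNsi : Commute (1 + N) si := (Commute.one_left si).add_left
              (((Commute.one_right N).smul_right c).sub_right hsN.symm)
            rw [hgmul, mul_assoc, ← mul_assoc (1 + N), hNsi.eq, mul_assoc si, ← mul_assoc, hssi, one_mul]
            rw [show (1 + N) * (1 - N) = 1 - N * N by noncomm_ring, hNN, sub_zero]
          calc gi = gi * (g * (si * (1 - N))) := by rw [e1, mul_one]
            _ = _ := by rw [← mul_assoc, h21, one_mul]
        have hnN : n = (s - si) * N := by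
          rw [hn, hgiv, hgmul, hsi]
          simp only [mul_add, mul_sub, sub_mul, mul_one, smul_mul_assoc, one_mul]
          module
        have hc2 : Commute N (s - si) := hsN.symm.sub_right (((Commute.one_right N).smul_right c).sub_right hsN.symm)
        rw [hnN, hc2.symm.mul_pow, h0, mul_zero])
      refine Or.inr (field_of_ext L h3 hL hA hB hV hD hN3 hN2 (fun a b => ?_) hsiso (fun v => ?_) hsN hgN)
      · rw [← hsiso, ← hgN, ← hgN, hgi]
      · have := congrArg (fun z : Module.End F V => z v) hss
        simpa using this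

theorem cover_six {g gi : Module.End F V} (h12 : g * gi = 1) (h21 : gi * g = 1)
    (hgi : ∀ a b, B (g a) (g b) = B a b) : Plane B g ∨ FieldType L B g := by
  classical
  have h2 := two_ne_zero_of_three h3
  haveI : Nontrivial V := Module.nontrivial_of_finrank_pos (R := F) (by omega)
  have hadj : ∀ a b, B (g a) b = B a (gi b) := fun a b => by
    conv_lhs => rw [← Module.End.one_apply (R := F) b, ← h12, Module.End.mul_apply, hgi]
  have hadj' : ∀ a b, B (gi a) b = B a (g b) := fun a b => by
    rw [Symp.swap hA b (gi a), ← hadj, ← Symp.swap hA (g b) a]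
  set t := g + gi with ht
  have htsa : ∀ a b, B (t a) b = B a (t b) := fun a b => by
    simp only [ht, LinearMap.add_apply, map_add, hadj, hadj']; abel
  have hgt : Commute g t := (Commute.refl g).add_right (by rw [Commute, SemiconjBy, h12, h21])
  have hgp : ∀ p : F[X], Commute g (aeval t p) := fun p => by
    induction p using Polynomial.induction_on' with
    | add p q hp hq => rw [map_add]; exact hp.add_right hq
    | monomial k r =>
      rw [aeval_monomial]
      exact (Algebra.commute_algebraMap_right r g).mul_right (hgt.pow_right k)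
  have hint : IsIntegral F t := Algebra.IsIntegral.isIntegral t
  obtain ⟨f, hm, hf, hdvd⟩ := exists_monic_irreducible_factor (minpoly F t) (minpoly.not_isUnit F t)
  have hker : LinearMap.ker (aeval t f) ≠ ⊥ := fun hb => by
    obtain ⟨q, hq⟩ := hdvd
    have h0 : aeval t q = 0 := LinearMap.ext fun v => (LinearMap.ker_eq_bot.1 hb) (by
      rw [LinearMap.zero_apply, map_zero, ← Module.End.mul_apply, ← map_mul, ← hq, minpoly.aeval,
        LinearMap.zero_apply])
    have hq0 : q ≠ 0 := fun h => minpoly.ne_zero hint (by rw [hq, h, mul_zero])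
    have hdeg := natDegree_le_of_dvd (minpoly.dvd F t h0) hq0
    rw [hq, natDegree_mul hf.ne_zero hq0] at hdeg
    have := hf.natDegree_pos
    omega
  set P := aeval t (f ^ 6) with hP
  by_cases hP0 : P = 0
  swap
  · refine Or.inl (plane_of_invariant hA hB hV hgi (W := LinearMap.ker P) (fun w hw => ?_) (fun x hx horth => ?_)
      (fun hb => hker (le_bot_iff.1 (hb ▸ fun x hx => ?_))) fun htop => hP0 (LinearMap.ker_eq_top.1 htop))
    · rw [LinearMap.mem_ker] at hw ⊢
      rw [← Module.End.mul_apply, ← (hgp _).eq, Module.End.mul_apply, hw, map_zero]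
    · have hdis : Disjoint (LinearMap.ker P) (LinearMap.range P) := by
        rw [Submodule.disjoint_def]
        rintro _ h1 ⟨z, rfl⟩
        have h2 : z ∈ LinearMap.ker (aeval t f ^ 12) := by
          rw [LinearMap.mem_ker, show 12 = 6 + 6 from rfl, pow_add, Module.End.mul_apply]
          simpa [hP] using h1
        rw [Module.End.ker_pow_eq_ker_pow_finrank_of_le (show Module.finrank F V ≤ 12 by omega), hV,
          LinearMap.mem_ker] at h2
        simpa [hP] using h2
      have hsup : LinearMap.ker P ⊔ LinearMap.range P = ⊤ := Submodule.eq_top_of_disjoint _ _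
        (by rw [add_comm, LinearMap.finrank_range_add_finrank_ker]) hdis
      refine hB.1 x fun y => ?_
      obtain ⟨w, hw, _, ⟨z, rfl⟩, rfl⟩ := Submodule.mem_sup.1 (hsup ▸ Submodule.mem_top : y ∈ _)
      rw [map_add, horth w hw, zero_add, ← selfAdj_aeval htsa, LinearMap.mem_ker.1 hx, map_zero,
        LinearMap.zero_apply]
    · rw [LinearMap.mem_ker] at hx ⊢
      rw [hP, map_pow, show 6 = 5 + 1 from rfl, pow_succ, Module.End.mul_apply, hx, map_zero]
  rcases eq_or_ne f.natDegree 1 with hd1 | hd1
  · refine linear_case L h3 hL hA hB hV h12 h21 hgi (c := -f.coeff 0) ?_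
    rw [← hP0, hP, map_pow]
    congr 1
    conv_rhs => rw [hm.eq_X_add_C hd1]
    simp [ht, Algebra.algebraMap_eq_smul_one]
  haveI := Fact.mk hf
  let T := t ^ (Fintype.card F ^ 2)
  have hTp : T = aeval t (X ^ (Fintype.card F ^ 2) : F[X]) := by simp [T]
  have hfT : aeval T f = 0 := by
    have h6 : 6 ≤ Fintype.card F ^ 2 := by
      have h1 : 3 ≤ Fintype.card F := by
        by_contra hlt
        have h2' : Fintype.card F = 2 := by have := Fintype.one_lt_card (α := F); omega
        have := FiniteField.cast_card_eq_zero F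
        rw [h2'] at this
        exact h2 this
      calc 6 ≤ 3 ^ 2 := by norm_num
        _ ≤ _ := Nat.pow_le_pow_left h1 2
    show aeval (t ^ (Fintype.card F ^ 2)) f = 0
    rw [← expand_aeval, pow_two, ← expand_expand, FiniteField.expand_card, map_pow, FiniteField.expand_card,
      map_pow, ← pow_mul]
    rw [hP, map_pow] at hP0
    exact pow_eq_zero_of_le (by rw [← pow_two]; exact h6) hP0
  haveI : Module.Finite F (AdjoinRoot f) := hm.finite_adjoinRoot
  haveI : Finite (AdjoinRoot f) := Module.finite_of_finite F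
  let ι : AdjoinRoot f →ₐ[F] Module.End F V := Ideal.Quotient.liftₐ _ (aeval T) fun p hp => by
    obtain ⟨q, rfl⟩ := Ideal.mem_span_singleton'.1 hp
    rw [map_mul, hfT, mul_zero]
  have hrep : ∀ z, ∃ p : F[X], ι z = aeval t p := fun z => by
    obtain ⟨p, rfl⟩ := AdjoinRoot.mk_surjective z
    exact ⟨p.comp (X ^ (Fintype.card F ^ 2)), by rw [aeval_comp, ← hTp]; rfl⟩
  have hsa : ∀ z a b, B (ι z a) b = B a (ι z b) := fun z => by
    obtain ⟨p, hp⟩ := hrep z
    rw [hp]; exact selfAdj_aeval htsa p
  have hmul : ∀ (x y : AdjoinRoot f) a, ι x (ι y a) = ι (x * y) a := fun x y a => by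
    rw [map_mul, Module.End.mul_apply]
  have hcancel : ∀ (z : AdjoinRoot f) (a : V), ι z a = 0 → a ≠ 0 → z = 0 := fun z a h ha => by
    by_contra h0
    refine ha ?_
    have := congrArg (ι z⁻¹) h
    rw [hmul, inv_mul_cancel₀ h0, map_one, map_zero, Module.End.one_apply] at this
    exact this
  have hdim : Module.finrank F (AdjoinRoot f) = f.natDegree := by
    rw [(AdjoinRoot.powerBasis hf.ne_zero).finrank, AdjoinRoot.powerBasis_dim]
  have hd6 : f.natDegree ∣ 6 := by
    letI : Module (AdjoinRoot f) V := Module.compHom V ι.toRingHom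
    haveI : IsScalarTower F (AdjoinRoot f) V := ⟨fun a e v => by
      show ι (a • e) v = a • ι e v
      rw [map_smul, LinearMap.smul_apply]⟩
    exact ⟨Module.finrank (AdjoinRoot f) V, by rw [← hdim, Module.finrank_mul_finrank, hV]⟩
  obtain ⟨v, hv⟩ := exists_ne (0 : V)
  let e : AdjoinRoot f →ₗ[F] V := (LinearMap.applyₗ v).comp ι.toLinearMap
  have he : ∀ z, e z = ι z v := fun z => rfl
  have hei : Function.Injective e := by
    rw [injective_iff_map_eq_zero]
    exact fun z hz => hcancel z v hz hv
  have hd : f.natDegree = 2 ∨ f.natDegree = 3 ∨ f.natDegree = 6 := by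
    have h1 := Nat.le_of_dvd (by norm_num) hd6
    have h0 := hf.natDegree_pos
    interval_cases hk : f.natDegree <;> omega
  rcases hd with hd | hd | hd
  · exfalso
    let S := LinearMap.range e
    have hSr : Module.finrank F S = 2 := by rw [LinearMap.finrank_range_of_inj hei, hdim, hd]
    have hperp := LinearMap.BilinForm.finrank_orthogonal hB S
    obtain ⟨w, hw, hwS⟩ := SetLike.not_le_iff_exists.1 (fun hle : B.orthogonal S ≤ S => by
      have := Submodule.finrank_mono hle; omega)
    let k : AdjoinRoot f × AdjoinRoot f →ₗ[F] V := e.coprod ((LinearMap.applyₗ w).comp ι.toLinearMap)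
    have hk : ∀ p, k p = ι p.1 v + ι p.2 w := fun p => rfl
    have hki : Function.Injective k := by
      rw [injective_iff_map_eq_zero]
      rintro ⟨a, b⟩ hab
      rw [hk] at hab
      rcases eq_or_ne b 0 with rfl | hb
      · rw [map_zero, LinearMap.zero_apply, add_zero] at hab
        rw [hcancel a v hab hv]; rfl
      · refine absurd ⟨-(b⁻¹ * a), ?_⟩ hwS
        have h := congrArg (ι b⁻¹) hab
        rw [map_add, hmul, hmul, inv_mul_cancel₀ hb, map_one, Module.End.one_apply, map_zero] at h
        rw [he, map_neg, LinearMap.neg_apply]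
        exact neg_eq_of_add_eq_zero_right h
    have hiso : ∀ x ∈ LinearMap.range k, ∀ y ∈ LinearMap.range k, B x y = 0 := by
      rintro _ ⟨p, rfl⟩ _ ⟨r, rfl⟩
      have hz : ∀ x a, B a (ι x a) = 0 := fun x a => selfAdj_zero h2 hA (hsa x) a
      have hvw : ∀ x, B v (ι x w) = 0 := fun x => by
        rw [← hsa]; exact Symp.mem_orthogonal.1 hw _ ⟨x, rfl⟩
      have hwv : ∀ x, B w (ι x v) = 0 := fun x => by
        rw [Symp.swap hA (ι x v) w, hsa, hvw, neg_zero]
      simp only [hk, map_add, LinearMap.add_apply, hsa, hmul, hz, hvw, hwv, add_zero]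
    have h := finrank_isotropic_le hB hV hiso
    rw [LinearMap.finrank_range_of_inj hki, Module.finrank_prod, hdim, hd] at h
    omega
  · obtain ⟨j⟩ := (FiniteField.nonempty_algHom_iff_finrank_dvd (F := F) (K := L) (L := AdjoinRoot f)).2
      (by rw [hL, hdim, hd])
    refine Or.inr (field_of_cubic hL h2 hA hB hV (ι.comp j) (fun z => hsa (j z)) g fun z => ?_)
    obtain ⟨p, hp⟩ := hrep (j z)
    show Commute g (ι (j z))
    rw [hp]; exact hgp p
  · exfalso
    refine hv (hB.1 v fun y => ?_)
    obtain ⟨z, rfl⟩ := (LinearMap.injective_iff_surjective_of_finrank_eq_finrank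
      (by rw [hdim, hd, hV])).1 hei y
    exact selfAdj_zero h2 hA (hsa z) v

end

variable (F) in
/-- `PSp₆` in characteristic three is covered. -/
theorem covered_PSp_six [CharP F 3] : Covered (Cfsg.PSp 3 F) := by
  classical
  haveI : Fact (Nat.Prime 3) := ⟨Nat.prime_three⟩
  have h3 : (3 : F) = 0 := by exact_mod_cast CharP.cast_eq_zero F 3
  refine covered_of_equiv (Symp.pspEquiv 3 F) ?_
  let L := FiniteField.Extension F 3 3
  have hL : Module.finrank F L = 3 := FiniteField.finrank_extension F 3 3
  haveI : FiniteDimensional F L := Module.Finite.of_finite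
  have hA := Symp.sympBil_isAlt 3 F
  have hB := Symp.sympBil_nondegenerate 3 F
  have hV : Module.finrank F (Fin 3 ⊕ Fin 3 → F) = 6 := Symp.finrank_sympSpace 3 F
  haveI := Symp.nontrivial_sympSpace (F := F) (m := 3) (by omega)
  set B := Symp.sympBil 3 F
  obtain ⟨Φ₀, hΦ₀⟩ := Symp.exists_isometry (trPair_isAlt (F := F) (L := L)) trPair_nondegenerate hA hB
    (by rw [finrank_pair hL, hV])
  let ρ : Symp.Sp B →* Module.End F (Fin 3 ⊕ Fin 3 → F) :=
    LinearEquiv.automorphismGroup.toLinearMapMonoidHom.comp (Symp.Sp B).subtype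
  have hρ : ∀ g v, ρ g v = (g : _ ≃ₗ[F] _) v := fun _ _ => rfl
  let p₀ : Fin 3 ⊕ Fin 3 → F := Pi.single (Sum.inr 0) 1
  let q₀ : Fin 3 ⊕ Fin 3 → F := Pi.single (Sum.inl 0) 1
  let v₀ : Fin 3 ⊕ Fin 3 → F := Pi.single (Sum.inl 1) 1 + Pi.single (Sum.inl 0) 1
  have hpq : B p₀ q₀ = 1 := by
    rw [Symp.sympBil_apply, Symp.sympForm_expand]; simp [p₀, q₀, Fin.sum_univ_three]
  have hpv : B p₀ v₀ = 1 := by
    rw [Symp.sympBil_apply, Symp.sympForm_expand]; simp [p₀, v₀, Fin.sum_univ_three]
  let P := Submodule.span F {p₀, q₀}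
  let H : Subgroup (Symp.Sp B) :=
    { carrier := {g | P.map (ρ g) = P}
      mul_mem' := fun {a b} ha hb => by
        show P.map (ρ (a * b)) = P
        rw [map_mul, Module.End.mul_eq_comp, Submodule.map_comp, hb, ha]
      one_mem' := by
        show P.map (ρ 1) = P
        rw [map_one, Module.End.one_eq_id, Submodule.map_id]
      inv_mem' := fun {a} ha => by
        show P.map (ρ a⁻¹) = P
        nth_rewrite 1 [← ha]
        rw [← Submodule.map_comp, ← Module.End.mul_eq_comp, ← map_mul, inv_mul_cancel, map_one,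
          Module.End.one_eq_id, Submodule.map_id] }
  have memH : ∀ g : Symp.Sp B, (∀ w ∈ P, ρ g w ∈ P) → g ∈ H := fun g h =>
    Submodule.eq_of_le_of_finrank_eq (Submodule.map_le_iff_le_comap.2 h)
      (LinearEquiv.finrank_eq (Submodule.equivMapOfInjective (ρ g)
        (LinearEquiv.injective (g : (Fin 3 ⊕ Fin 3 → F) ≃ₗ[F] (Fin 3 ⊕ Fin 3 → F))) P)).symm
  have hscal : ∀ z ∈ Subgroup.center (Symp.Sp B), ∃ a : F, ∀ v, ρ z v = a • v := fun z hz =>
    (Symp.mem_center_iff_smul hA hB).1 hz
  refine covered_quotient H (semiStab L Φ₀ ρ) (fun z hz => ?_) (fun z hz => ?_) ?_ ?_ fun g => ?_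
  · obtain ⟨a, ha⟩ := hscal z hz
    exact memH z fun w hw => by rw [ha]; exact P.smul_mem a hw
  · obtain ⟨a, ha⟩ := hscal z hz
    exact semiLin_smul Φ₀ ha
  · intro htop
    have h : P.map (ρ (Symp.tr hA v₀ 1)) = P := (htop ▸ Subgroup.mem_top _ : Symp.tr hA v₀ 1 ∈ H)
    have h1 : ρ (Symp.tr hA v₀ 1) p₀ ∈ P := h ▸ Submodule.mem_map_of_mem (Submodule.subset_span (by simp))
    rw [hρ, Symp.tr_apply, hpv, mul_one, one_smul] at h1
    obtain ⟨a, b, hab⟩ := Submodule.mem_span_pair.1 h1
    have := congrFun hab (Sum.inl 1)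
    simp [p₀, q₀, v₀] at this
  · intro htop
    refine not_semiLin_transvection hL (by rw [finrank_pair hL]; norm_num) Φ₀ (T := ρ (Symp.tr hA v₀ 1))
      (B.flip v₀) (fun h => ?_) (v := v₀) (fun h => ?_) (fun x => ?_) (htop ▸ Subgroup.mem_top _ :
        Symp.tr hA v₀ 1 ∈ semiStab L Φ₀ ρ)
    · have := LinearMap.congr_fun h p₀
      rw [LinearMap.BilinForm.flip_apply, hpv, LinearMap.zero_apply] at this
      exact one_ne_zero this
    · rw [h, map_zero] at hpv
      exact zero_ne_one hpv
    · rw [hρ, Symp.tr_apply, one_mul, LinearMap.BilinForm.flip_apply]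
  · rcases cover_six L h3 hL hA hB hV (g := ρ g) (gi := ρ g⁻¹) (by rw [← map_mul, mul_inv_cancel, map_one])
      (by rw [← map_mul, inv_mul_cancel, map_one]) (fun a b => g.2 a b) with ⟨p, q, hpq', hgp, hgq⟩ | ⟨Φ, hΦ, hS⟩
    · obtain ⟨x, -, hxp, hxq⟩ := Symp.sp_transitive_hyperbolic hA hB hpq' hpq
      refine ⟨x, Or.inl ?_⟩
      have hback : ∀ w ∈ Submodule.span F {p, q}, ρ x w ∈ P := fun w hw => by
        obtain ⟨a, b, rfl⟩ := Submodule.mem_span_pair.1 hw
        rw [map_add, map_smul, map_smul, hρ, hρ, hxp, hxq]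
        exact Submodule.mem_span_pair.2 ⟨a, b, rfl⟩
      refine memH _ fun w hw => ?_
      obtain ⟨a, b, rfl⟩ := Submodule.mem_span_pair.1 hw
      have h1 : ρ x⁻¹ (a • p₀ + b • q₀) = a • p + b • q := by
        rw [← hxp, ← hxq, ← hρ, ← hρ, ← LinearMap.map_smul (ρ x), ← LinearMap.map_smul (ρ x), ← map_add,
          ← Module.End.mul_apply, ← map_mul, inv_mul_cancel, map_one, Module.End.one_apply]
      rw [map_mul, map_mul, Module.End.mul_apply, Module.End.mul_apply, h1, map_add, map_smul, map_smul]
      exact hback _ (Submodule.add_mem _ (Submodule.smul_mem _ _ hgp) (Submodule.smul_mem _ _ hgq))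
    · refine ⟨⟨Φ.symm.trans Φ₀, fun u v => ?_⟩, Or.inr (conj_mem_semiStab ρ Φ Φ₀ hS fun w => ?_)⟩
      · show B (Φ₀ (Φ.symm u)) (Φ₀ (Φ.symm v)) = B u v
        rw [hΦ₀, ← hΦ, Φ.apply_symm_apply, Φ.apply_symm_apply]
      · show Φ₀ (Φ.symm (Φ w)) = Φ₀ w
        rw [Φ.symm_apply_apply]

end CfsgLib.Known.CoverTwo
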