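import Cfsg.Agent.Lib.Known.CoverTwo.SympModel
import Cfsg.Agent.Lib.Classical.ClassTheory.JordanType

/-!
# A symplectic map in dimension six, characteristic three: an invariant plane or a cubic field structure
-/

set_option autoImplicit false
set_option linter.unusedSectionVars false
set_option linter.unusedSimpArgs false
set_option linter.style.haveILetI false
set_option maxRecDepth 8000

namespace CfsgLib.Known.CoverTwo

open LinearMap (BilinForm)
open CfsgLib.Classical Polynomial

variable {F : Type*} [Field F] {V : Type*} [AddCommGroup V] [Module F V] {B : BilinForm F V}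

/-- An invariant hyperbolic plane. -/
def Plane (B : BilinForm F V) (g : Module.End F V) : Prop :=
  ∃ p q : V, B p q = 1 ∧ g p ∈ Submodule.span F {p, q} ∧ g q ∈ Submodule.span F {p, q}

/-- A cubic field structure for which the map is semilinear. -/
def FieldType (L : Type*) [Field L] [Algebra F L] (B : BilinForm F V) (g : Module.End F V) : Prop :=
  ∃ Φ : (Fin 2 → L) ≃ₗ[F] V, (∀ w w', B (Φ w) (Φ w') = trPair F L w w') ∧ SemiLin L Φ g

theorem plane_of_invariant [FiniteDimensional F V] (hA : B.IsAlt) (hB : B.Nondegenerate)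
    (hV : Module.finrank F V = 6) {g : Module.End F V} (hg : ∀ a b, B (g a) (g b) = B a b) {W : Submodule F V}
    (hW : ∀ w ∈ W, g w ∈ W) (hn : ∀ x ∈ W, (∀ y ∈ W, B x y = 0) → x = 0) (h0 : W ≠ ⊥) (h1 : W ≠ ⊤) :
    Plane B g := by
  obtain ⟨hc, hn'⟩ := Symp.nondeg_orthogonal hA hB hn
  have hinj : Function.Injective g := by
    rw [injective_iff_map_eq_zero]
    intro x hx
    refine hB.1 x fun y => ?_
    rw [← hg, hx, map_zero, LinearMap.zero_apply]
  have hW' : ∀ z ∈ B.orthogonal W, g z ∈ B.orthogonal W := fun z hz => by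
    rw [Symp.mem_orthogonal]
    intro w hw
    have hs : Function.Surjective (g.restrict hW) := LinearMap.injective_iff_surjective.1 fun a b h =>
      Subtype.ext (hinj (congrArg Subtype.val h))
    obtain ⟨⟨w', hw'⟩, e⟩ := hs ⟨w, hw⟩
    rw [← show g w' = w from congrArg Subtype.val e, hg]
    exact Symp.mem_orthogonal.1 hz w' hw'
  have two : ∀ U : Submodule F V, (∀ w ∈ U, g w ∈ U) → (∀ x ∈ U, (∀ y ∈ U, B x y = 0) → x = 0) →
      Module.finrank F U = 2 → Plane B g := fun U hU hUn hU2 => by
    obtain ⟨u, hu, hu0⟩ := Submodule.exists_mem_ne_zero_of_ne_bot (p := U) fun h => by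
      rw [h, finrank_bot] at hU2; omega
    obtain ⟨v, hv, huv⟩ := Symp.exists_partner hUn hu hu0
    have hli : LinearIndependent F ![u, v] := by
      rw [LinearIndependent.pair_iff]
      intro a b hab
      have e1 := congrArg (B u) hab
      have e2 := congrArg (fun z => B z v) hab
      simp [hA u, huv] at e1
      simp [hA v, huv] at e2
      exact ⟨e2, e1⟩
    have hsp : Submodule.span F {u, v} = U := by
      refine Submodule.eq_of_le_of_finrank_eq ?_ ?_
      · rw [Submodule.span_le]; rintro x (rfl | rfl); exacts [hu, hv]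
      · rw [hU2, ← Matrix.range_cons_cons_empty u v ![], finrank_span_eq_card hli, Fintype.card_fin]
    exact ⟨u, v, huv, hsp.symm ▸ hU u hu, hsp.symm ▸ hU v hv⟩
  have hev : Even (Module.finrank F W) := by
    have h := ClassTheory.even_finrank_range_of_alt hB (LinearMap.ofIsCompl hc W.subtype 0) fun u => by
      obtain ⟨w, z, hw, hz, rfl⟩ := Submodule.codisjoint_iff_exists_add_eq.1 hc.codisjoint u
      have e1 := LinearMap.ofIsCompl_left_apply (φ := W.subtype) (ψ := (0 : B.orthogonal W →ₗ[F] V)) hc ⟨w, hw⟩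
      have e2 := LinearMap.ofIsCompl_right_apply (φ := W.subtype) (ψ := (0 : B.orthogonal W →ₗ[F] V)) hc ⟨z, hz⟩
      simp only [Submodule.subtype_apply, LinearMap.zero_apply] at e1 e2
      rw [map_add (LinearMap.ofIsCompl hc W.subtype 0), e1, e2, add_zero, map_add, LinearMap.add_apply, hA w,
        Symp.swap hA w z, Symp.mem_orthogonal.1 hz w hw, neg_zero, add_zero]
    rwa [LinearMap.range_ofIsCompl, Submodule.range_subtype, LinearMap.range_zero, sup_bot_eq] at h
  have hsum := Submodule.finrank_add_eq_of_isCompl hc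
  have hpos : Module.finrank F W ≠ 0 := fun h => h0 (Submodule.finrank_eq_zero.1 h)
  have hlt : Module.finrank F W < 6 := hV ▸ Submodule.finrank_lt h1
  rcases (show Module.finrank F W = 2 ∨ Module.finrank F W = 4 by obtain ⟨k, hk⟩ := hev; omega) with h | h
  · exact two W hW hn h
  · exact two _ hW' hn' (by omega)

theorem finrank_isotropic_le [FiniteDimensional F V] (hB : B.Nondegenerate) (hV : Module.finrank F V = 6)
    {S : Submodule F V} (hS : ∀ x ∈ S, ∀ y ∈ S, B x y = 0) : Module.finrank F S ≤ 3 := by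
  have h := LinearMap.BilinForm.finrank_orthogonal hB S
  have hle : S ≤ B.orthogonal S := fun y hy => Symp.mem_orthogonal.2 fun x hx => hS x hx y hy
  have := Submodule.finrank_mono hle
  omega

theorem selfAdj_zero (h2 : (2 : F) ≠ 0) (hA : B.IsAlt) {A : Module.End F V} (h : ∀ a b, B (A a) b = B a (A b))
    (v : V) : B v (A v) = 0 := by
  have e := Symp.swap hA (A v) v
  rw [h, eq_neg_iff_add_eq_zero, ← two_mul] at e
  exact (mul_eq_zero.1 e).resolve_left h2

theorem selfAdj_aeval {t : Module.End F V} (h : ∀ a b, B (t a) b = B a (t b)) (p : F[X]) :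
    ∀ a b, B (aeval t p a) b = B a (aeval t p b) := by
  induction p using Polynomial.induction_on' with
  | add p q hp hq => intro a b; simp [hp, hq]
  | monomial n r =>
    have hpow : ∀ (n : ℕ) a b, B ((t ^ n) a) b = B a ((t ^ n) b) := fun n => by
      induction n with
      | zero => intro a b; rfl
      | succ n ih =>
        intro a b
        rw [pow_succ, Module.End.mul_apply, ih, h, ← Module.End.mul_apply,
          (Commute.self_pow t n).eq]
    intro a b
    simp [Module.algebraMap_end_apply, hpow]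

variable [FiniteDimensional F V] [Fintype F]

/-- A self-adjoint cubic field commuting with the map. -/
theorem field_of_cubic {L : Type*} [Field L] [Finite L] [Algebra F L] (hL : Module.finrank F L = 3)
    (h2 : (2 : F) ≠ 0) (hA : B.IsAlt) (hB : B.Nondegenerate) (hV : Module.finrank F V = 6)
    (ι : L →ₐ[F] Module.End F V) (hsa : ∀ z a b, B (ι z a) b = B a (ι z b)) (g : Module.End F V)
    (hc : ∀ z, Commute g (ι z)) : FieldType L B g := by
  haveI : FiniteDimensional F L := Module.Finite.of_finite
  haveI : Nontrivial V := Module.nontrivial_of_finrank_pos (R := F) (by omega)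
  obtain ⟨v, hv⟩ := exists_ne (0 : V)
  obtain ⟨u, hu⟩ : ∃ u, B v u ≠ 0 := by
    by_contra h
    push Not at h
    exact hv (hB.1 v h)
  have hmul : ∀ (x y : L) a, ι x (ι y a) = ι (x * y) a := fun x y a => by rw [map_mul, Module.End.mul_apply]
  obtain ⟨h, hh⟩ : ∃ h : L, ∀ y, Algebra.trace F L (h * y) = B v (ι y u) := by
    let φ : Module.Dual F L :=
      { toFun := fun y => B v (ι y u), map_add' := fun a b => by simp, map_smul' := fun r a => by simp }
    exact ⟨((Algebra.traceForm F L).toDual (traceForm_nondegenerate F L)).symm φ, fun y =>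
      LinearMap.BilinForm.apply_toDual_symm_apply (hB := traceForm_nondegenerate F L) φ y⟩
  have hh0 : h ≠ 0 := fun h0 => hu (by
    have := hh 1
    rw [h0, zero_mul, map_zero, map_one, Module.End.one_apply] at this
    exact this.symm)
  let f : (Fin 2 → L) →ₗ[F] V :=
    { toFun := fun w => ι (h⁻¹ * w 0) v + ι (w 1) u
      map_add' := fun a b => by simp [mul_add]; abel
      map_smul' := fun r a => by simp }
  have hf : ∀ w w', B (f w) (f w') = trPair F L w w' := fun w w' => by
    have z0 : ∀ (x : L) (a : V), B a (ι x a) = 0 := fun x a => selfAdj_zero h2 hA (hsa x) a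
    have e2 : ∀ x, B v (ι x u) = Algebra.trace F L (h * x) := fun x => (hh x).symm
    show B (ι (h⁻¹ * w 0) v + ι (w 1) u) (ι (h⁻¹ * w' 0) v + ι (w' 1) u) = _
    rw [map_add B, LinearMap.add_apply, map_add, map_add, hsa, hsa, hsa, hsa, hmul, hmul, hmul, hmul, z0, z0,
      Symp.swap hA (ι (w 1 * (h⁻¹ * w' 0)) v) u, hsa, e2, e2, trPair_apply, map_sub]
    simp only [add_zero, zero_add, ← sub_eq_add_neg]
    congr 1 <;> congr 1 <;> field_simp
  have hfi : Function.Injective f := by
    rw [injective_iff_map_eq_zero]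
    intro w hw
    refine (trPair_nondegenerate (F := F) (L := L)).1 w fun w' => ?_
    rw [← hf, hw, map_zero, LinearMap.zero_apply]
  have hd : Module.finrank F (Fin 2 → L) = Module.finrank F V := by rw [finrank_pair hL, hV]
  let Φ := LinearEquiv.ofBijective f ⟨hfi, (LinearMap.injective_iff_surjective_of_finrank_eq_finrank hd).1 hfi⟩
  refine ⟨Φ, hf, AlgEquiv.refl, fun z w => ?_⟩
  have hz : ∀ w, Φ (z • w) = ι z (Φ w) := fun w => by
    show ι (h⁻¹ * (z * w 0)) v + ι (z * w 1) u = ι z (ι (h⁻¹ * w 0) v + ι (w 1) u)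
    rw [map_add, hmul, hmul, mul_left_comm]
  rw [Φ.symm_apply_eq, hz, ← Module.End.mul_apply, (hc z).eq, Module.End.mul_apply]
  show ι z _ = Φ (z • _)
  rw [hz, Φ.apply_symm_apply]

section
variable (L : Type*) [Field L] [Finite L] [Algebra F L]
variable (h3 : (3 : F) = 0) (hL : Module.finrank F L = 3) (hA : B.IsAlt) (hB : B.Nondegenerate)
  (hV : Module.finrank F V = 6)
include h3 hL hA hB hV

theorem model_facts (a : L) : ∀ x y : Fin 2 → L,
    trPair F L (cay (uTwist F a - 1) x) y = -trPair F L x (cay (uTwist F a - 1) y) :=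
  haveI : FiniteDimensional F L := Module.Finite.of_finite
  cay_skew (σ := RingHom.id F) (trPair F L) h3 (uTwist_sub_one_six h3 hL a) fun x y => by
    simp only [LinearMap.sub_apply, Module.End.one_apply, add_sub_cancel]
    exact uTwist_iso a x y

theorem unipotent_step {a : L} {X : Module.End F V} {N : Module.End F V} (hN : N ^ 6 = 0) (hX : X = cay N)
    (Φ : (Fin 2 → L) ≃ₗ[F] V) (hΦ : ∀ v, Φ (cay (uTwist F a - 1) v) = X (Φ v)) (w : Fin 2 → L) :
    Φ (uTwist F a w) = Φ w + N (Φ w) := by
  have h := cay_intertwine (Φ : (Fin 2 → L) →ₗ[F] V) hΦ w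
  rw [cay_cay (uTwist_sub_one_six h3 hL a)] at h
  rw [hX, cay_cay hN] at h
  simp only [LinearEquiv.coe_coe, LinearMap.sub_apply, Module.End.one_apply, map_sub] at h
  rw [← h, add_sub_cancel]

/-- A regular element, or one of type `(3, 3)`, times a scalar. -/
theorem field_of_unipotent {g N : Module.End F V} {e : F} (hN : N ^ 6 = 0)
    (hiso : ∀ a b, B (a + N a) (b + N b) = B a b) (hg : ∀ v, g v = e • (v + N v))
    (h : (∃ x, B x ((cay N ^ 5) x) ≠ 0) ∨ (cay N ^ 3 = 0 ∧ ∃ x y, B x ((cay N ^ 2) y) ≠ 0)) :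
    FieldType L B g := by
  haveI : FiniteDimensional F L := Module.Finite.of_finite
  have hX := cay_skew (σ := RingHom.id F) B h3 hN hiso
  obtain ⟨a, Φ, hΦ, hint⟩ : ∃ (a : L) (Φ : (Fin 2 → L) ≃ₗ[F] V), (∀ w w', B (Φ w) (Φ w') = trPair F L w w') ∧
      ∀ v, Φ (cay (uTwist F a - 1) v) = cay N (Φ v) := by
    rcases h with ⟨x, hx⟩ | ⟨hX3, x, y, hxy⟩
    · obtain ⟨a, x', hx'⟩ := model_six h3 hL (B x ((cay N ^ 5) x))
      exact ⟨a, conj_six h3 trPair_isAlt hA (finrank_pair hL) hV (model_facts L h3 hL hA hB hV a) hX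
        (cay_pow_six (uTwist_sub_one_six h3 hL a)) (cay_pow_six hN) (x := x') (x' := x) (by rw [hx']; exact hx)
        hx'.symm⟩
    · obtain ⟨x', y', hxy'⟩ := model_three (L := L) h3 hL
      exact ⟨0, conj_three h3 trPair_isAlt hA (finrank_pair hL) hV (model_facts L h3 hL hA hB hV 0) hX
        (by rw [cay_pow_eq, uTwist_zero_cube h3 hL, zero_mul]) hX3 hxy' hxy⟩
  refine ⟨Φ, hΦ, semiLin_of_coords Φ (fun w => e • uTwist F a w) (galGen F L) (fun z w => ?_) fun w => ?_⟩
  · rw [uTwist_semi, smul_comm]
  · rw [map_smul, unipotent_step L h3 hL hA hB hV hN rfl Φ hint, hg]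

/-- A semisimple part with two eigenvalues and a regular unipotent part over it. -/
theorem field_of_ext {g s N : Module.End F V} {c : F} (hD : c * c - 4 ≠ 0) (hN : N ^ 3 = 0) (hN2 : N ^ 2 ≠ 0)
    (hiso : ∀ a b, B (a + N a) (b + N b) = B a b) (hs : ∀ a b, B (s a) (s b) = B a b)
    (hss : ∀ v, s (s v) = c • s v - v) (hsN : Commute s N) (hg : ∀ v, g v = s (v + N v)) :
    FieldType L B g := by
  haveI : FiniteDimensional F L := Module.Finite.of_finite
  have h2 := two_ne_zero_of_three h3
  have hN6 : N ^ 6 = 0 := pow_eq_zero_of_le (by norm_num) hN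
  have hX := cay_skew (σ := RingHom.id F) B h3 hN6 hiso
  obtain ⟨e1, e2⟩ := cay_cube hN
  set X := cay N
  have hX3 : X ^ 3 = 0 := by rw [cay_pow_eq, hN, zero_mul]
  have hsX : ∀ v, s (X v) = X (s v) := fun v => by
    have : Commute s X := by rw [e1]; exact ((hsN.add_right (hsN.pow_right 2))).neg_right
    rw [← Module.End.mul_apply, this.eq, Module.End.mul_apply]
  obtain ⟨x, hx⟩ : ∃ x, B x (s (X (X x))) ≠ 0 := by
    by_contra hc
    push Not at hc
    refine hN2 (LinearMap.ext fun v => ?_)
    rw [← e2, pow_two, Module.End.mul_apply, LinearMap.zero_apply]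
    have hadj : ∀ a b, B (s a) b = B a (c • b - s b) := fun a b => by
      conv_rhs => rw [← hs, map_sub, map_smul, hss, sub_sub_cancel]
    set b := X (X v)
    have hb : ∀ a, B a (s b - (c • b - s b)) = 0 := fun a => by
      have h := hc (a + v)
      simp only [map_add, LinearMap.add_apply, hc a, hc v, zero_add, add_zero] at h
      rw [Symp.swap hA (s (X (X a))) v, hadj, hX, hX, map_sub X, map_smul X, ← hsX, map_sub X, map_smul X,
        ← hsX, neg_neg] at h
      rw [map_sub]
      linear_combination h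
    have h0 := hB.2 _ hb
    have h1 : s (s b - (c • b - s b)) = 0 := by rw [h0, map_zero]
    rw [map_sub, map_sub, map_smul, hss] at h1
    have h1' : (2 : F) • (c • s b - b) - c • s b = 0 := by rw [← h1]; module
    have h4' : (c * c - 4) • b = 0 := by
      have : c • (c • b) - (4 : F) • b = 0 := by
        linear_combination (norm := module) (2 : F) • h1' - c • h0
      rw [sub_smul, mul_smul]; exact this
    exact (smul_eq_zero.1 h4').resolve_left hD
  set β := B x (s (X (X x)))
  obtain ⟨x', hx'⟩ := model_ext (L := L) h3 hL c β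
  obtain ⟨Φ, hΦ, hint, hints⟩ := conj_ext (c := c) h3 trPair_isAlt hA (finrank_pair hL) hV
    (model_facts L h3 hL hA hB hV 0) hX (by rw [cay_pow_eq, uTwist_zero_cube h3 hL, zero_mul]) hX3
    (sModel_iso hx) hs (sModel_sq hx) hss
    (fun v => by
      have hc : Commute (sModel L c β) (uTwist F (0 : L)) := LinearMap.ext (sModel_comm c β)
      have hc' := hc.sub_right (Commute.one_right _)
      have : Commute (sModel L c β) (cay (uTwist F (0 : L) - 1)) := by
        rw [(cay_cube (uTwist_zero_cube h3 hL)).1]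
        exact (hc'.add_right (hc'.pow_right 2)).neg_right
      rw [← Module.End.mul_apply, this.eq, Module.End.mul_apply])
    hsX (x := x') (x' := x) (by rw [← Module.End.mul_apply (cay _) (cay _), ← pow_two, hx']; exact hx)
    (by rw [← Module.End.mul_apply (cay (uTwist F (0 : L) - 1)) (cay _), ← pow_two, hx'])
  refine ⟨Φ, hΦ, semiLin_of_coords Φ (fun w => sModel L c β (uTwist F (0 : L) w)) (galGen F L) (fun z w => ?_)
    fun w => ?_⟩
  · rw [uTwist_semi, sModel_semi]
  · rw [hints, unipotent_step L h3 hL hA hB hV hN6 rfl Φ hint, hg]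

end

end CfsgLib.Known.CoverTwo
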