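import Cfsg.Agent.Lib.Classical.Unitary.Matrix
import Mathlib

/-!
# Kernels of even-degree irreducible polynomials of a unitary map are totally isotropic
-/

set_option autoImplicit false
set_option linter.unusedSectionVars false
set_option linter.style.haveILetI false

namespace CfsgLib.Known.CoverTwo

open Polynomial CfsgLib.Classical CfsgLib.Classical.Herm

variable {F : Type*} [Field F] [Fintype F] {V : Type*} [AddCommGroup V] [Module F V] {σ : F →+* F}
  {B : V →ₛₗ[σ] V →ₗ[F] F}

/-- The twisted polynomial: conjugate the coefficients and reverse. -/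
noncomputable def twist (σ : F →+* F) (f : F[X]) : F[X] := (f.map σ).reverse

theorem twist_root {L : Type*} [Field L] [Algebra F L] {f : F[X]} {z : L} (hz : z ≠ 0)
    (h : aeval z (twist σ f) = 0) : aeval z⁻¹ (f.map σ) = 0 := by
  letI : Invertible z := invertibleOfNonzero hz
  have h1 : z⁻¹ = ⅟z := (invOf_eq_inv z).symm
  rw [h1, aeval_def, ← eval₂_reverse_eq_zero_iff]
  exact h

/-- An irreducible polynomial of even degree is coprime to its twist. -/
theorem isCoprime_twist (hσ : IsInvol σ) {f : F[X]} (hf : Irreducible f) (hm : f.Monic)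
    (hd : Even f.natDegree) : IsCoprime f (twist σ f) := by
  refine hf.coprime_iff_not_dvd.2 fun hdvd => ?_
  haveI := Fact.mk hf
  haveI : Module.Finite F (AdjoinRoot f) := hm.finite_adjoinRoot
  haveI : Finite (AdjoinRoot f) := Module.finite_of_finite F
  let q := Nat.card (fixedSub σ)
  have hq2 : Fintype.card F = q ^ 2 := by rw [← hσ.card_sq, Nat.card_eq_fintype_card]
  obtain ⟨p, hp⟩ := CharP.exists F
  haveI : Fact p.Prime := ⟨CharP.char_is_prime F p⟩
  obtain ⟨n, -, hpn⟩ := FiniteField.card F p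
  haveI : CharP (AdjoinRoot f) p := charP_of_injective_algebraMap' F p
  obtain ⟨k, hk⟩ : ∃ k, q = p ^ k := by
    have : q ∣ p ^ (n : ℕ) := by rw [← hpn, hq2, sq]; exact dvd_mul_right q q
    obtain ⟨k, -, hk⟩ := (Nat.dvd_prime_pow Fact.out).1 this
    exact ⟨k, hk⟩
  let ψ : AdjoinRoot f →+* AdjoinRoot f := iterateFrobenius (AdjoinRoot f) p k
  have hψ : ∀ z, ψ z = z ^ q := fun z => by rw [hk]; exact iterateFrobenius_def ..
  have hψF : ∀ c : F, ψ (algebraMap F _ c) = algebraMap F _ (σ c) := fun c => by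
    rw [hψ, ← map_pow, hσ.apply_eq_pow]
  set z := AdjoinRoot.root f
  have hfz : aeval z f = 0 := by rw [AdjoinRoot.aeval_eq, AdjoinRoot.mk_self]
  have hdeg : Module.finrank F (AdjoinRoot f) = f.natDegree := by
    rw [(AdjoinRoot.powerBasis hf.ne_zero).finrank, AdjoinRoot.powerBasis_dim]
  have hz0 : z ≠ 0 := fun h => by
    have h1 : f.coeff 0 = 0 := by
      have := hfz
      rw [h, aeval_def, eval₂_at_zero] at this
      exact (algebraMap F (AdjoinRoot f)).injective (by rw [this, map_zero])
    have h3 : X ∣ f := X_dvd_iff.2 h1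
    have h4 := congrArg natDegree (eq_of_monic_of_associated monic_X hm (irreducible_X.associated_of_dvd hf h3))
    rw [natDegree_X] at h4
    rw [← h4] at hd
    simp at hd
  have hw : aeval z⁻¹ (f.map σ) = 0 := twist_root hz0 (aeval_eq_zero_of_dvd_aeval_eq_zero hdvd hfz)
  have hroot : aeval (ψ z⁻¹) f = 0 := by
    have h1 := congrArg ψ hw
    rw [map_zero, aeval_def, eval₂_map, hom_eval₂] at h1
    rw [aeval_def]
    rw [← h1]
    refine congrArg (fun r => eval₂ r (ψ z⁻¹) f) (RingHom.ext fun c => ?_)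
    simp only [RingHom.comp_apply]
    rw [hψF, hσ.invol]
  have hmin : minpoly F z = f :=
    (minpoly.eq_of_irreducible_of_monic hf hfz hm).symm
  have hmin' : minpoly F (ψ z⁻¹) = f :=
    (minpoly.eq_of_irreducible_of_monic hf hroot hm).symm
  obtain ⟨g, hg⟩ : ψ z⁻¹ ∈ MulAction.orbit (Gal(AdjoinRoot f/F)) z :=
    (Normal.minpoly_eq_iff_mem_orbit (AdjoinRoot f)).1 (hmin'.trans hmin.symm)
  obtain ⟨⟨i, hi⟩, hgi⟩ := (FiniteField.bijective_frobeniusAlgEquivOfAlgebraic_pow F (AdjoinRoot f)).2 g
  set φ := FiniteField.frobeniusAlgEquivOfAlgebraic F (AdjoinRoot f)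
  have hφ : ∀ (m : ℕ) (x : AdjoinRoot f), (φ ^ m) x = x ^ Fintype.card F ^ m := fun m x => by
    rw [AlgEquiv.coe_pow, FiniteField.coe_frobeniusAlgEquivOfAlgebraic, pow_iterate]
  have e1 : z⁻¹ ^ q = z ^ Fintype.card F ^ i := by
    rw [← hψ, ← hg, ← hgi]
    exact hφ i z
  have e2 : (φ ^ (2 * i)) z = (φ ^ 1) z := by
    rw [hφ, hφ, pow_one]
    nth_rewrite 2 [hq2]
    calc z ^ Fintype.card F ^ (2 * i) = (z ^ Fintype.card F ^ i) ^ Fintype.card F ^ i := by
          rw [← pow_mul, ← pow_add, two_mul]
      _ = ((z⁻¹) ^ q) ^ Fintype.card F ^ i := by rw [e1]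
      _ = ((z ^ Fintype.card F ^ i)⁻¹) ^ q := by rw [← pow_mul, mul_comm, pow_mul, inv_pow]
      _ = ((z⁻¹ ^ q)⁻¹) ^ q := by rw [e1]
      _ = z ^ (q ^ 2) := by simp only [inv_pow, inv_inv, ← pow_mul, sq]
  have e3 : φ ^ (2 * i) = φ ^ 1 :=
    AlgEquiv.coe_toAlgHom_injective (AdjoinRoot.algHom_ext e2)
  have e4 := pow_eq_pow_iff_modEq.1 e3
  rw [FiniteField.orderOf_frobeniusAlgEquivOfAlgebraic, hdeg] at e4
  obtain ⟨t, ht⟩ := hd
  have e5 : 2 * i ≡ 1 [MOD 2] := e4.of_dvd ⟨t, by omega⟩
  unfold Nat.ModEq at e5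
  omega

variable [FiniteDimensional F V]

theorem apply_aeval (g : HU B) (f : F[X]) (x y : V) :
    B (aeval ((g : V ≃ₗ[F] V) : Module.End F V) f x) y =
      B x (aeval (((g⁻¹ : HU B) : V ≃ₗ[F] V) : Module.End F V) (f.map σ) y) := by
  have step : ∀ (n : ℕ) (x y : V), B ((((g : V ≃ₗ[F] V) : Module.End F V) ^ n) x) y =
      B x (((((g⁻¹ : HU B) : V ≃ₗ[F] V) : Module.End F V) ^ n) y) := by
    intro n
    induction n with
    | zero => intro x y; simp
    | succ m ih =>
      intro x y
      rw [pow_succ', Module.End.mul_apply, pow_succ, Module.End.mul_apply, ← ih]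
      conv_rhs => rw [← HU.map_eq g]
      simp
  induction f using Polynomial.induction_on' with
  | add a b ha hb =>
    rw [map_add, LinearMap.add_apply, map_add, LinearMap.add_apply, Polynomial.map_add, map_add,
      LinearMap.add_apply, map_add, ha, hb]
  | monomial n c =>
    rw [aeval_monomial, Polynomial.map_monomial, aeval_monomial, Module.algebraMap_end_eq_smul_id,
      Module.algebraMap_end_eq_smul_id]
    simp only [Module.End.mul_apply, LinearMap.smul_apply, LinearMap.id_apply, smul_left, smul_right, step]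

/-- Twisting reverses in the inverse map. -/
theorem aeval_twist (g : HU B) (f : F[X]) :
    aeval ((g : V ≃ₗ[F] V) : Module.End F V) (twist σ f) =
      ((g : V ≃ₗ[F] V) : Module.End F V) ^ (f.map σ).natDegree *
        aeval (((g⁻¹ : HU B) : V ≃ₗ[F] V) : Module.End F V) (f.map σ) := by
  set T := ((g : V ≃ₗ[F] V) : Module.End F V)
  set S := (((g⁻¹ : HU B) : V ≃ₗ[F] V) : Module.End F V)
  have hTS : T * S = 1 := LinearMap.ext fun x => by simp [T, S]
  have hc : Commute T S := by
    show T * S = S * T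
    rw [hTS]
    exact LinearMap.ext fun x => by simp [T, S]
  rw [twist]
  set p := f.map σ
  rw [aeval_eq_sum_range' (n := p.natDegree + 1) (by
      exact Nat.lt_succ_of_le (reverse_natDegree_le p)),
    aeval_eq_sum_range, Finset.mul_sum, ← Finset.sum_range_reflect]
  refine Finset.sum_congr rfl fun i hi => ?_
  rw [Finset.mem_range] at hi
  rw [coeff_reverse, revAt_le (by omega), mul_smul_comm,
    show p.natDegree + 1 - 1 - i = p.natDegree - i by omega, Nat.sub_sub_self (by omega)]
  congr 1
  nth_rewrite 2 [show p.natDegree = (p.natDegree - i) + i by omega]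
  rw [pow_add, mul_assoc, ← hc.mul_pow, hTS, one_pow, mul_one]

/-- The kernel of an irreducible polynomial of even degree is totally isotropic. -/
theorem kernel_isotropic (hσ : IsInvol σ) (g : HU B) {f : F[X]} (hf : Irreducible f) (hm : f.Monic)
    (hd : Even f.natDegree) {x y : V} (hx : aeval ((g : V ≃ₗ[F] V) : Module.End F V) f x = 0)
    (hy : aeval ((g : V ≃ₗ[F] V) : Module.End F V) f y = 0) : B y x = 0 := by
  obtain ⟨a, b, hab⟩ := isCoprime_twist hσ hf hm hd
  set T := ((g : V ≃ₗ[F] V) : Module.End F V) with hT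
  have h1 : aeval T b (aeval T (twist σ f) x) = x := by
    have h := LinearMap.congr_fun (congrArg (aeval T) hab) x
    rw [map_add, map_mul, map_mul, map_one, LinearMap.add_apply, Module.End.mul_apply, hx, map_zero,
      zero_add, Module.End.mul_apply, Module.End.one_apply] at h
    exact h
  set S := (((g⁻¹ : HU B) : V ≃ₗ[F] V) : Module.End F V)
  have h2 : x = aeval S (f.map σ) ((aeval T b * T ^ (f.map σ).natDegree) x) := by
    have hcm : Commute (aeval T b * T ^ (f.map σ).natDegree) (aeval S (f.map σ)) := by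
      have hTS : Commute T S := by
        show T * S = S * T
        exact LinearMap.ext fun v => by simp [T, S]
      have h3 : Commute T (aeval S (f.map σ)) :=
        Algebra.commute_of_mem_adjoin_singleton_of_commute (aeval_mem_adjoin_singleton F S) hTS
      exact ((Algebra.commute_of_mem_adjoin_singleton_of_commute (aeval_mem_adjoin_singleton F T)
        h3.symm).symm).mul_left (h3.pow_left _)
    rw [← Module.End.mul_apply, ← hcm.eq, Module.End.mul_apply, Module.End.mul_apply]
    rw [aeval_twist, Module.End.mul_apply] at h1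
    exact h1.symm
  have h3 : B y x = 0 := by
    rw [h2, ← apply_aeval, ← hT, hy, zero_left]
  exact h3

end CfsgLib.Known.CoverTwo
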