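import Cfsg.Agent.Lib.Known.CoverTwo.Basic
import Cfsg.Agent.Lib.Known.CoverTwo.UnitaryPoly
import Cfsg.Agent.Lib.Classical.Unitary.MatrixStructure
import Cfsg.Agent.Lib.Classical.Unitary.Isotropic

/-!
# `PSU₄`: stabilisers of a non-isotropic point and of a totally isotropic line
-/

set_option autoImplicit false
set_option linter.unusedSectionVars false
set_option linter.style.haveILetI false
set_option linter.unusedSimpArgs false

namespace CfsgLib.Known.CoverTwo

open Polynomial CfsgLib.Classical CfsgLib.Classical.Herm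
open scoped Matrix

variable {F : Type*} [Field F] [Fintype F] {n q : ℕ}

/-- Matrix action of `SU`. -/
noncomputable def suMap (n : ℕ) (F : Type*) [Field F] (q : ℕ) :
    Cfsg.SU n F q →* Module.End F (Fin n → F) :=
  ((Matrix.toLinAlgEquiv' : Matrix (Fin n) (Fin n) F ≃ₐ[F] _).toMulEquiv.toMonoidHom).comp
    ((Cfsg.slToMat n F).comp (Cfsg.SU n F q).subtype)

theorem suMap_apply (g : Cfsg.SU n F q) (v : Fin n → F) :
    suMap n F q g v = Cfsg.slToMat n F (g : Matrix.SpecialLinearGroup (Fin n) F) *ᵥ v := rfl

theorem suMap_inv_apply (g : Cfsg.SU n F q) (v : Fin n → F) : suMap n F q g⁻¹ (suMap n F q g v) = v := by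
  rw [← Module.End.mul_apply, ← map_mul, inv_mul_cancel, map_one, Module.End.one_apply]

theorem suMap_injective_apply (g : Cfsg.SU n F q) : Function.Injective (suMap n F q g) :=
  Function.LeftInverse.injective (suMap_inv_apply g)

theorem suMap_form (hF : Fintype.card F = q ^ 2) (g : Cfsg.SU n F q) (x y : Fin n → F) :
    hermStd n hF (suMap n F q g x) (suMap n F q g y) = hermStd n hF x y := g.2 y x

/-- An element of `SU` as an isometry. -/
theorem exists_hu (hF : Fintype.card F = q ^ 2) (g : Cfsg.SU n F q) :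
    ∃ u : HU (hermStd n hF), ((u : (Fin n → F) ≃ₗ[F] (Fin n → F)) : Module.End F (Fin n → F)) = suMap n F q g :=
  ⟨suEquiv n hF g, LinearMap.ext fun _ => rfl⟩

/-- An isometry of determinant one as an element of `SU`. -/
theorem exists_su (hF : Fintype.card F = q ^ 2) {u : HU (hermStd n hF)} (hu : u ∈ HSU (hermStd n hF)) :
    ∃ g : Cfsg.SU n F q, ∀ v, suMap n F q g v = (u : (Fin n → F) ≃ₗ[F] (Fin n → F)) v := by
  refine ⟨(suEquiv n hF).symm ⟨u, hu⟩, fun v => ?_⟩
  rw [suMap_apply]
  exact (suEquiv_apply hF _ v).symm.trans (by rw [MulEquiv.apply_symm_apply])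

/-- The centre acts by scalars. -/
theorem center_scalar (hF : Fintype.card F = q ^ 2) (hn : 3 ≤ n) (z : Cfsg.SU n F q)
    (hz : z ∈ Subgroup.center (Cfsg.SU n F q)) : ∃ c : F, ∀ v, suMap n F q z v = c • v := by
  have h1 : suEquiv n hF z ∈ Subgroup.center (HSU (hermStd n hF)) := by
    rw [← map_center_of_equiv (suEquiv n hF)]
    exact Subgroup.mem_map_of_mem _ hz
  obtain ⟨c, hc⟩ := ((hermStd_isHerm hF).mem_center_HSU_iff (by rw [finrank_std]; exact hn)).1 h1
  exact ⟨c, hc⟩

/-- The stabiliser in `SU` of a subspace. -/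
def subStab (n : ℕ) (F : Type*) [Field F] [Fintype F] (q : ℕ) (W : Submodule F (Fin n → F)) :
    Subgroup (Cfsg.SU n F q) where
  carrier := {g | W.map (suMap n F q g) = W}
  mul_mem' {a b} ha hb := by
    show W.map (suMap n F q (a * b)) = W
    rw [map_mul, Module.End.mul_eq_comp, Submodule.map_comp, hb, ha]
  one_mem' := by
    show W.map (suMap n F q 1) = W
    rw [map_one, Module.End.one_eq_id, Submodule.map_id]
  inv_mem' {a} ha := by
    show W.map (suMap n F q a⁻¹) = W
    nth_rewrite 1 [← ha]
    rw [← Submodule.map_comp, ← Module.End.mul_eq_comp, ← map_mul, inv_mul_cancel, map_one,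
      Module.End.one_eq_id, Submodule.map_id]

theorem mem_subStab_of_le {W : Submodule F (Fin n → F)} {g : Cfsg.SU n F q}
    (h : ∀ w ∈ W, suMap n F q g w ∈ W) : g ∈ subStab n F q W :=
  Submodule.eq_of_le_of_finrank_eq (Submodule.map_le_iff_le_comap.2 h)
    (LinearEquiv.finrank_eq (Submodule.equivMapOfInjective _ (suMap_injective_apply g) W)).symm

theorem center_le_subStab (W : Submodule F (Fin n → F)) (hn : ∀ z ∈ Subgroup.center (Cfsg.SU n F q),
    ∃ c : F, ∀ v, suMap n F q z v = c • v) : Subgroup.center (Cfsg.SU n F q) ≤ subStab n F q W := fun z hz => by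
  obtain ⟨c, hc⟩ := hn z hz
  exact mem_subStab_of_le fun w hw => by rw [hc]; exact W.smul_mem c hw

/-- The geometric dichotomy for a unitary map in dimension four. -/
theorem cover_four {V : Type*} [AddCommGroup V] [Module F V] [FiniteDimensional F V] {σ : F →+* F}
    {B : V →ₛₗ[σ] V →ₗ[F] F} (h : IsHerm B) (hV : Module.finrank F V = 4) (g : HU B) :
    (∃ (v : V) (c : F), B v v ≠ 0 ∧ (g : V ≃ₗ[F] V) v = c • v) ∨
      ∃ x ∈ isoTuples B 2, ∀ i, (g : V ≃ₗ[F] V) (x i) ∈ Submodule.span F (Set.range x) := by
  classical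
  by_cases hH : ∃ (v : V) (c : F), B v v ≠ 0 ∧ (g : V ≃ₗ[F] V) v = c • v
  · exact Or.inl hH
  refine Or.inr ?_
  push Not at hH
  set T := ((g : V ≃ₗ[F] V) : Module.End F V) with hT
  have hTinj : ∀ x, T x = 0 → x = 0 := fun x hx => (g : V ≃ₗ[F] V).injective (by rw [map_zero]; exact hx)
  have hBT : ∀ x y, B (T x) (T y) = B x y := fun x y => HU.map_eq g x y
  have pair : ∀ (a b : V), a ≠ 0 → (∀ c : F, b ≠ c • a) → B a a = 0 → B a b = 0 → B b b = 0 →
      T a ∈ Submodule.span F (Set.range ![a, b]) → T b ∈ Submodule.span F (Set.range ![a, b]) →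
      ∃ x ∈ isoTuples B 2, ∀ i, (g : V ≃ₗ[F] V) (x i) ∈ Submodule.span F (Set.range x) := by
    intro a b ha hb haa hab hbb hTa hTb
    refine ⟨![a, b], ⟨(LinearIndependent.pair_iff' ha).2 fun c hc => hb c hc.symm, ?_⟩, ?_⟩
    · intro i j
      fin_cases i <;> fin_cases j <;> simp [haa, hab, hbb, h.eq_zero_symm hab]
    · intro i
      fin_cases i
      · exact hTa
      · exact hTb
  -- the case of an invariant quadratic factor
  have quad : ∀ (f : F[X]), Irreducible f → f.Monic → f.natDegree = 2 → ∀ x : V, x ≠ 0 → aeval T f x = 0 →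
      ∃ x ∈ isoTuples B 2, ∀ i, (g : V ≃ₗ[F] V) (x i) ∈ Submodule.span F (Set.range x) := by
    intro f hf hm hd x hx hfx
    have hev : Even f.natDegree := by rw [hd]; exact even_two
    have hTx : aeval T f (T x) = 0 := by
      rw [← Module.End.mul_apply, (Algebra.commute_of_mem_adjoin_singleton_of_commute
        (aeval_mem_adjoin_singleton F T) (Commute.refl T)).symm.eq, Module.End.mul_apply, hfx, map_zero]
    have hexp : f.coeff 0 • x + f.coeff 1 • T x + T (T x) = 0 := by
      rw [← hfx, aeval_eq_sum_range, hd, Finset.sum_range_succ, Finset.sum_range_succ, Finset.sum_range_one]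
      have hc2 : f.coeff 2 = 1 := by rw [← hd]; exact hm.coeff_natDegree
      simp [hc2, pow_two]
    refine pair x (T x) hx (fun c hc => ?_) (kernel_isotropic h.invol g hf hm hev hfx hfx)
      (kernel_isotropic h.invol g hf hm hev hTx hfx) (kernel_isotropic h.invol g hf hm hev hTx hTx)
      (Submodule.subset_span ⟨1, rfl⟩) ?_
    · have : f.eval c • x = 0 := by
        have h2 := hfx
        rw [Module.End.aeval_apply_of_hasEigenvector (μ := c) ⟨Module.End.mem_eigenspace_iff.2 hc, hx⟩] at h2
        exact h2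
      have hroot : f.IsRoot c := (smul_eq_zero.1 this).resolve_right hx
      have := degree_eq_one_of_irreducible_of_root hf hroot
      rw [degree_eq_natDegree hm.ne_zero, hd] at this
      exact absurd this (by decide)
    · rw [show T (T x) = (-f.coeff 0) • x + (-f.coeff 1) • T x by
        rw [neg_smul, neg_smul]
        linear_combination (norm := module) hexp]
      exact Submodule.add_mem _ (Submodule.smul_mem _ _ (Submodule.subset_span ⟨0, rfl⟩))
        (Submodule.smul_mem _ _ (Submodule.subset_span ⟨1, rfl⟩))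
  by_cases heig : ∃ (v : V) (μ : F), v ≠ 0 ∧ T v = μ • v
  · obtain ⟨v, μ, hv, hTv⟩ := heig
    have hvv : B v v = 0 := by
      by_contra hc
      exact hH v μ hc hTv
    have hμ : μ ≠ 0 := fun h0 => hv (hTinj v (by rw [hTv, h0, zero_smul]))
    set W := h.perp v with hW
    have hWr : Module.finrank F W = 3 := by
      obtain ⟨y, hy⟩ := h.exists_apply_eq_one hv
      have hsurj : Function.Surjective (B v) := fun c => ⟨c • y, by rw [map_smul, hy, smul_eq_mul, mul_one]⟩
      have h1 := LinearMap.finrank_range_add_finrank_ker (B v)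
      rw [LinearMap.range_eq_top.2 hsurj, finrank_top, Module.finrank_self, hV] at h1
      show Module.finrank F (LinearMap.ker (B v)) = 3
      omega
    have hWT : ∀ w ∈ W, T w ∈ W := fun w hw => by
      have h1 := hBT v w
      rw [hTv, smul_left, h.mem_perp.1 hw] at h1
      exact h.mem_perp.2 ((mul_eq_zero.1 h1).resolve_left fun h2 => hμ (by
        simpa using h2))
    let N : Submodule F W := Submodule.span F {⟨v, h.mem_perp.2 hvv⟩}
    let TW : W →ₗ[F] W := T.restrict hWT
    have hN : N ≤ N.comap TW := by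
      rw [Submodule.span_le, Set.singleton_subset_iff]
      exact Submodule.mem_span_singleton.2 ⟨μ, Subtype.ext hTv.symm⟩
    let TQ : (W ⧸ N) →ₗ[F] (W ⧸ N) := N.mapQ N TW hN
    have hQr : Module.finrank F (W ⧸ N) = 2 := by
      have := N.finrank_quotient_add_finrank
      rw [hWr, finrank_span_singleton (fun h0 => hv (congrArg Subtype.val h0))] at this
      omega
    by_cases hroot : ∃ c, TQ.charpoly.IsRoot c
    · obtain ⟨c, hc⟩ := hroot
      obtain ⟨ub, hub⟩ := ((Module.End.hasEigenvalue_iff_isRoot_charpoly TQ c).2 hc).exists_hasEigenvector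
      obtain ⟨⟨u, huW⟩, rfl⟩ := Submodule.Quotient.mk_surjective N ub
      have hTu : ∃ a : F, T u = c • u + a • v := by
        have h1 := hub.apply_eq_smul
        rw [show TQ (Submodule.Quotient.mk ⟨u, huW⟩) = Submodule.Quotient.mk (TW ⟨u, huW⟩) from
          Submodule.mapQ_apply _ _ _ _, ← Submodule.Quotient.mk_smul, Submodule.Quotient.eq] at h1
        obtain ⟨a, ha⟩ := Submodule.mem_span_singleton.1 h1
        refine ⟨a, ?_⟩
        have h2 := congrArg Subtype.val ha
        simp only [Submodule.coe_smul, Submodule.coe_sub, TW, LinearMap.restrict_coe_apply] at h2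
        rw [h2]; abel
      obtain ⟨a, ha⟩ := hTu
      have huv : ∀ d : F, u ≠ d • v := fun d hd => hub.2 (by
        rw [Submodule.Quotient.mk_eq_zero]
        exact Submodule.mem_span_singleton.2 ⟨d, Subtype.ext hd.symm⟩)
      have hvu : B v u = 0 := h.mem_perp.1 huW
      have huv' : B u v = 0 := h.eq_zero_symm hvu
      by_cases huu : B u u = 0
      · refine pair v u hv huv hvv hvu huu ?_ ?_
        · rw [hTv]; exact Submodule.smul_mem _ _ (Submodule.subset_span ⟨0, rfl⟩)
        · rw [ha]
          exact Submodule.add_mem _ (Submodule.smul_mem _ _ (Submodule.subset_span ⟨1, rfl⟩))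
            (Submodule.smul_mem _ _ (Submodule.subset_span ⟨0, rfl⟩))
      -- a non-isotropic eigenvector modulo `v`
      have hcμ : c = μ := by
        by_contra hne
        refine hH (u + (a / (c - μ)) • v) c ?_ ?_
        · simpa [hvv, hvu, huv'] using huu
        · show T (u + (a / (c - μ)) • v) = _
          have hne' : c - μ ≠ 0 := sub_ne_zero.2 hne
          rw [map_add, map_smul, ha, hTv, smul_add, smul_smul, smul_smul,
            show c * (a / (c - μ)) = a + a / (c - μ) * μ by field_simp; ring]
          module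
      obtain ⟨w, hwW, hwu, hw⟩ : ∃ w, B v w = 0 ∧ B u w = 0 ∧ ∀ d, w ≠ d • v := by
        let L : V →ₗ[F] F × F := (B v).prod (B u)
        have h1 := LinearMap.finrank_range_add_finrank_ker L
        have h2 := Submodule.finrank_le (LinearMap.range L)
        rw [Module.finrank_prod, Module.finrank_self] at h2
        by_contra hcon
        push Not at hcon
        have h3 : LinearMap.ker L ≤ Submodule.span F {v} := fun w hw => by
          obtain ⟨d, hd⟩ := hcon w (congrArg Prod.fst hw) (congrArg Prod.snd hw)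
          exact Submodule.mem_span_singleton.2 ⟨d, hd.symm⟩
        have h4 := Submodule.finrank_mono h3
        rw [finrank_span_singleton hv] at h4
        omega
      have hwv : B w v = 0 := h.eq_zero_symm hwW
      have hwu' : B w u = 0 := h.eq_zero_symm hwu
      let L : V →ₗ[F] F × F := (B v).prod (B u)
      have hK : LinearMap.ker L = Submodule.span F (Set.range ![v, w]) := by
        symm
        refine Submodule.eq_of_le_of_finrank_le ?_ ?_
        · rw [Submodule.span_le]
          rintro _ ⟨i, rfl⟩
          fin_cases i <;> simp [L, hvv, huv', hwW, hwu]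
        · have hlt : LinearMap.ker L < W := by
            refine lt_of_le_of_ne (fun x hx => h.mem_perp.2 (congrArg Prod.fst hx)) fun he => ?_
            exact huu (congrArg Prod.snd (show u ∈ LinearMap.ker L from he ▸ huW))
          have h1 := Submodule.finrank_lt_finrank_of_lt hlt
          have hli : LinearIndependent F ![v, w] := (LinearIndependent.pair_iff' hv).2 fun d hd => hw d hd.symm
          rw [finrank_span_eq_card hli, Fintype.card_fin]
          omega
      have hTw : T w ∈ LinearMap.ker L := by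
        have h1 : B v (T w) = 0 := h.mem_perp.1 (hWT w (h.mem_perp.2 hwW))
        have h2 := hBT u w
        rw [ha, hwu, add_left, smul_left, smul_left, h1, mul_zero, add_zero] at h2
        have h3 : B u (T w) = 0 := (mul_eq_zero.1 h2).resolve_left fun h4 => hμ (hcμ ▸ (by simpa using h4))
        simp [L, h1, h3]
      rw [hK] at hTw
      obtain ⟨k, hk⟩ := (Submodule.mem_span_range_iff_exists_fun F).1 hTw
      rw [Fin.sum_univ_two] at hk
      simp only [Matrix.cons_val_zero, Matrix.cons_val_one] at hk
      by_cases hww : B w w = 0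
      · refine pair v w hv hw hvv hwW hww ?_ ?_
        · rw [hTv]; exact Submodule.smul_mem _ _ (Submodule.subset_span ⟨0, rfl⟩)
        · rw [← hk]
          exact Submodule.add_mem _ (Submodule.smul_mem _ _ (Submodule.subset_span ⟨0, rfl⟩))
            (Submodule.smul_mem _ _ (Submodule.subset_span ⟨1, rfl⟩))
      have hkμ : k 1 = μ := by
        by_contra hne
        refine hH (w + (k 0 / (k 1 - μ)) • v) (k 1) ?_ ?_
        · simpa [hvv, hwW, hwv] using hww
        · show T (w + (k 0 / (k 1 - μ)) • v) = _
          have hne' : k 1 - μ ≠ 0 := sub_ne_zero.2 hne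
          rw [map_add, map_smul, ← hk, hTv, smul_add, smul_smul, smul_smul,
            show k 1 * (k 0 / (k 1 - μ)) = k 0 + k 0 / (k 1 - μ) * μ by field_simp; ring]
          module
      obtain ⟨t, ht⟩ := h.invol.exists_norm_eq (μ := -(B u u) / B w w)
        (by rw [map_div₀, map_neg, h.self_fixed, h.self_fixed])
      refine pair v (u + t • w) hv (fun d hd => ?_) hvv ?_ ?_ ?_ ?_
      · have h1 := congrArg (B u) hd
        rw [map_add, map_smul, map_smul, hwu, huv', smul_zero, add_zero, smul_zero] at h1
        exact huu h1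
      · simp [hvu, hwW]
      · rw [h.add_self_of_perp (by simp [hwu]), smul_left, smul_right]
        rw [show σ t * (t * B w w) = (t * σ t) * B w w by ring, ht, div_mul_cancel₀ _ hww, add_neg_cancel]
      · rw [hTv]; exact Submodule.smul_mem _ _ (Submodule.subset_span ⟨0, rfl⟩)
      · rw [map_add, map_smul, ha, ← hk, hcμ, hkμ,
          show μ • u + a • v + t • (k 0 • v + μ • w) = μ • (u + t • w) + (a + t * k 0) • v by module]
        exact Submodule.add_mem _ (Submodule.smul_mem _ _ (Submodule.subset_span ⟨1, rfl⟩))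
          (Submodule.smul_mem _ _ (Submodule.subset_span ⟨0, rfl⟩))
    · push Not at hroot
      have hirr : Irreducible TQ.charpoly := by
        refine irreducible_of_degree_le_three_of_not_isRoot ?_ hroot
        rw [LinearMap.charpoly_natDegree, hQr]; decide
      have hsub : ∀ (p : F[X]) (w : W), ((aeval TW p w : W) : V) = aeval T p (w : V) ∧
          Submodule.Quotient.mk (aeval TW p w) = aeval TQ p (Submodule.Quotient.mk w : W ⧸ N) := by
        intro p
        induction p using Polynomial.induction_on with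
        | C a => intro w; simp [Module.algebraMap_end_apply]
        | add a b ha hb => intro w; simp [(ha w).1, (hb w).1, (ha w).2, (hb w).2]
        | monomial k a hk =>
          intro w
          rw [pow_succ, ← mul_assoc, map_mul (aeval TW), map_mul (aeval T), map_mul (aeval TQ), aeval_X, aeval_X,
            aeval_X, Module.End.mul_apply, Module.End.mul_apply, Module.End.mul_apply]
          exact ⟨(hk (TW w)).1, by rw [(hk (TW w)).2]; rfl⟩
      have hann : ∀ w : W, aeval TW TQ.charpoly w ∈ N := fun w => by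
        rw [← Submodule.Quotient.mk_eq_zero, (hsub _ w).2, LinearMap.aeval_self_charpoly, LinearMap.zero_apply]
      obtain ⟨x, hx, hx0⟩ : ∃ x : W, aeval TW TQ.charpoly x = 0 ∧ x ≠ 0 := by
        have hrange : LinearMap.range (aeval TW TQ.charpoly) ≤ N := by
          rintro _ ⟨w, rfl⟩; exact hann w
        have h1 := LinearMap.finrank_range_add_finrank_ker (aeval TW TQ.charpoly)
        have h2 := Submodule.finrank_mono hrange
        rw [finrank_span_singleton (fun h0 => hv (congrArg Subtype.val h0))] at h2
        rw [hWr] at h1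
        have hne : LinearMap.ker (aeval TW TQ.charpoly) ≠ ⊥ := fun h0 => by
          rw [h0, finrank_bot] at h1; omega
        obtain ⟨x, hx, hx0⟩ := Submodule.exists_mem_ne_zero_of_ne_bot hne
        exact ⟨x, hx, hx0⟩
      exact quad _ hirr (LinearMap.charpoly_monic _) (by rw [LinearMap.charpoly_natDegree, hQr]) (x : V)
        (fun h0 => hx0 (Subtype.ext h0)) (by rw [← (hsub _ x).1, hx]; rfl)
  · push Not at heig
    haveI : Nontrivial V := Module.nontrivial_of_finrank_pos (R := F) (by omega)
    have hint : IsIntegral F T := IsIntegral.of_finite F T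
    obtain ⟨f, hm, hf, hdvd⟩ := exists_monic_irreducible_factor (minpoly F T) (fun hu =>
      minpoly.ne_one F T ((minpoly.monic hint).eq_one_of_isUnit hu))
    have hroot : ∀ c : F, ¬ T.charpoly.IsRoot c := fun c hc => by
      obtain ⟨v, hv⟩ := ((Module.End.hasEigenvalue_iff_isRoot_charpoly T c).2 hc).exists_hasEigenvector
      exact heig v c hv.2 hv.apply_eq_smul
    obtain ⟨s, hs⟩ := hdvd.trans (LinearMap.minpoly_dvd_charpoly T)
    have hs0 : s ≠ 0 := fun h0 => (LinearMap.charpoly_monic T).ne_zero (by rw [hs, h0, mul_zero])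
    have hdeg : f.natDegree + s.natDegree = 4 := by
      rw [← natDegree_mul hm.ne_zero hs0, ← hs, LinearMap.charpoly_natDegree, hV]
    have h1 : f.natDegree ≠ 1 := fun h0 => by
      obtain ⟨c, hc⟩ := exists_root_of_degree_eq_one (p := f) (by rw [degree_eq_natDegree hm.ne_zero, h0]; rfl)
      exact hroot c (by rw [hs, IsRoot, eval_mul, hc, zero_mul])
    have h3 : s.natDegree ≠ 1 := fun h0 => by
      obtain ⟨c, hc⟩ := exists_root_of_degree_eq_one (p := s) (by rw [degree_eq_natDegree hs0, h0]; rfl)
      exact hroot c (by rw [hs, IsRoot, eval_mul, hc, mul_zero])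
    have hpos := hf.natDegree_pos
    obtain ⟨r, hr⟩ := hdvd
    obtain ⟨z, hz⟩ : ∃ z, aeval T r z ≠ 0 := by
      by_contra hcon
      push Not at hcon
      have hr0 : r ≠ 0 := fun h0 => minpoly.ne_zero hint (by rw [hr, h0, mul_zero])
      have h4 := natDegree_le_of_dvd (minpoly.dvd F T (LinearMap.ext hcon)) hr0
      rw [hr, natDegree_mul hm.ne_zero hr0] at h4
      omega
    have hfx : aeval T f (aeval T r z) = 0 := by
      rw [← Module.End.mul_apply, ← map_mul, ← hr, minpoly.aeval, LinearMap.zero_apply]
    rcases (show f.natDegree = 2 ∨ f.natDegree = 4 by omega) with hd | hd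
    · exact quad f hf hm hd _ hz hfx
    · exfalso
      have hfT : aeval T f = 0 := by
        have hs1 : s.natDegree = 0 := by omega
        have hsm : s.Monic := hm.of_mul_monic_left (hs ▸ LinearMap.charpoly_monic T)
        rw [← T.aeval_self_charpoly, hs, hsm.natDegree_eq_zero.1 hs1, mul_one]
      refine hz (h.nondeg _ fun y => ?_)
      exact kernel_isotropic h.invol g hf hm (by rw [hd]; decide) (by rw [hfT]; rfl) (by rw [hfT]; rfl)

/-- `PSU₄` is covered. -/
theorem covered_PSU_four (hF : Fintype.card F = q ^ 2) : Covered (Cfsg.PSU 4 F q) := by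
  classical
  set B := hermStd 4 hF
  have h : IsHerm B := hermStd_isHerm hF
  let e : Fin 4 → (Fin 4 → F) := fun i => Pi.single i 1
  have hB : ∀ i j, B (e i) (e j) = if i = j then 1 else 0 := fun i j => by
    have hq : q ≠ 0 := by have := two_le_of_card_sq hF; omega
    rw [hermStd_apply, Cfsg.hermForm, Finset.sum_eq_single j (fun k _ hk => by simp [e, hk]) (by simp)]
    by_cases hij : i = j <;> simp [e, hij, Ne.symm, hq, Pi.single_apply, eq_comm]
  obtain ⟨a, ha⟩ := h.invol.exists_norm_eq (μ := (-1 : F)) (by rw [map_neg, map_one])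
  let u : Fin 2 → (Fin 4 → F) := ![e 0 + a • e 1, e 2 + a • e 3]
  have hu : u ∈ isoTuples B 2 := by
    refine ⟨?_, fun i j => ?_⟩
    · rw [LinearIndependent.pair_iff]
      intro s t hst
      have h0 := congrFun hst 0
      have h2 := congrFun hst 2
      simp [e] at h0 h2
      exact ⟨h0, h2⟩
    · fin_cases i <;> fin_cases j <;>
        simp [u, hB, smul_left, Fin.reduceEq] <;> rw [← powHom_apply hF] at * <;> linear_combination ha
  let W₀ := Submodule.span F (Set.range u)
  have hW₀ : Module.finrank F W₀ = 2 := by rw [finrank_span_eq_card hu.1, Fintype.card_fin]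
  have hWiso : ∀ x ∈ W₀, ∀ y ∈ W₀, B x y = 0 := by
    intro x hx y hy
    induction hx using Submodule.span_induction with
    | zero => exact zero_left y
    | add _ _ _ _ h1 h2 => rw [add_left, h1, h2, add_zero]
    | smul c _ _ h1 => rw [smul_left, h1, mul_zero]
    | mem x hx =>
      obtain ⟨i, rfl⟩ := hx
      induction hy using Submodule.span_induction with
      | zero => exact map_zero _
      | add _ _ _ _ h1 h2 => rw [map_add, h1, h2, add_zero]
      | smul c _ _ h1 => rw [map_smul, h1, smul_zero]
      | mem y hy => obtain ⟨j, rfl⟩ := hy; exact hu.2 i j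
  have hfin : Module.finrank F (Fin 4 → F) = 4 := Module.finrank_fin_fun F
  have hsc : ∀ z ∈ Subgroup.center (Cfsg.SU 4 F q), ∃ c : F, ∀ v, suMap 4 F q z v = c • v :=
    fun z hz => center_scalar hF (by norm_num) z hz
  refine covered_quotient (subStab 4 F q (Submodule.span F {e 0})) (subStab 4 F q W₀)
    (center_le_subStab _ hsc) (center_le_subStab _ hsc) ?_ ?_ fun g => ?_
  · intro htop
    obtain ⟨x, hx, hxe⟩ := h.exists_det_one_map (x := e 0) (y := e 1) (by rw [hfin]; norm_num)
      (by rw [hB]; simp) (by simp [hB])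
    obtain ⟨t, ht⟩ := exists_su hF hx
    have hm := (htop ▸ Subgroup.mem_top t : t ∈ subStab 4 F q (Submodule.span F {e 0}))
    have h1 : suMap 4 F q t (e 0) ∈ Submodule.span F {e 0} :=
      (show Submodule.map _ _ = _ from hm) ▸ Submodule.mem_map_of_mem (Submodule.mem_span_singleton_self _)
    rw [ht, hxe] at h1
    obtain ⟨c, hc⟩ := Submodule.mem_span_singleton.1 h1
    simpa [e] using congrFun hc 1
  · intro htop
    obtain ⟨b, hb, hb2⟩ : ∃ b : Fˣ, (b : F) * powHom hF (b : F) = 1 ∧ (b : F) * b ≠ 1 := by
      by_contra hcon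
      push Not at hcon
      have h1 := (h.invol).card_norm_fibre (μ := (1 : F)) one_ne_zero (map_one _)
      have h2 : Nat.card {x : F // x * powHom hF x = 1} ≤ 2 := by
        rw [show Nat.card {x : F // x * powHom hF x = 1} = {x : F | x * powHom hF x = 1}.ncard from
          Nat.card_coe_set_eq _]
        refine le_trans (Set.ncard_le_ncard (t := {1, -1}) (fun x hx => ?_) (Set.toFinite _))
          (le_trans (Set.ncard_insert_le _ _) (by rw [Set.ncard_singleton]))
        have hx0 : x ≠ 0 := left_ne_zero_of_mul_eq_one hx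
        exact mul_self_eq_one_iff.1 (hcon (Units.mk0 x hx0) hx)
      rw [h1, card_fixed_powHom hF] at h2
      have := two_le_of_card_sq hF
      omega
    have he : ∀ i, B (e i) (e i) ≠ 0 := fun i => by rw [hB, if_pos rfl]; exact one_ne_zero
    have hbi : ((b⁻¹ : Fˣ) : F) * powHom hF ((b⁻¹ : Fˣ) : F) = 1 := by
      rw [Units.val_inv_eq_inv_val, map_inv₀, ← mul_inv, hb, inv_one]
    set x : HU B := h.quasiIso (e 0) (he 0) b hb * h.quasiIso (e 1) (he 1) b⁻¹ hbi with hxdef
    have hx : x ∈ HSU B := by
      rw [MonoidHom.mem_ker, hxdef, map_mul, h.det_quasiIso, h.det_quasiIso, mul_inv_cancel]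
    obtain ⟨t, ht⟩ := exists_su hF hx
    have hm := (htop ▸ Subgroup.mem_top t : t ∈ subStab 4 F q W₀)
    have h1 : suMap 4 F q t (u 0) ∈ W₀ :=
      (show Submodule.map _ _ = _ from hm) ▸ Submodule.mem_map_of_mem (Submodule.subset_span ⟨0, rfl⟩)
    have hval : suMap 4 F q t (u 0) = (b : F) • e 0 + (a * ((b⁻¹ : Fˣ) : F)) • e 1 := by
      rw [ht, hxdef]
      show quasi B (e 0) (he 0) b (quasi B (e 1) (he 1) b⁻¹ (e 0 + a • e 1)) = _
      have q1 : quasi B (e 1) (he 1) b⁻¹ (e 0) = e 0 := quasi_apply_perp _ _ _ (by rw [hB, if_neg (by decide)])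
      have q2 : quasi B (e 0) (he 0) b (e 1) = e 1 := quasi_apply_perp _ _ _ (by rw [hB, if_neg (by decide)])
      rw [map_add, map_smul, quasi_apply_self, q1, map_add, quasi_apply_self, map_smul, map_smul, q2, smul_smul]
    rw [hval] at h1
    obtain ⟨k, hk⟩ := (Submodule.mem_span_range_iff_exists_fun F).1 h1
    have k0 := congrFun hk 0
    have k1 := congrFun hk 1
    simp [u, e, Fin.sum_univ_two] at k0 k1
    have ha0 : a ≠ 0 := left_ne_zero_of_mul (ha.trans_ne (neg_ne_zero.2 one_ne_zero))
    refine hb2 ?_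
    rw [k0, mul_comm a] at k1
    have h5 := mul_right_cancel₀ ha0 k1
    calc (b : F) * b = ((b⁻¹ : Fˣ) : F) * b := by rw [Units.val_inv_eq_inv_val]; conv_lhs => arg 1; rw [h5]
      _ = 1 := Units.inv_mul b
  · obtain ⟨U, hU⟩ := exists_hu hF g
    rcases cover_four h hfin U with ⟨v, c, hv, hgv⟩ | ⟨y, hy, hgy⟩
    · obtain ⟨b, hb, hbv⟩ := h.scale_to hv (map_one _) one_ne_zero
      obtain ⟨x, hx, hxe⟩ := h.exists_det_one_map (x := b • v) (y := e 0) (by rw [hfin]; norm_num)
        (by rw [hbv]; exact one_ne_zero) (by rw [hbv, hB]; simp)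
      obtain ⟨t, ht⟩ := exists_su hF hx
      refine ⟨t, Or.inl (mem_subStab_of_le fun w hw => ?_)⟩
      obtain ⟨d, rfl⟩ := Submodule.mem_span_singleton.1 hw
      rw [map_smul, map_mul, map_mul, Module.End.mul_apply, Module.End.mul_apply]
      refine Submodule.smul_mem _ _ ?_
      rw [← hxe, ← ht, suMap_inv_apply, LinearMap.map_smul (suMap 4 F q g), show suMap 4 F q g v = c • v by rw [← hU]; exact hgv,
        LinearMap.map_smul (suMap 4 F q t), LinearMap.map_smul (suMap 4 F q t), LinearMap.map_smul (suMap 4 F q t), smul_comm]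
      exact Submodule.smul_mem _ _ (Submodule.mem_span_singleton_self _)
    · obtain ⟨x₀, hx₀⟩ := h.exists_map_isoTuples hy hu
      have hdet : HU.det B x₀ ∈ (isoStab (fun u v => B u v) W₀).map (HU.det B) := by
        rw [h.isoStab_det_range W₀ hW₀ hWiso]; exact ⟨x₀, rfl⟩
      obtain ⟨s, hs, hsd⟩ := hdet
      have hx : s⁻¹ * x₀ ∈ HSU B := by rw [MonoidHom.mem_ker, map_mul, map_inv, hsd, inv_mul_cancel]
      have hmem : ∀ i, ((s⁻¹ * x₀ : HU B) : (Fin 4 → F) ≃ₗ[F] (Fin 4 → F)) (y i) ∈ W₀ := fun i => by
        have h1 : ((s⁻¹ : HU B) : (Fin 4 → F) ≃ₗ[F] (Fin 4 → F)) (u i) ∈ W₀ :=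
          ((inv_mem hs : s⁻¹ ∈ isoStab (fun u v => B u v) W₀) (u i)).1 (Submodule.subset_span ⟨i, rfl⟩)
        simpa [hx₀] using h1
      obtain ⟨t, ht⟩ := exists_su hF hx
      refine ⟨t, Or.inr (mem_subStab_of_le fun w hw => ?_)⟩
      have hgen : (Submodule.span F (Set.range y)).map (suMap 4 F q t) = W₀ := by
        refine Submodule.eq_of_le_of_finrank_eq ?_ ?_
        · rw [Submodule.map_span_le]
          rintro _ ⟨i, rfl⟩
          rw [ht]; exact hmem i
        · rw [← (Submodule.equivMapOfInjective _ (suMap_injective_apply t) _).finrank_eq,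
            finrank_span_eq_card hy.1, Fintype.card_fin, hW₀]
      rw [← hgen] at hw
      obtain ⟨z, hz, rfl⟩ := hw
      rw [map_mul, map_mul, Module.End.mul_apply, Module.End.mul_apply, suMap_inv_apply, ← hgen]
      refine Submodule.mem_map_of_mem ?_
      have hle : Submodule.span F (Set.range y) ≤ (Submodule.span F (Set.range y)).comap (suMap 4 F q g) := by
        rw [Submodule.span_le]
        rintro _ ⟨i, rfl⟩
        show suMap 4 F q g (y i) ∈ Submodule.span F (Set.range y)
        rw [← hU]; exact hgy i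
      exact hle hz

end CfsgLib.Known.CoverTwo
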