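import Cfsg.Agent.Lib.Known.CoverTwo.SympModel
import Cfsg.Agent.Lib.Known.CoverTwo.UnitaryFour

/-!
# `PSU₃`, `q` a power of three: stabilisers of a point and of a cubic field structure
-/

set_option autoImplicit false
set_option linter.unusedSectionVars false
set_option linter.unusedSimpArgs false
set_option linter.style.haveILetI false

namespace CfsgLib.Known.CoverTwo

open CfsgLib.Classical CfsgLib.Classical.Herm Polynomial

variable {F : Type*} [Field F] {σ : F →+* F} {V : Type*} [AddCommGroup V] [Module F V] {B : V →ₛₗ[σ] V →ₗ[F] F}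

/-- Two independent vectors of a three dimensional unitary space cannot span a totally isotropic plane. -/
theorem not_iso_plane (h : IsHerm B) (hV : Module.finrank F V = 3) [FiniteDimensional F V] {v w : V}
    (hli : LinearIndependent F ![v, w]) (hvv : B v v = 0) (hvw : B v w = 0) (hww : B w w = 0) : False := by
  have hwv := h.eq_zero_symm hvw
  obtain ⟨y, hy⟩ := h.exists_apply_eq_one (show v ≠ 0 from hli.ne_zero 0)
  set x := w - σ (B w y) • v with hx
  have hxv : B x v = 0 := by rw [hx, sub_left, Herm.smul_left, hwv, hvv, mul_zero, sub_zero]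
  have hxw : B x w = 0 := by rw [hx, sub_left, Herm.smul_left, hww, hvw, mul_zero, sub_zero]
  have hxy : B x y = 0 := by rw [hx, sub_left, Herm.smul_left, hy, h.invol.invol, mul_one, sub_self]
  have hx0 : x ≠ 0 := fun h0 => by
    have := (LinearIndependent.pair_iff.1 hli) (-σ (B w y)) 1 (by rw [← h0, hx]; module)
    exact one_ne_zero this.2
  have hli3 : LinearIndependent F ![v, w, y] := by
    rw [Fintype.linearIndependent_iff]
    intro c hc
    simp [Fin.sum_univ_three] at hc
    have e := congrArg (B v) hc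
    simp [hvv, hvw, hy] at e
    rw [e, zero_smul, add_zero] at hc
    obtain ⟨e0, e1⟩ := LinearIndependent.pair_iff.1 hli (c 0) (c 1) hc
    intro i; fin_cases i <;> assumption
  refine hx0 (h.nondeg x fun u => ?_)
  obtain ⟨c, rfl⟩ := (Submodule.mem_span_range_iff_exists_fun F).1
    (((hli3.span_eq_top_of_card_eq_finrank (by simp [hV])).symm ▸ Submodule.mem_top :
      u ∈ Submodule.span F (Set.range ![v, w, y])))
  simp [Fin.sum_univ_three, hxv, hxw, hxy]

/-- In a three dimensional space, a subspace of dimension two contains an anisotropic vector. -/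
theorem exists_aniso_of_finrank (h : IsHerm B) (hV : Module.finrank F V = 3) [FiniteDimensional F V]
    {K : Submodule F V} (hK : 2 ≤ Module.finrank F K) : ∃ v ∈ K, B v v ≠ 0 := by
  by_contra hc
  push Not at hc
  let b := Module.finBasis F K
  let i0 : Fin (Module.finrank F K) := ⟨0, by omega⟩
  let i1 : Fin (Module.finrank F K) := ⟨1, by omega⟩
  have hli : LinearIndependent F ![(b i0 : V), (b i1 : V)] := by
    rw [LinearIndependent.pair_iff]
    intro s t hst
    have hne : i0 ≠ i1 := by simp [i0, i1, Fin.ext_iff]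
    have h0 : s • b i0 + t • b i1 = 0 := Subtype.ext hst
    have e0 := congrArg (fun z => b.repr z i0) h0
    have e1 := congrArg (fun z => b.repr z i1) h0
    simp [hne, hne.symm] at e0 e1
    exact ⟨e0, e1⟩
  refine not_iso_plane h hV hli (hc _ (b i0).2) ?_ (hc _ (b i1).2)
  by_contra hb
  obtain ⟨a, ha⟩ := h.invol.exists_trace_ne_zero
  have hk := hc _ (K.add_mem (K.smul_mem 1 (b i0).2) (K.smul_mem (a / B (b i0 : V) (b i1 : V)) (b i1).2))
  simp only [h.apply_smul_add, hc _ (b i0).2, hc _ (b i1).2, map_one, one_mul, mul_zero, add_zero, zero_add,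
    div_mul_cancel₀ _ hb] at hk
  exact ha hk

/-- A normalised generator for a nilpotent skew map of nilpotency three. -/
theorem exists_gen_herm [Finite F] (h3 : (3 : F) = 0) (h : IsHerm B) {X : Module.End F V}
    (hX : ∀ a b, B (X a) b = -B a (X b)) (hX3 : X ^ 3 = 0) (hX2 : X ^ 2 ≠ 0) :
    ∃ y, B y y = 0 ∧ B y (X y) = 0 ∧ B y (X (X y)) = 1 := by
  have e3 : ∀ v, X (X (X v)) = 0 := fun v => by
    rw [← Module.End.mul_apply, ← Module.End.mul_apply, show X * X * X = X ^ 3 by noncomm_ring, hX3]; rfl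
  have hsym : ∀ a b, σ (B a (X (X b))) = B b (X (X a)) := fun a b => by
    rw [h.symm, hX, hX, neg_neg]
  obtain ⟨x, hx⟩ : ∃ x, B x (X (X x)) ≠ 0 := by
    by_contra hc
    push Not at hc
    refine hX2 (LinearMap.ext fun v => h.nondeg _ fun u => ?_)
    rw [pow_two, Module.End.mul_apply]
    have key : B u (X (X v)) = 0 := by
      obtain ⟨t, ht⟩ := h.invol.exists_trace_ne_zero
      by_contra hne
      set k := t / B u (X (X v))
      have h1 := hc (u + k • v)
      simp only [map_add, map_smul, LinearMap.add_apply, Herm.smul_left, hc, smul_eq_mul, mul_zero, add_zero,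
        zero_add, ← hsym u v, ← map_mul] at h1
      rw [div_mul_cancel₀ _ hne] at h1
      exact ht (by linear_combination h1)
    rw [← h.symm, key, map_zero]
  obtain ⟨a, ha⟩ := h.invol.exists_norm_eq (μ := (B x (X (X x)))⁻¹) (by rw [map_inv₀, hsym])
  obtain ⟨x, hx⟩ : ∃ x, B x (X (X x)) = 1 := ⟨a • x, by
    simp only [map_smul, Herm.smul_left, smul_eq_mul]
    rw [← mul_assoc, ha, inv_mul_cancel₀ hx]⟩
  have hskew : σ (B x (X x)) = -B x (X x) := by rw [h.symm, hX]
  set y₁ := x + B x (X x) • X x with hy₁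
  have k1 : B y₁ (X y₁) = 0 := by
    simp only [hy₁, map_add, map_smul, LinearMap.add_apply, Herm.smul_left, hX, e3, map_zero, hskew, hx,
      smul_eq_mul]
    linear_combination (B x (X x)) * h3
  have k2 : B y₁ (X (X y₁)) = 1 := by
    simp only [hy₁, map_add, map_smul, LinearMap.add_apply, Herm.smul_left, hX, e3, map_zero, hx, smul_eq_mul]
    ring
  refine ⟨y₁ + B y₁ y₁ • X (X y₁), ?_, ?_, ?_⟩
  · simp only [map_add, map_smul, LinearMap.add_apply, Herm.smul_left, hX, e3, map_zero, neg_neg,
      h.self_fixed, k2, smul_eq_mul]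
    linear_combination (B y₁ y₁) * h3
  · simp only [map_add, map_smul, LinearMap.add_apply, Herm.smul_left, hX, e3, map_zero, neg_zero,
      k1, smul_eq_mul]
    ring
  · simp only [map_add, map_smul, LinearMap.add_apply, Herm.smul_left, hX, e3, map_zero, neg_zero,
      k2, smul_eq_mul]
    ring

/-- Nilpotent skew maps of nilpotency three are conjugate by an isometry. -/
theorem conj_three_herm [Finite F] [FiniteDimensional F V] {V' : Type*} [AddCommGroup V'] [Module F V']
    [FiniteDimensional F V'] {B' : V' →ₛₗ[σ] V' →ₗ[F] F} (h3 : (3 : F) = 0) (h : IsHerm B) (h' : IsHerm B')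
    (hd : Module.finrank F V = 3) (hd' : Module.finrank F V' = 3) {X : Module.End F V} {X' : Module.End F V'}
    (hX : ∀ a b, B (X a) b = -B a (X b)) (hX' : ∀ a b, B' (X' a) b = -B' a (X' b)) (hX3 : X ^ 3 = 0)
    (hX3' : X' ^ 3 = 0) (hX2 : X ^ 2 ≠ 0) (hX2' : X' ^ 2 ≠ 0) :
    ∃ Φ : V ≃ₗ[F] V', (∀ u v, B' (Φ u) (Φ v) = B u v) ∧ ∀ v, Φ (X v) = X' (Φ v) := by
  obtain ⟨y, a0, a1, a2⟩ := exists_gen_herm h3 h hX hX3 hX2
  obtain ⟨y', b0, b1, b2⟩ := exists_gen_herm h3 h' hX' hX3' hX2'
  have val : ∀ k, B y ((X ^ k) y) = if k = 2 then 1 else 0 := fun k => by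
    rcases lt_or_ge k 3 with hlt | hge
    · interval_cases k <;> simp [pow_two, a0, a1, a2]
    · rw [pow_zero_of_le hX3 hge, map_zero, if_neg (by omega)]
  have val' : ∀ k, B' y' ((X' ^ k) y') = if k = 2 then 1 else 0 := fun k => by
    rcases lt_or_ge k 3 with hlt | hge
    · interval_cases k <;> simp [pow_two, b0, b1, b2]
    · rw [pow_zero_of_le hX3' hge, map_zero, if_neg (by omega)]
  obtain ⟨Φ, hΦ, hw, hT⟩ := exists_isometry_of_gram B B' (fun i : Fin 3 => (X ^ (i : ℕ)) y)
    (fun i : Fin 3 => (X' ^ (i : ℕ)) y') Fin.rev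
    (fun i => by
      rw [skew_pow hX, val, if_pos (by rw [Fin.val_rev]; omega), mul_one]
      exact pow_ne_zero _ (neg_ne_zero.2 one_ne_zero))
    (fun i j hj => by
      rw [skew_pow hX, val, if_neg (by rw [Fin.val_rev]; have := Fin.val_ne_of_ne hj; omega), mul_zero])
    (fun i j => by rw [skew_pow hX, skew_pow hX', val, val']) (by simp [hd]) (by simp [hd'])
  refine ⟨Φ, hΦ, hT X X' fun i => ?_⟩
  rw [pow_succ_apply, pow_succ_apply]
  rcases lt_or_ge ((i : ℕ) + 1) 3 with hi | hi
  · exact hw ⟨(i : ℕ) + 1, hi⟩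
  · rw [pow_zero_of_le hX3 hi, pow_zero_of_le hX3' hi, map_zero]

section Model

variable [Fintype F] {q : ℕ} (hF : Fintype.card F = q ^ 2) {L : Type*} [Field L] [Fintype L] [Algebra F L]
  (hL2 : Fintype.card L = (q ^ 3) ^ 2) (hL : Module.finrank F L = 3)

include hF hL2 in
theorem powHom_algebraMap (r : F) :
    powHom hL2 (algebraMap F L r) = algebraMap F L (powHom hF r) := by
  rw [powHom_apply, powHom_apply, ← map_pow]
  congr 1
  rw [pow_succ, pow_mul, ← hF, FiniteField.pow_card]

include hF hL2 hL in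
theorem trace_powHom (x : L) :
    Algebra.trace F L (powHom hL2 x) = powHom hF (Algebra.trace F L x) := by
  refine (algebraMap F L).injective ?_
  rw [← powHom_algebraMap hF hL2, trace_galGen hL, trace_galGen hL, powHom_apply, powHom_apply, map_pow,
    map_pow, ← powHom_apply hL2, ← powHom_apply hL2, ← powHom_apply hL2, ← powHom_apply hL2, map_add, map_add]

/-- The hermitian trace form. -/
noncomputable def trHerm : L →ₛₗ[powHom hF] L →ₗ[F] F :=
  LinearMap.mk₂'ₛₗ (powHom hF) (RingHom.id F) (fun x y => Algebra.trace F L (powHom hL2 x * y))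
    (fun a b c => by rw [map_add, add_mul, map_add])
    (fun r a b => by
      rw [Algebra.smul_def, map_mul (powHom hL2), powHom_algebraMap hF hL2, mul_assoc, ← Algebra.smul_def, map_smul])
    (fun a b c => by rw [mul_add, map_add]) (fun r a b => by rw [mul_smul_comm, map_smul, RingHom.id_apply])

theorem trHerm_apply (x y : L) : trHerm hF hL2 x y = Algebra.trace F L (powHom hL2 x * y) := rfl

include hL in
theorem trHerm_isHerm : IsHerm (trHerm hF hL2) := by
  haveI : FiniteDimensional F L := Module.Finite.of_finite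
  refine ⟨powHom_isInvol hF, fun x y => ?_, fun x hx => ?_⟩
  · rw [trHerm_apply, trHerm_apply, ← trace_powHom hF hL2 hL, map_mul, (powHom_isInvol hL2).invol, mul_comm]
  · have h0 : powHom hL2 x = 0 := (traceForm_nondegenerate F L).1 _ fun y => by
      rw [Algebra.traceForm_apply]; exact hx y
    exact (powHom hL2).injective (by rw [h0, map_zero])

include hF hL2 in
theorem galGen_powHom (x : L) :
    galGen F L (powHom hL2 x) = powHom hL2 (galGen F L x) := by
  rw [powHom_apply, powHom_apply, map_pow]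

include hL in
theorem galGen_iso (x y : L) :
    trHerm hF hL2 (galGen F L x) (galGen F L y) = trHerm hF hL2 x y := by
  rw [trHerm_apply, trHerm_apply, ← galGen_powHom hF hL2, ← map_mul]
  exact Algebra.trace_eq_of_algEquiv _ _

end Model

variable [Fintype F] [FiniteDimensional F V] {q : ℕ}

/-- A map with irreducible characteristic polynomial is multiplication in a cubic field model. -/
theorem field_of_irreducible {L : Type*} [Field L] [Fintype L] [Algebra F L] (hF : Fintype.card F = q ^ 2)
    {B : V →ₛₗ[powHom hF] V →ₗ[F] F} (h : IsHerm B) (hV : Module.finrank F V = 3)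
    (hL2 : Fintype.card L = (q ^ 3) ^ 2) (hL : Module.finrank F L = 3) {g gi : Module.End F V}
    (h12 : g * gi = 1) (h21 : gi * g = 1) (hg : ∀ a b, B (g a) (g b) = B a b)
    (hroot : ∀ c, ¬ g.charpoly.IsRoot c) :
    ∃ Φ : L ≃ₗ[F] V, (∀ x y, B (Φ x) (Φ y) = trHerm hF hL2 x y) ∧ SemiLin L Φ g := by
  classical
  haveI : FiniteDimensional F L := Module.Finite.of_finite
  haveI : Nontrivial V := Module.nontrivial_of_finrank_pos (R := F) (by omega)
  set f := g.charpoly
  have hm : f.Monic := LinearMap.charpoly_monic g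
  have hdeg : f.natDegree = 3 := by rw [LinearMap.charpoly_natDegree, hV]
  have hf : Irreducible f := (hm.irreducible_iff_roots_eq_zero_of_degree_le_three (by omega) (by omega)).2 (by
    refine Multiset.eq_zero_of_forall_notMem fun c hc => hroot c ?_
    exact (mem_roots hm.ne_zero).1 hc)
  haveI := Fact.mk hf
  haveI : Module.Finite F (AdjoinRoot f) := hm.finite_adjoinRoot
  haveI : Finite (AdjoinRoot f) := Module.finite_of_finite F
  have hdim : Module.finrank F (AdjoinRoot f) = 3 := by
    rw [(AdjoinRoot.powerBasis hf.ne_zero).finrank, AdjoinRoot.powerBasis_dim, hdeg]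
  obtain ⟨j⟩ := (FiniteField.nonempty_algHom_iff_finrank_dvd (F := F) (K := L) (L := AdjoinRoot f)).2
    (by rw [hL, hdim])
  let je := AlgEquiv.ofBijective j ⟨j.toRingHom.injective,
    (LinearMap.injective_iff_surjective_of_finrank_eq_finrank (f := j.toLinearMap) (by rw [hL, hdim])).1
      j.toRingHom.injective⟩
  let ι₀ : AdjoinRoot f →ₐ[F] Module.End F V := Ideal.Quotient.liftₐ _ (aeval g) fun p hp => by
    obtain ⟨r, rfl⟩ := Ideal.mem_span_singleton'.1 hp
    rw [map_mul, show aeval g f = 0 from LinearMap.aeval_self_charpoly g, mul_zero]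
  let ι : L →ₐ[F] Module.End F V := ι₀.comp je.toAlgHom
  let θ : L := je.symm (AdjoinRoot.root f)
  have hιθ : ι θ = g := by
    show ι₀ (je (je.symm _)) = g
    rw [je.apply_symm_apply]
    exact aeval_X g
  have hgen : ∀ z, ∃ p : F[X], z = aeval θ p := fun z => by
    obtain ⟨p, hp⟩ := AdjoinRoot.mk_surjective (je z)
    refine ⟨p, ?_⟩
    rw [aeval_algHom_apply, AdjoinRoot.aeval_eq, hp, je.symm_apply_apply]
  have hθ0 : θ ≠ 0 := fun h0 => by
    have := hιθ
    rw [h0, map_zero] at this
    rw [← this, zero_mul] at h12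
    exact zero_ne_one h12
  have hιinv : ι θ⁻¹ = gi := by
    calc ι θ⁻¹ = ι θ⁻¹ * (g * gi) := by rw [h12, mul_one]
      _ = gi := by rw [← mul_assoc, ← hιθ, ← map_mul, inv_mul_cancel₀ hθ0, map_one, one_mul]
  have hgi : ∀ a b, B (gi a) b = B a (g b) := fun a b => by
    rw [← hg (gi a) b, ← Module.End.mul_apply g gi, h12, Module.End.one_apply]
  have hadj : ∀ z, ∃ z', ∀ a b, B (ι z' a) b = B a (ι z b) := fun z => by
    obtain ⟨p, rfl⟩ := hgen z
    induction p using Polynomial.induction_on' with
    | add p r hp hr =>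
      obtain ⟨z₁, hz₁⟩ := hp
      obtain ⟨z₂, hz₂⟩ := hr
      exact ⟨z₁ + z₂, fun a b => by simp [map_add, hz₁, hz₂]⟩
    | monomial n r =>
      refine ⟨algebraMap F L (powHom hF r) * θ⁻¹ ^ n, fun a b => ?_⟩
      have hp : ∀ (n : ℕ) a b, B ((gi ^ n) a) b = B a ((g ^ n) b) := fun n => by
        induction n with
        | zero => intro a b; rfl
        | succ n ih =>
          intro a b
          rw [pow_succ, pow_succ', Module.End.mul_apply, Module.End.mul_apply, ih, hgi]
      rw [aeval_monomial, map_mul, map_mul, map_pow, map_pow, hιθ, hιinv, AlgHom.commutes, AlgHom.commutes,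
        Module.End.mul_apply, Module.End.mul_apply, Module.algebraMap_end_apply, Module.algebraMap_end_apply,
        Herm.smul_left, (powHom_isInvol hF).invol, map_smul, smul_eq_mul, hp]
  choose jc hjc using hadj
  have huniq : ∀ z z', (∀ a b, B (ι z' a) b = B a (ι z b)) → jc z = z' := fun z z' hz' =>
    ι.toRingHom.injective (LinearMap.ext fun a => sub_eq_zero.1 (h.nondeg _ fun b => by
      rw [sub_left]
      show B (ι (jc z) a) b - B (ι z' a) b = 0
      rw [hjc, hz', sub_self]))
  let J : L →+* L :=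
    { toFun := jc
      map_one' := huniq 1 1 fun a b => by rw [map_one]; rfl
      map_mul' := fun x y => huniq _ _ fun a b => by
        rw [map_mul, Module.End.mul_apply, hjc, hjc, ← Module.End.mul_apply, ← map_mul, mul_comm y]
      map_zero' := huniq 0 0 fun a b => by simp
      map_add' := fun x y => huniq _ _ fun a b => by simp [map_add, hjc] }
  have hJJ : ∀ z, jc (jc z) = z := fun z => huniq _ _ fun a b => by
    rw [← h.symm b, ← hjc, h.symm]
  have hJF : ∀ r : F, jc (algebraMap F L r) = algebraMap F L (powHom hF r) := fun r => huniq _ _ fun a b => by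
    rw [AlgHom.commutes, AlgHom.commutes, Module.algebraMap_end_apply, Module.algebraMap_end_apply,
      Herm.smul_left, (powHom_isInvol hF).invol, map_smul, smul_eq_mul]
  let e₀ : L →ₐ[F] L := { J.comp (powHom hL2) with
    commutes' := fun r => by
      show jc (powHom hL2 (algebraMap F L r)) = _
      rw [powHom_algebraMap hF hL2, hJF, (powHom_isInvol hF).invol] }
  let e : L ≃ₐ[F] L := AlgEquiv.ofBijective e₀ (Finite.injective_iff_bijective.1 e₀.toRingHom.injective)
  have he : ∀ z, e z = jc (powHom hL2 z) := fun _ => rfl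
  have he3 : ∀ z, e (e (e z)) = z := fun z => by
    have h := pow_card_eq_one' (G := L ≃ₐ[F] L) (x := e)
    rw [IsGalois.card_aut_eq_finrank, hL] at h
    exact congrFun (congrArg DFunLike.coe h) z
  have he2 : ∀ z, e (e z) = z := fun z => by
    rw [he, he, show powHom hL2 (jc (powHom hL2 z)) = J (powHom hL2 (powHom hL2 z)) by
      simp only [powHom_apply]; exact (map_pow J _ _).symm]
    show jc (jc _) = z
    rw [hJJ, (powHom_isInvol hL2).invol]
  have hjτ : ∀ z, jc z = powHom hL2 z := fun z => by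
    have h1 : e (powHom hL2 z) = powHom hL2 z := by
      conv_rhs => rw [← he3 (powHom hL2 z), he2]
    rwa [he, (powHom_isInvol hL2).invol] at h1
  have hιadj : ∀ x a b, B (ι x a) b = B a (ι (powHom hL2 x) b) := fun x a b => by
    rw [← hjc, hjτ, (powHom_isInvol hL2).invol]
  obtain ⟨v, hv⟩ := exists_ne (0 : V)
  obtain ⟨η, hη⟩ : ∃ η : L, ∀ y, Algebra.trace F L (η * y) = B v (ι y v) := by
    let φ : Module.Dual F L :=
      { toFun := fun y => B v (ι y v), map_add' := fun a b => by simp, map_smul' := fun r a => by simp }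
    exact ⟨((Algebra.traceForm F L).toDual (traceForm_nondegenerate F L)).symm φ, fun y =>
      LinearMap.BilinForm.apply_toDual_symm_apply (hB := traceForm_nondegenerate F L) φ y⟩
  have hcancel : ∀ (z : L) (a : V), ι z a = 0 → a ≠ 0 → z = 0 := fun z a hz ha => by
    by_contra h0
    refine ha ?_
    have := congrArg (ι z⁻¹) hz
    rwa [← Module.End.mul_apply, ← map_mul, inv_mul_cancel₀ h0, map_one, map_zero, Module.End.one_apply] at this
  let e1 : L →ₗ[F] V := (LinearMap.applyₗ v).comp ι.toLinearMap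
  have he1 : Function.Surjective e1 :=
    (LinearMap.injective_iff_surjective_of_finrank_eq_finrank (by rw [hL, hV])).1
      ((injective_iff_map_eq_zero e1).2 fun z hz => hcancel z v hz hv)
  have hη0 : η ≠ 0 := fun h0 => by
    refine hv (h.nondeg v fun b => ?_)
    obtain ⟨y, rfl⟩ := he1 b
    show B v (ι y v) = 0
    rw [← hη, h0, zero_mul, map_zero]
  have hηfix : powHom hL2 η = η := by
    refine sub_eq_zero.1 ((traceForm_nondegenerate F L).1 _ fun y => ?_)
    rw [Algebra.traceForm_apply, sub_mul, map_sub, hη, sub_eq_zero,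
      show powHom hL2 η * y = powHom hL2 (η * powHom hL2 y) by rw [map_mul, (powHom_isInvol hL2).invol],
      trace_powHom hF hL2 hL, hη, h.symm, hιadj, (powHom_isInvol hL2).invol]
  obtain ⟨c, hc⟩ := (powHom_isInvol hL2).exists_norm_eq hηfix
  have hc0 : c ≠ 0 := fun h0 => hη0 (by rw [← hc, h0, zero_mul])
  let P : L →ₗ[F] V := e1.comp (LinearMap.mulLeft F c⁻¹)
  have hP : ∀ x, P x = ι (c⁻¹ * x) v := fun _ => rfl
  have hPB : ∀ x y, B (P x) (P y) = trHerm hF hL2 x y := fun x y => by
    rw [hP, hP, hιadj, ← Module.End.mul_apply, ← map_mul, ← hη, trHerm_apply, ← hc, map_mul (powHom hL2), map_inv₀ (powHom hL2)]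
    congr 1
    have : powHom hL2 c ≠ 0 := (_root_.map_ne_zero _).2 hc0
    field_simp
  have hPi : Function.Injective P := by
    rw [injective_iff_map_eq_zero]
    intro x hx
    refine (trHerm_isHerm hF hL2 hL).nondeg x fun y => ?_
    rw [← hPB, hx, Herm.zero_left]
  let Φ := LinearEquiv.ofBijective P ⟨hPi,
    (LinearMap.injective_iff_surjective_of_finrank_eq_finrank (by rw [hL, hV])).1 hPi⟩
  refine ⟨Φ, hPB, semiLin_of_coords Φ (fun x => θ * x) AlgEquiv.refl (fun z w => ?_) fun x => ?_⟩
  · show θ * (z * w) = z * (θ * w)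
    ring
  · show g (ι (c⁻¹ * x) v) = ι (c⁻¹ * (θ * x)) v
    rw [← hιθ, ← Module.End.mul_apply, ← map_mul, mul_left_comm]

/-- The dichotomy in dimension three. -/
theorem cover_three {L : Type*} [Field L] [Fintype L] [Algebra F L] (hF : Fintype.card F = q ^ 2)
    (h3 : (3 : F) = 0) {B : V →ₛₗ[powHom hF] V →ₗ[F] F} (h : IsHerm B) (hV : Module.finrank F V = 3)
    (hL2 : Fintype.card L = (q ^ 3) ^ 2) (hL : Module.finrank F L = 3) {g gi : Module.End F V}
    (h12 : g * gi = 1) (h21 : gi * g = 1) (hg : ∀ a b, B (g a) (g b) = B a b) :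
    (∃ (v : V) (c : F), B v v ≠ 0 ∧ g v = c • v) ∨
      ∃ Φ : L ≃ₗ[F] V, (∀ x y, B (Φ x) (Φ y) = trHerm hF hL2 x y) ∧ SemiLin L Φ g := by
  classical
  haveI : FiniteDimensional F L := Module.Finite.of_finite
  by_cases hroot : ∀ c, ¬ g.charpoly.IsRoot c
  · exact Or.inr (field_of_irreducible hF h hV hL2 hL h12 h21 hg hroot)
  by_cases hA : ∃ (v : V) (c : F), B v v ≠ 0 ∧ g v = c • v
  · exact Or.inl hA
  refine Or.inr ?_
  push Not at hroot hA
  obtain ⟨l, hl⟩ := hroot
  obtain ⟨v, hv⟩ := ((Module.End.hasEigenvalue_iff_isRoot_charpoly g l).2 hl).exists_hasEigenvector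
  have hgv : g v = l • v := hv.apply_eq_smul
  have hvv : B v v = 0 := by
    by_contra hne
    exact hA v l hne hgv
  have hginj : ∀ x, g x = 0 → x = 0 := fun x hx => by
    have := congrArg gi hx
    rwa [← Module.End.mul_apply, h21, map_zero, Module.End.one_apply] at this
  have hl0 : l ≠ 0 := fun h0 => hv.2 (hginj v (by rw [hgv, h0, zero_smul]))
  have hWg : ∀ w, B v w = 0 → B v (g w) = 0 := fun w hw => by
    have h1 := hg v w
    rw [hgv, Herm.smul_left, hw, mul_eq_zero] at h1
    exact h1.resolve_left ((_root_.map_ne_zero _).2 hl0)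
  -- an anisotropic vector orthogonal to `v`
  have hWr : 2 ≤ Module.finrank F (h.perp v) := by
    have h1 := LinearMap.finrank_range_add_finrank_ker (B v)
    have h2 := (LinearMap.range (B v)).finrank_le
    rw [Module.finrank_self] at h2
    rw [hV] at h1
    change _ + Module.finrank F (h.perp v) = 3 at h1
    omega
  obtain ⟨u, hu, huu⟩ := exists_aniso_of_finrank h hV hWr
  have hvu : B v u = 0 := h.mem_perp.1 hu
  have huv : B u v = 0 := h.eq_zero_symm hvu
  have hspan : ∀ w, B v w = 0 → ∃ a b : F, w = a • u + b • v := fun w hw => by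
    set z := w - (B u w / B u u) • u with hz
    have hzu : B u z = 0 := by rw [hz, map_sub, Herm.smul_right, div_mul_cancel₀ _ huu, sub_self]
    have hvz : B v z = 0 := by rw [hz, map_sub, Herm.smul_right, hw, hvu, mul_zero, sub_zero]
    by_cases hzv : ∃ b : F, z = b • v
    · obtain ⟨b, hb⟩ := hzv
      exact ⟨B u w / B u u, b, by rw [← hb, hz, add_sub_cancel]⟩
    push Not at hzv
    exfalso
    have hli : LinearIndependent F ![v, z] := (LinearIndependent.pair_iff' hv.2).2 fun b hb => hzv b hb.symm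
    have huz : B z u = 0 := h.eq_zero_symm hzu
    have hli3 : LinearIndependent F ![v, z, u] := by
      rw [Fintype.linearIndependent_iff]
      intro c hc
      simp [Fin.sum_univ_three] at hc
      have e := congrArg (B u) hc
      simp [huv, hzu, huu] at e
      rw [e, zero_smul, add_zero] at hc
      obtain ⟨e0, e1⟩ := LinearIndependent.pair_iff.1 hli (c 0) (c 1) hc
      intro i; fin_cases i <;> assumption
    refine hv.2 (h.nondeg v fun x => ?_)
    obtain ⟨c, rfl⟩ := (Submodule.mem_span_range_iff_exists_fun F).1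
      (((hli3.span_eq_top_of_card_eq_finrank (by simp [hV])).symm ▸ Submodule.mem_top :
        x ∈ Submodule.span F (Set.range ![v, z, u])))
    simp [Fin.sum_univ_three, hvv, hvz, hvu]
  obtain ⟨k, b, hk⟩ := hspan (g u) (hWg u hvu)
  have hkl : k = l := by
    by_contra hne
    refine hA (u + (b / (k - l)) • v) k ?_ ?_
    · simpa [hvv, hvu, huv] using huu
    · have hne' : k - l ≠ 0 := sub_ne_zero.2 hne
      rw [map_add, map_smul, hk, hgv, smul_add, smul_smul, smul_smul,
        show k * (b / (k - l)) = b + b / (k - l) * l by field_simp; ring]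
      module
  subst hkl
  have hnorm : powHom hF k * k = 1 := by
    have h1 := hg u u
    rw [hk] at h1
    simp only [map_add, map_smul, LinearMap.add_apply, Herm.smul_left, smul_eq_mul, huv, hvu, hvv, mul_zero,
      add_zero, zero_add] at h1
    rw [← mul_assoc, mul_comm k] at h1
    exact (mul_eq_right₀ huu).1 h1
  set N : Module.End F V := k⁻¹ • g - 1 with hN
  have hNw : ∀ w, B v (N w) = 0 := fun w => by
    have h1 := hg v w
    rw [hgv, Herm.smul_left] at h1
    simp only [hN, LinearMap.sub_apply, LinearMap.smul_apply, Module.End.one_apply, map_sub, map_smul, smul_eq_mul]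
    have hk' : k⁻¹ = powHom hF k := inv_eq_of_mul_eq_one_left hnorm
    rw [hk', h1, sub_self]
  have hNu : N u = (k⁻¹ * b) • v := by
    simp [hN, hk, smul_add, smul_smul, hl0]
  have hNv : N v = 0 := by simp [hN, hgv, smul_smul, hl0]
  have hN3 : N ^ 3 = 0 := LinearMap.ext fun w => by
    obtain ⟨a₁, b₁, e⟩ := hspan (N w) (hNw w)
    rw [pow_succ', pow_two, Module.End.mul_apply, Module.End.mul_apply, e, map_add, map_smul, map_smul, hNu, hNv,
      smul_zero, add_zero, smul_smul, map_smul, hNv, smul_zero, LinearMap.zero_apply]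
  have hN6 : N ^ 6 = 0 := pow_eq_zero_of_le (by norm_num) hN3
  have hiso : ∀ a b, B (a + N a) (b + N b) = B a b := fun a b => by
    simp only [hN, LinearMap.sub_apply, LinearMap.smul_apply, Module.End.one_apply, add_sub_cancel,
      Herm.smul_left, map_smul, smul_eq_mul, hg]
    rw [map_inv₀, ← mul_assoc, ← mul_inv, mul_comm k, hnorm, inv_one, one_mul]
  have hX := cay_skew B h3 hN6 hiso
  by_cases hN2 : N ^ 2 = 0
  · exfalso
    have hle : LinearMap.range N ≤ LinearMap.ker N := by
      rintro _ ⟨w, rfl⟩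
      rw [LinearMap.mem_ker, ← Module.End.mul_apply, ← pow_two, hN2, LinearMap.zero_apply]
    have h1 := Submodule.finrank_mono hle
    have h2 := LinearMap.finrank_range_add_finrank_ker N
    rw [hV] at h2
    obtain ⟨w, hw, hww⟩ := exists_aniso_of_finrank h hV (show 2 ≤ Module.finrank F (LinearMap.ker N) by omega)
    refine hA w k hww ?_
    have h4 : k⁻¹ • g w - w = 0 := by simpa [hN] using hw
    rw [sub_eq_zero] at h4
    conv_rhs => rw [← h4]
    rw [smul_smul, mul_inv_cancel₀ hl0, one_smul]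
  have hT : ∀ x y : L, trHerm hF hL2 (x + ((galGen F L).toLinearMap - 1) x) (y + ((galGen F L).toLinearMap - 1) y) =
      trHerm hF hL2 x y := fun x y => by
    simpa using galGen_iso hF hL2 hL x y
  set M : Module.End F L := (galGen F L).toLinearMap - 1 with hM
  have h3' : (3 : L) = 0 := by rw [← map_ofNat (algebraMap F L) 3, h3, map_zero]
  have hM2 : ∀ z, (M ^ 2) z = algebraMap F L (Algebra.trace F L z) := fun z => by
    rw [trace_galGen hL, pow_two, Module.End.mul_apply]
    simp [hM]
    linear_combination (-(galGen F L z)) * h3'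
  have hM3 : M ^ 3 = 0 := LinearMap.ext fun z => by
    rw [pow_succ', Module.End.mul_apply, hM2]
    simp [hM]
  have hM6 : M ^ 6 = 0 := pow_eq_zero_of_le (by norm_num) hM3
  have hMne : M ^ 2 ≠ 0 := fun h0 => by
    obtain ⟨ρ, hρ⟩ := exists_trace_eq_one (F := F) (L := L)
    have h1 := hM2 ρ
    rw [h0, hρ, map_one] at h1
    exact zero_ne_one h1
  obtain ⟨e1, e2⟩ := cay_cube hN3
  obtain ⟨m1, m2⟩ := cay_cube hM3
  obtain ⟨Φ, hΦ, hint⟩ := conj_three_herm h3 (trHerm_isHerm hF hL2 hL) h hL hV
    (cay_skew (trHerm hF hL2) h3 hM6 hT) hX (by rw [cay_pow_eq, hM3, zero_mul])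
    (by rw [cay_pow_eq, hN3, zero_mul]) (by rw [m2]; exact hMne) (by rw [e2]; exact hN2)
  refine ⟨Φ, hΦ, semiLin_of_coords Φ (fun z => k • galGen F L z) (galGen F L) (fun z w => ?_) fun z => ?_⟩
  · simp [mul_smul_comm]
  · have h1 := cay_intertwine (Φ : L →ₗ[F] V) hint z
    rw [cay_cay hM6, cay_cay hN6] at h1
    simp only [LinearEquiv.coe_coe, hM, hN, LinearMap.sub_apply, Module.End.one_apply, map_sub,
      AlgEquiv.toLinearMap_apply, LinearMap.smul_apply, sub_left_inj] at h1
    rw [map_smul, h1, smul_smul, mul_inv_cancel₀ hl0, one_smul]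

/-- `PSU₃` in characteristic three is covered. -/
theorem covered_PSU_three [CharP F 3] (hF : Fintype.card F = q ^ 2) : Covered (Cfsg.PSU 3 F q) := by
  classical
  haveI : Fact (Nat.Prime 3) := ⟨Nat.prime_three⟩
  have h3 : (3 : F) = 0 := by exact_mod_cast CharP.cast_eq_zero F 3
  let L := FiniteField.Extension F 3 3
  have hL : Module.finrank F L = 3 := FiniteField.finrank_extension F 3 3
  haveI : FiniteDimensional F L := Module.Finite.of_finite
  letI : Fintype L := Fintype.ofFinite L
  have hL2 : Fintype.card L = (q ^ 3) ^ 2 := by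
    rw [Module.card_eq_pow_finrank (K := F) (V := L), hL, hF, ← pow_mul, ← pow_mul, mul_comm]
  have h : IsHerm (hermStd 3 hF) := hermStd_isHerm hF
  have hfin : Module.finrank F (Fin 3 → F) = 3 := finrank_std
  set B := hermStd 3 hF
  obtain ⟨b, hb⟩ := h.exists_orthonormal_basis hfin
  have hbb : ∀ i, B (b i) (b i) = 1 := fun i => by rw [hb, if_pos rfl]
  obtain ⟨Φ₀, hΦ₀⟩ := IsHerm.exists_isometry_of_finrank_eq (trHerm_isHerm hF hL2 hL) h (by rw [hL, hfin])
  have hZ := center_scalar (n := 3) hF le_rfl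
  refine covered_quotient (subStab 3 F q (Submodule.span F {b 0})) (semiStab L Φ₀ (suMap 3 F q))
    (center_le_subStab _ hZ) (fun z hz => ?_) ?_ ?_ fun g => ?_
  · obtain ⟨c, hc⟩ := hZ z hz
    exact semiLin_smul Φ₀ hc
  · intro htop
    obtain ⟨x, hx, hxe⟩ := h.exists_det_one_map (x := b 0) (y := b 1) (by rw [hfin]; norm_num)
      (by rw [hbb]; exact one_ne_zero) (by rw [hbb, hbb])
    obtain ⟨t, ht⟩ := exists_su hF hx
    have hm : Submodule.map (suMap 3 F q t) (Submodule.span F {b 0}) = Submodule.span F {b 0} :=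
      (htop ▸ Subgroup.mem_top t : t ∈ subStab 3 F q (Submodule.span F {b 0}))
    have h1 : suMap 3 F q t (b 0) ∈ Submodule.span F {b 0} :=
      hm ▸ Submodule.mem_map_of_mem (Submodule.mem_span_singleton_self _)
    rw [ht, hxe] at h1
    obtain ⟨c, hc⟩ := Submodule.mem_span_singleton.1 h1
    have := congrArg (B (b 1)) hc
    rw [Herm.smul_right, hbb, hb, if_neg (by decide), mul_zero] at this
    exact zero_ne_one this
  · intro htop
    obtain ⟨a, ha, ha1⟩ : ∃ a : Fˣ, (a : F) * powHom hF (a : F) = 1 ∧ (a : F) ≠ 1 := by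
      by_contra hcon
      push Not at hcon
      have h1 := (h.invol).card_norm_fibre (μ := (1 : F)) one_ne_zero (map_one _)
      have h2 : Nat.card {x : F // x * powHom hF x = 1} ≤ 1 := by
        haveI : Subsingleton {x : F // x * powHom hF x = 1} := ⟨fun x y => Subtype.ext (by
          have hx := hcon (Units.mk0 x.1 (left_ne_zero_of_mul_eq_one x.2)) x.2
          have hy := hcon (Units.mk0 y.1 (left_ne_zero_of_mul_eq_one y.2)) y.2
          exact hx.trans hy.symm)⟩
        exact Finite.card_le_one_iff_subsingleton.2 inferInstance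
      rw [h1, card_fixed_powHom hF] at h2
      have := two_le_of_card_sq hF
      omega
    have hai : ((a⁻¹ : Fˣ) : F) * powHom hF ((a⁻¹ : Fˣ) : F) = 1 := by
      rw [Units.val_inv_eq_inv_val, map_inv₀, ← mul_inv, ha, inv_one]
    have he : ∀ i, B (b i) (b i) ≠ 0 := fun i => by rw [hbb]; exact one_ne_zero
    set x : HU B := h.quasiIso (b 0) (he 0) a ha * h.quasiIso (b 1) (he 1) a⁻¹ hai with hxdef
    have hx : x ∈ HSU B := by
      rw [MonoidHom.mem_ker, hxdef, map_mul, h.det_quasiIso, h.det_quasiIso, mul_inv_cancel]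
    obtain ⟨t, ht⟩ := exists_su hF hx
    have hS : SemiLin L Φ₀ (suMap 3 F q t) := (htop ▸ Subgroup.mem_top t : t ∈ semiStab L Φ₀ (suMap 3 F q))
    have q01 : ∀ i, i ≠ 1 → quasi B (b 1) (he 1) a⁻¹ (b i) = b i := fun i hi =>
      quasi_apply_perp _ _ _ (by rw [hb, if_neg (Ne.symm hi)])
    have e2 : suMap 3 F q t (b 2) = (1 : F) • b 2 := by
      rw [ht, hxdef, one_smul]
      show quasi B (b 0) (he 0) a (quasi B (b 1) (he 1) a⁻¹ (b 2)) = _
      rw [q01 2 (by decide), quasi_apply_perp _ _ _ (by rw [hb, if_neg (by decide)])]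
    have e0 : suMap 3 F q t (b 0) = (a : F) • b 0 := by
      rw [ht, hxdef]
      show quasi B (b 0) (he 0) a (quasi B (b 1) (he 1) a⁻¹ (b 0)) = _
      rw [q01 0 (by decide), quasi_apply_self]
    have hc := cube_scalar_of_eigen hL (fun w₀ hw₀ w => ⟨w / w₀, by rw [smul_eq_mul, div_mul_cancel₀ _ hw₀]⟩)
      Φ₀ hS (b.ne_zero 2) e2 (b 0)
    rw [e0, map_smul, e0, map_smul, map_smul, e0, one_pow, one_smul, smul_smul, smul_smul] at hc
    have ha3 : (a : F) * a * a = 1 := by
      have := congrArg (B (b 0)) hc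
      rwa [Herm.smul_right, hbb, mul_one] at this
    have : ((a : F) - 1) ^ 3 = 0 := by
      linear_combination ha3 + ((a : F) - (a : F) * a) * h3
    exact ha1 (sub_eq_zero.1 (pow_eq_zero_iff three_ne_zero |>.1 this))
  · rcases cover_three hF h3 h hfin hL2 hL (g := suMap 3 F q g) (gi := suMap 3 F q g⁻¹)
      (by rw [← map_mul, mul_inv_cancel, map_one]) (by rw [← map_mul, inv_mul_cancel, map_one])
      (suMap_form hF g) with ⟨v, c, hv, hgv⟩ | ⟨Φ, hΦ, hS⟩
    · obtain ⟨s, hs, hsv⟩ := h.scale_to hv (map_one _) one_ne_zero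
      obtain ⟨x, hx, hxe⟩ := h.exists_det_one_map (x := s • v) (y := b 0) (by rw [hfin]; norm_num)
        (by rw [hsv]; exact one_ne_zero) (by rw [hsv, hbb])
      obtain ⟨t, ht⟩ := exists_su hF hx
      refine ⟨t, Or.inl (mem_subStab_of_le fun w hw => ?_)⟩
      obtain ⟨d, rfl⟩ := Submodule.mem_span_singleton.1 hw
      rw [map_smul, map_mul, map_mul, Module.End.mul_apply, Module.End.mul_apply]
      refine Submodule.smul_mem _ _ ?_
      rw [← hxe, ← ht, suMap_inv_apply, LinearMap.map_smul (suMap 3 F q g), hgv, LinearMap.map_smul (suMap 3 F q t),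
        LinearMap.map_smul (suMap 3 F q t), LinearMap.map_smul (suMap 3 F q t), smul_comm]
      exact Submodule.smul_mem _ _ (Submodule.mem_span_singleton_self _)
    · let x₀ : HU B := ⟨Φ.symm.trans Φ₀, fun u v => by
        show B (Φ₀ (Φ.symm u)) (Φ₀ (Φ.symm v)) = B u v
        rw [hΦ₀, ← hΦ, Φ.apply_symm_apply, Φ.apply_symm_apply]⟩
      set d : F := (HU.det B x₀ : F) with hd
      have hdd : d * powHom hF d = 1 := h.det_norm_one x₀
      have hd0 : d ≠ 0 := left_ne_zero_of_mul_eq_one hdd
      -- Hilbert 90 for the determinant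
      obtain ⟨r, hr⟩ : ∃ r : F, r + d * powHom hF r ≠ 0 := by
        by_contra hc
        push Not at hc
        have h1 := hc 1
        rw [map_one, mul_one] at h1
        obtain ⟨r, hr⟩ := h.invol.exists_ne
        exact hr (by linear_combination -(hc r) + powHom hF r * h1)
      set ε := r + d * powHom hF r with hε
      have hεσ : powHom hF ε = powHom hF d * ε := by
        rw [hε, map_add, map_mul, (powHom_isInvol hF).invol]
        linear_combination (-(powHom hF r)) * hdd
      obtain ⟨w, hw⟩ := FiniteField.norm_surjective F L ε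
      have hw0 : w ≠ 0 := fun h0 => hr (by rw [← hw, h0, Algebra.norm_zero])
      set z := powHom hL2 w / w with hzdef
      have hzz : powHom hL2 z * z = 1 := by
        rw [hzdef, map_div₀, (powHom_isInvol hL2).invol]
        have : powHom hL2 w ≠ 0 := (_root_.map_ne_zero _).2 hw0
        rw [div_mul_div_comm, mul_comm w, div_self (mul_ne_zero this hw0)]
      have hNτ : Algebra.norm F (powHom hL2 w) = powHom hF ε := by
        rw [powHom_apply, map_pow, hw, powHom_apply]
        rw [show q ^ 3 = q ^ 2 * q by ring, pow_mul, ← hF, FiniteField.pow_card]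
      have hNz : Algebra.norm F z * d = 1 := by
        have e : Algebra.norm F z * ε = powHom hF ε := by
          rw [← hw, ← map_mul, hzdef, div_mul_cancel₀ _ hw0, hNτ, hw]
        rw [hεσ] at e
        rw [mul_right_cancel₀ (show ε ≠ 0 from hr) e, mul_comm, hdd]
      let D : L ≃ₗ[F] L := LinearEquiv.ofBijective (Algebra.lmul F L z) (by
        have hz0 : z ≠ 0 := right_ne_zero_of_mul_eq_one hzz
        refine ⟨fun x y hxy => mul_left_cancel₀ hz0 hxy, fun y => ⟨z⁻¹ * y, ?_⟩⟩
        show z * (z⁻¹ * y) = y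
        rw [← mul_assoc, mul_inv_cancel₀ hz0, one_mul])
      have hD : ∀ x, D x = z * x := fun _ => rfl
      let X' : (Fin 3 → F) ≃ₗ[F] (Fin 3 → F) := Φ.symm.trans (D.trans Φ₀)
      have hX' : ∀ u v, B (X' u) (X' v) = B u v := fun u v => by
        show B (Φ₀ (D (Φ.symm u))) (Φ₀ (D (Φ.symm v))) = B u v
        rw [hΦ₀, hD, hD, trHerm_apply, map_mul (powHom hL2),
          show powHom hL2 z * powHom hL2 (Φ.symm u) * (z * Φ.symm v) =
            powHom hL2 (Φ.symm u) * Φ.symm v * (powHom hL2 z * z) by ring,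
          hzz, mul_one, ← trHerm_apply hF hL2, ← hΦ, Φ.apply_symm_apply, Φ.apply_symm_apply]
      let x' : HU B := ⟨X', hX'⟩
      have hx' : x' ∈ HSU B := by
        rw [MonoidHom.mem_ker]
        refine Units.ext ?_
        show ((LinearEquiv.det X' : Fˣ) : F) = 1
        rw [LinearEquiv.coe_det]
        have e : (X' : (Fin 3 → F) →ₗ[F] (Fin 3 → F)) =
            ((x₀ : (Fin 3 → F) ≃ₗ[F] (Fin 3 → F)) : (Fin 3 → F) →ₗ[F] (Fin 3 → F)) ∘ₗ
              ((Φ : L →ₗ[F] (Fin 3 → F)) ∘ₗ Algebra.lmul F L z ∘ₗ (Φ.symm : (Fin 3 → F) →ₗ[F] L)) := by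
          refine LinearMap.ext fun u => ?_
          show Φ₀ (D (Φ.symm u)) = Φ₀ (Φ.symm (Φ (z * Φ.symm u)))
          rw [Φ.symm_apply_apply]; rfl
        rw [e, LinearMap.det_comp, LinearMap.det_conj, ← Algebra.norm_apply]
        rw [show LinearMap.det ((x₀ : (Fin 3 → F) ≃ₗ[F] (Fin 3 → F)) : (Fin 3 → F) →ₗ[F] (Fin 3 → F)) = d from
          (LinearEquiv.coe_det _).symm]
        rw [mul_comm, hNz]
      obtain ⟨t, ht⟩ := exists_su hF hx'
      obtain ⟨ψ, hψ⟩ := hS
      refine ⟨t, Or.inr (conj_mem_semiStab (suMap 3 F q) (D.symm.trans Φ) Φ₀ ⟨ψ, fun y u => ?_⟩ fun u => ?_)⟩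
      · have hDy : ∀ y u, D.symm (y • u) = y • D.symm u := fun y u => D.injective (by
          rw [D.apply_symm_apply, hD, smul_eq_mul, smul_eq_mul, mul_left_comm, ← hD, D.apply_symm_apply])
        show D (Φ.symm (suMap 3 F q g (Φ (D.symm (y • u))))) = ψ y • D (Φ.symm (suMap 3 F q g (Φ (D.symm u))))
        rw [hDy, hψ, hD, hD, smul_eq_mul, smul_eq_mul, mul_left_comm]
      · show suMap 3 F q t (Φ (D.symm u)) = Φ₀ u
        rw [ht]
        show Φ₀ (D (Φ.symm (Φ (D.symm u)))) = Φ₀ u
        rw [Φ.symm_apply_apply, D.apply_symm_apply]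

end CfsgLib.Known.CoverTwo
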